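import Cfsg.Agent.USixRec.LocalDef
import Cfsg.Agent.FischerThm.Basic
import Cfsg.Agent.FischerThm.UniTransv
import Cfsg.Agent.FischerThm.Uni.FiveCount
import Cfsg.Agent.FischerPolar.Seed

/-!
# The component of a member for `U₆(2)`

From `LocalU d` the members at distance at most two from `d` form a class of 3-transpositions of the group
they generate, this group is perfect with no solvable normal subgroup, the 2-core below `d` is not central,
and so the component is the transvections of `PSU₆(2)`: the valency `180` leaves nothing else.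
-/

set_option autoImplicit false
set_option linter.unusedSectionVars false
set_option linter.style.haveILetI false

universe u

namespace CfsgLib.USixRec

open Cfsg CfsgLib.FischerTypes CfsgLib.SporFischer
open scoped commutatorElement

variable {G : Type u} [Group G] {d : G}

local notation "𝐃" => conjugatesOf d

namespace LocalU

variable (L : LocalU d)
include L

theorem inv {x : G} (hx : x ∈ 𝐃) : x * x = 1 := by
  obtain ⟨g, rfl⟩ := isConj_iff.1 hx
  rw [show g * d * g⁻¹ * (g * d * g⁻¹) = g * (d * d) * g⁻¹ by group, L.sq, mul_one, mul_inv_cancel]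

theorem one_not_mem : (1 : G) ∉ 𝐃 := fun h => by
  obtain ⟨g, hg⟩ := isConj_iff.1 h
  rw [mul_inv_eq_one, mul_eq_left] at hg
  exact L.ne hg

theorem closed (g : G) {x : G} (hx : x ∈ 𝐃) : g * x * g⁻¹ ∈ 𝐃 :=
  IsConj.trans hx (isConj_iff.2 ⟨g, rfl⟩)

theorem mem_self : d ∈ 𝐃 := IsConj.refl d

theorem mem_d : d ∈ compSet d := ⟨L.mem_self, Or.inl (Commute.refl d)⟩

omit L in
theorem sub {x : G} (hx : x ∈ compSet d) : x ∈ 𝐃 := hx.1

omit L in
theorem subH : compSet d ⊆ compGroup d := Subgroup.subset_closure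

omit L in
theorem conjD {x : G} (hx : x ∈ 𝐃) : IsConj d x := hx

theorem nbr_conj (g : G) {a x : G} (hx : x ∈ nbr 𝐃 a) : g * x * g⁻¹ ∈ nbr 𝐃 (g * a * g⁻¹) :=
  ⟨L.closed g hx.1, fun h => hx.2.1 (mul_left_cancel (mul_right_cancel h)), (commute_conj_iff' g a x).2 hx.2.2⟩

theorem nbr_conj_d {a x : G} {g : G} (hg : g * a * g⁻¹ = d) (hx : x ∈ nbr 𝐃 a) :
    g * x * g⁻¹ ∈ nbr 𝐃 d := hg ▸ L.nbr_conj g hx

theorem nbr_of_conj_d {a x : G} {g : G} (hg : g * a * g⁻¹ = d) (hx : x ∈ nbr 𝐃 d) :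
    g⁻¹ * x * g ∈ nbr 𝐃 a := by
  have h := L.nbr_conj g⁻¹ hx
  rwa [← hg, inv_inv, show g⁻¹ * (g * a * g⁻¹) * g = a by group, hg] at h

omit L in
theorem exists_to_self {a : G} (ha : a ∈ 𝐃) : ∃ g : G, g * a * g⁻¹ = d := isConj_iff.1 ha.symm

theorem braid_at {a : G} (ha : a ∈ 𝐃) {x y : G} (hx : x ∈ nbr 𝐃 a) (hy : y ∈ nbr 𝐃 a)
    (hxy : ¬ Commute x y) : x * y * x = y * x * y := by
  obtain ⟨g, hg⟩ := exists_to_self ha
  have h := L.braid _ (L.nbr_conj_d hg hx) _ (L.nbr_conj_d hg hy) fun h => hxy ((commute_conj_iff' g x y).1 h)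
  rw [show g * x * g⁻¹ * (g * y * g⁻¹) * (g * x * g⁻¹) = g * (x * y * x) * g⁻¹ by group,
    show g * y * g⁻¹ * (g * x * g⁻¹) * (g * y * g⁻¹) = g * (y * x * y) * g⁻¹ by group] at h
  exact mul_left_cancel (mul_right_cancel h)

theorem nbrK {v y : G} (hv : v ∈ compSet d) (hy : y ∈ nbr 𝐃 v) : y ∈ compSet d := L.step v y hv hy

theorem cent {a : G} (ha : a ∈ compSet d) : Subgroup.centralizer ({a} : Set G) ≤ compGroup d := by
  obtain ⟨g, hg⟩ := exists_to_self ha.1
  intro z hz
  have h1 : g * z * g⁻¹ ∈ Subgroup.closure (nbr 𝐃 d) := by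
    rw [← L.gen, Subgroup.mem_centralizer_singleton_iff]
    have := (commute_conj_iff' g z a).2 (Subgroup.mem_centralizer_singleton_iff.1 hz)
    rwa [hg] at this
  have key : ∀ w ∈ Subgroup.closure (nbr 𝐃 d), g⁻¹ * w * g ∈ compGroup d := by
    intro w hw
    induction hw using Subgroup.closure_induction with
    | mem u hu => exact Subgroup.subset_closure (L.nbrK ha (L.nbr_of_conj_d hg hu))
    | one => simp
    | mul u v _ _ iu iv =>
      rw [show g⁻¹ * (u * v) * g = g⁻¹ * u * g * (g⁻¹ * v * g) by group]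
      exact mul_mem iu iv
    | inv u _ iu =>
      rw [show g⁻¹ * u⁻¹ * g = (g⁻¹ * u * g)⁻¹ by group]
      exact inv_mem iu
  have := key _ h1
  rwa [show g⁻¹ * (g * z * g⁻¹) * g = z by group] at this

/-- Two members have distance at most two. -/
theorem mem_ball_of_mem {a b : G} (ha : a ∈ compSet d) (hb : b ∈ compSet d) : b ∈ Geom22.ball 𝐃 a := by
  obtain ⟨g, hg⟩ := exists_to_self ha.1
  have step : ∀ v y, v ∈ Geom22.ball 𝐃 a → y ∈ nbr 𝐃 v → y ∈ Geom22.ball 𝐃 a := by
    intro v y hv hy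
    have hv' : g * v * g⁻¹ ∈ Geom22.ball 𝐃 d := by
      refine ⟨L.closed g hv.1, ?_⟩
      rcases hv.2 with h | ⟨z, hz1, hz2⟩
      · left; have := (commute_conj_iff' g a v).2 h; rwa [hg] at this
      · exact Or.inr ⟨g * z * g⁻¹, L.nbr_conj_d hg hz1, L.nbr_conj g hz2⟩
    obtain ⟨h1, h2⟩ := L.step _ _ hv' (L.nbr_conj g hy)
    refine ⟨hy.1, ?_⟩
    rcases h2 with h | ⟨z, hz1, hz2⟩
    · left; rw [← hg] at h; exact (commute_conj_iff' g a y).1 h
    · refine Or.inr ⟨g⁻¹ * z * g, L.nbr_of_conj_d hg hz1, ?_⟩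
      have := L.nbr_conj g⁻¹ hz2
      rwa [inv_inv, show g⁻¹ * (g * y * g⁻¹) * g = y by group] at this
  have hself : a ∈ Geom22.ball 𝐃 a := ⟨ha.1, Or.inl (Commute.refl a)⟩
  have go : ∀ v y, v ∈ Geom22.ball 𝐃 a → y ∈ 𝐃 → Commute v y → y ∈ Geom22.ball 𝐃 a := fun v y hv hy hc => by
    by_cases e : y = v
    · exact e ▸ hv
    · exact step v y hv ⟨hy, e, hc⟩
  have hd : d ∈ Geom22.ball 𝐃 a := by
    rcases ha.2 with h | ⟨z, hz1, hz2⟩
    · exact go a d hself L.mem_self h.symm
    · exact step z d (step a z hself hz2) (nbr_symm L.mem_self hz1)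
  rcases hb.2 with h | ⟨z, hz1, hz2⟩
  · exact go d b hd hb.1 h
  · exact step z b (step d z hd hz1) (nbr_symm hb.1 hz2)

theorem three : IsThreeTranspositionSet (compSet d) := by
  refine ⟨fun x hx => orderOf_eq_prime (by rw [pow_two, L.inv hx.1]) fun h => L.one_not_mem (h ▸ hx.1),
    fun a ha b hb => ?_⟩
  have ha2 := L.inv ha.1
  have hb2 := L.inv hb.1
  by_cases hc : Commute a b
  · left; rw [hc.mul_pow, pow_two, pow_two, ha2, hb2, one_mul]
  right
  obtain ⟨-, h | ⟨z, hz1, hz2⟩⟩ := L.mem_ball_of_mem ha hb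
  · exact absurd h hc
  have hbr := L.braid_at hz1.1 (nbr_symm ha.1 hz1) (nbr_symm hb.1 hz2) hc
  rw [pow_succ, pow_two]
  calc a * b * (a * b) * (a * b) = a * b * a * (b * a * b) := by group
    _ = a * b * a * (a * b * a) := by rw [hbr]
    _ = a * (b * (a * a) * b) * a := by group
    _ = 1 := by rw [ha2, mul_one, hb2, mul_one, ha2]

theorem conj_adj {u v : G} (hu : u ∈ compSet d) (hv : v ∈ nbr 𝐃 u) : ∃ h ∈ compGroup d, h * u * h⁻¹ = v := by
  obtain ⟨g, hg⟩ := exists_to_self hu.1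
  obtain ⟨w₀, hw₀, hne, hvw⟩ := L.two _ (L.nbr_conj_d hg hv)
  set w := g⁻¹ * w₀ * g with hw
  have hwu : w ∈ nbr 𝐃 u := L.nbr_of_conj_d hg hw₀
  have hwv : w ∈ nbr 𝐃 v := by
    refine ⟨hwu.1, fun e => hne ?_, ?_⟩
    · rw [← e, hw]; group
    · have := (commute_conj_iff' g⁻¹ (g * v * g⁻¹) w₀).2 hvw
      rwa [inv_inv, show g⁻¹ * (g * v * g⁻¹) * g = v by group] at this
  have hvK := L.nbrK hu hv
  -- conjugacy within one neighbourhood
  have key : ∀ a, a ∈ compSet d → ∀ x ∈ nbr 𝐃 a, ∀ y ∈ nbr 𝐃 a, ∃ h ∈ compGroup d, h * x * h⁻¹ = y := by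
    intro a ha x hx y hy
    obtain ⟨k, hk⟩ := exists_to_self ha.1
    obtain ⟨c, hc, hcx⟩ := L.hconj _ (L.nbr_conj_d hk hx) _ (L.nbr_conj_d hk hy)
    refine ⟨k⁻¹ * c * k, L.cent ha (Subgroup.mem_centralizer_singleton_iff.2 ?_), ?_⟩
    · have := (commute_conj_iff' k⁻¹ c (k * a * k⁻¹)).2 (hk.symm ▸ Subgroup.mem_centralizer_singleton_iff.1 hc)
      rwa [inv_inv, show k⁻¹ * (k * a * k⁻¹) * k = a by group] at this
    · calc k⁻¹ * c * k * x * (k⁻¹ * c * k)⁻¹ = k⁻¹ * (c * (k * x * k⁻¹) * c⁻¹) * k := by group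
        _ = y := by rw [hcx]; group
  obtain ⟨h₁, m₁, e₁⟩ := key v hvK u (nbr_symm hu.1 hv) w hwv
  obtain ⟨h₂, m₂, e₂⟩ := key u hu w hwu v hv
  exact ⟨h₂ * h₁, mul_mem m₂ m₁, by rw [← e₂, ← e₁]; group⟩

theorem trans {a b : G} (ha : a ∈ compSet d) (hb : b ∈ compSet d) :
    ∃ h ∈ compGroup d, h * a * h⁻¹ = b := by
  obtain ⟨-, h | ⟨z, hz1, hz2⟩⟩ := L.mem_ball_of_mem ha hb
  · by_cases e : b = a
    · exact ⟨1, one_mem _, by simp [e]⟩
    · exact L.conj_adj ha ⟨hb.1, e, h⟩
  · have hz := L.nbrK ha hz1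
    obtain ⟨h₁, m₁, e₁⟩ := L.conj_adj ha hz1
    obtain ⟨h₂, m₂, e₂⟩ := L.conj_adj hz (nbr_symm hb.1 hz2)
    exact ⟨h₂ * h₁, mul_mem m₂ m₁, by rw [← e₂, ← e₁]; group⟩

theorem conj_mem {g : G} (hg : g ∈ compGroup d) {a : G} (ha : a ∈ compSet d) :
    g * a * g⁻¹ ∈ compSet d := by
  suffices h : ∀ b ∈ compSet d, g * b * g⁻¹ ∈ compSet d ∧ g⁻¹ * b * g ∈ compSet d from (h a ha).1
  clear ha a
  induction hg using Subgroup.closure_induction with
  | mem u hu =>
    intro b hb
    have hui : u⁻¹ = u := inv_eq_of_mul_eq_one_right (L.inv hu.1)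
    have h : u * b * u⁻¹ ∈ compSet d := by
      by_cases hc : Commute u b
      · rwa [hc.eq, mul_inv_cancel_right]
      obtain ⟨-, h | ⟨z, hz1, hz2⟩⟩ := L.mem_ball_of_mem hu hb
      · exact absurd h hc
      have h1 := L.nbr_conj u (nbr_symm hb.1 hz2)
      rw [show u * z * u⁻¹ = z by rw [hz1.2.2.eq, mul_inv_cancel_right]] at h1
      exact L.nbrK (L.nbrK hu hz1) h1
    refine ⟨h, ?_⟩
    rw [hui] at h ⊢
    exact h
  | one => intro b hb; simpa using hb
  | mul u w _ _ iu iw =>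
    intro b hb
    refine ⟨?_, ?_⟩
    · rw [show u * w * b * (u * w)⁻¹ = u * (w * b * w⁻¹) * u⁻¹ by group]
      exact (iu _ (iw b hb).1).1
    · rw [show (u * w)⁻¹ * b * (u * w) = w⁻¹ * (u⁻¹ * b * u) * w by group]
      exact (iw _ (iu b hb).2).2
  | inv u _ iu =>
    intro b hb
    refine ⟨?_, ?_⟩
    · rw [inv_inv]; exact (iu b hb).2
    · rw [inv_inv]; exact (iu b hb).1

theorem group : IsThreeTranspositionGroup (compClass d) := by
  refine ⟨⟨fun x hx => ?_, fun a ha b hb => ?_⟩, fun g x hx => L.conj_mem g.2 hx,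
    Subgroup.closure_closure_coe_preimage⟩
  · rw [← Subgroup.orderOf_coe]; exact L.three.1 _ hx
  · rcases L.three.2 _ ha _ hb with h | h
    · exact Or.inl (Subtype.ext (by simpa using h))
    · exact Or.inr (Subtype.ext (by simpa using h))

theorem exists_noncommuting : ∃ y ∈ compSet d, ¬ Commute d y := by
  obtain ⟨x, hx, y, hy, hxy⟩ := L.noncomm
  obtain ⟨g, hg, hgx⟩ := L.trans (L.nbrK L.mem_d hx) L.mem_d
  refine ⟨g * y * g⁻¹, L.conj_mem hg (L.nbrK L.mem_d hy), fun h => hxy ?_⟩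
  rw [← hgx] at h
  exact (commute_conj_iff' g x y).1 h

theorem center_eq : Subgroup.center ↥(compGroup d) = ⊥ := by
  rw [Subgroup.eq_bot_iff_forall]
  intro z hz
  have hc : ∀ x ∈ compSet d, Commute (z : G) x := fun x hx =>
    (congrArg Subtype.val (Subgroup.mem_center_iff.1 hz ⟨x, subH hx⟩)).symm
  have hzd : (z : G) ∈ Subgroup.centralizer ({d} : Set G) :=
    Subgroup.mem_centralizer_singleton_iff.2 (hc d L.mem_d).eq
  have hall : ∀ g ∈ Subgroup.centralizer ({d} : Set G), Commute (z : G) g := fun g hg => by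
    rw [L.gen] at hg
    have : Subgroup.closure (nbr 𝐃 d) ≤ Subgroup.centralizer ({(z : G)} : Set G) :=
      (Subgroup.closure_le _).2 fun u hu =>
        Subgroup.mem_centralizer_singleton_iff.2 (hc u (L.nbrK L.mem_d hu)).eq.symm
    exact (Subgroup.mem_centralizer_singleton_iff.1 (this hg)).symm
  rcases L.zc _ hzd hall with h | h
  · exact Subtype.ext h
  · obtain ⟨y, hy, hdy⟩ := L.exists_noncommuting
    exact absurd (h ▸ hc y hy) hdy

/-! ### The component as a group -/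

theorem mem_compGroup : d ∈ compGroup d := subH L.mem_d

theorem conjugatesOf_eq :
    compClass d = conjugatesOf (⟨d, L.mem_compGroup⟩ : ↥(compGroup d)) := by
  ext x
  constructor
  · intro hx
    obtain ⟨h, hh, he⟩ := L.trans L.mem_d hx
    exact isConj_iff.2 ⟨⟨h, hh⟩, Subtype.ext he⟩
  · intro hx
    obtain ⟨c, rfl⟩ := isConj_iff.1 hx
    exact L.conj_mem c.2 L.mem_d

/-- The component is a class of 3-transpositions. -/
theorem cls : IsThreeTranspositionClass (compClass d) :=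
  ⟨L.group.1, ⟨⟨d, L.mem_compGroup⟩, L.mem_d, L.conjugatesOf_eq⟩, L.group.2.2⟩

/-- The component is perfect. -/
theorem commutator_eq_top : commutator ↥(compGroup d) = ⊤ := by
  have hle := L.cent L.mem_d
  set C := Subgroup.centralizer ({d} : Set G) with hC
  have hdC : (⟨d, Subgroup.mem_centralizer_singleton_iff.2 rfl⟩ : ↥C) ∈ commutator ↥C := by
    rw [L.perfect]; exact Subgroup.mem_top _
  have h1 := Subgroup.mem_map_of_mem (Subgroup.inclusion hle) hdC
  rw [commutator_def, Subgroup.map_commutator] at h1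
  have h2 : (⟨d, L.mem_compGroup⟩ : ↥(compGroup d)) ∈ commutator ↥(compGroup d) := by
    rw [commutator_def]; exact Subgroup.commutator_mono le_top le_top h1
  rw [eq_top_iff, ← L.group.2.2, Subgroup.closure_le]
  intro x hx
  rw [L.conjugatesOf_eq] at hx
  obtain ⟨c, rfl⟩ := isConj_iff.1 hx
  exact (inferInstance : (commutator ↥(compGroup d)).Normal).conj_mem _ h2 c

/-- The neighbours of `d` are those in the component. -/
theorem image_commSet :
    Subtype.val '' FischerTransitivity.commSet (compClass d) ⟨d, L.mem_compGroup⟩ = nbr 𝐃 d := by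
  ext y
  constructor
  · rintro ⟨x, ⟨hx, hne, hc⟩, rfl⟩
    exact ⟨hx.1, fun e => hne (Subtype.ext e), congrArg Subtype.val hc.eq⟩
  · intro hy
    have hm := L.nbrK L.mem_d hy
    exact ⟨⟨y, subH hm⟩, ⟨hm, fun e => hy.2.1 (congrArg Subtype.val e), Subtype.ext hy.2.2.eq⟩, rfl⟩

theorem commSet_ncard :
    (FischerTransitivity.commSet (compClass d) ⟨d, L.mem_compGroup⟩).ncard = 180 := by
  rw [← Set.ncard_image_of_injective _ Subtype.val_injective, L.image_commSet, L.valency]

/-- The 2-core of the partners of `d` is not central. -/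
theorem core_comp [Finite G] :
    ¬ pCore 2 ↥(Subgroup.closure (FischerTransitivity.commSet (compClass d) ⟨d, L.mem_compGroup⟩)) ≤
      Subgroup.center _ := by
  set S := Subgroup.closure (FischerTransitivity.commSet (compClass d) ⟨d, L.mem_compGroup⟩) with hS
  have hmap : S.map (compGroup d).subtype = Subgroup.centralizer ({d} : Set G) := by
    rw [hS, MonoidHom.map_closure, L.gen]
    exact congrArg _ L.image_commSet
  let e : ↥S ≃* ↥(Subgroup.centralizer ({d} : Set G)) :=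
    (S.equivMapOfInjective (compGroup d).subtype Subtype.val_injective).trans (MulEquiv.subgroupCongr hmap)
  intro h
  refine L.core ?_
  rw [← PLocal.map_pCore_equiv e, ← FischerThm.Uni.map_center_eq e]
  exact Subgroup.map_mono h

/-- The component has no solvable normal subgroup. -/
theorem hsol [Finite G] : ∀ N : Subgroup ↥(compGroup d), N.Normal → Group.IsSolvable ↥N → N = ⊥ := by
  intro N hN hNs
  have hperf := L.commutator_eq_top
  have hle := L.cent L.mem_d
  set C := Subgroup.centralizer ({d} : Set G) with hC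
  set ι := Subgroup.inclusion hle
  set t : ↥(compGroup d) := ⟨d, L.mem_compGroup⟩
  haveI := hNs
  haveI : (N.comap ι).Normal := hN.comap ι
  have hsv : Group.IsSolvable ↥(N.comap ι) :=
    Group.isSolvable_of_isSolvable_injective (f := ι.subgroupComap N) fun a b h =>
      Subtype.ext (Subgroup.inclusion_injective hle (congrArg Subtype.val h))
  rcases L.solv _ inferInstance hsv with h | ⟨hd, hdN⟩
  swap
  · have hN' : N = ⊤ := by
      rw [eq_top_iff, ← L.group.2.2, Subgroup.closure_le]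
      intro x hx
      rw [L.conjugatesOf_eq] at hx
      obtain ⟨c, rfl⟩ := isConj_iff.1 hx
      exact hN.conj_mem _ (show t ∈ N from hdN) c
    subst hN'
    haveI hGs : Group.IsSolvable ↥(compGroup d) :=
      Group.isSolvable_of_surjective (f := (⊤ : Subgroup ↥(compGroup d)).subtype) fun x => ⟨⟨x, trivial⟩, rfl⟩
    haveI : Nontrivial ↥(compGroup d) := ⟨⟨t, 1, fun e => L.ne (congrArg Subtype.val e)⟩⟩
    exact absurd hperf (Group.IsSolvable.commutator_lt_top_of_nontrivial _).ne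
  have hfix : ∀ x ∈ compClass d, ∀ n ∈ N, Commute x n → n = 1 := by
    intro x hx n hn hc
    obtain ⟨g, hg, he⟩ := L.trans hx L.mem_d
    set g' : ↥(compGroup d) := ⟨g, hg⟩
    have he' : g' * x * g'⁻¹ = t := Subtype.ext he
    have hm : g' * n * g'⁻¹ ∈ N := hN.conj_mem n hn g'
    have hcd : Commute (d : G) ((g' * n * g'⁻¹ : ↥(compGroup d)) : G) :=
      congrArg Subtype.val (he' ▸ (Commute.conj_iff g').2 hc : Commute t (g' * n * g'⁻¹)).eq
    have hmC : ((g' * n * g'⁻¹ : ↥(compGroup d)) : G) ∈ C :=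
      Subgroup.mem_centralizer_singleton_iff.2 hcd.eq.symm
    have h1 : (⟨_, hmC⟩ : ↥C) ∈ N.comap ι := hm
    rw [h, Subgroup.mem_bot] at h1
    have h2 : g' * n * g'⁻¹ = 1 := Subtype.ext (congrArg Subtype.val h1 :)
    exact conj_eq_one_iff.1 h2
  haveI := hN
  have hinvert : ∀ x ∈ compClass d, ∀ n ∈ N, x * n * x⁻¹ = n⁻¹ := by
    intro x hx n hn
    let φ : ↥N →* ↥N := (MulAut.conjNormal x).toMonoidHom
    have hφ : ∀ a : ↥N, ((φ a : ↥N) : ↥(compGroup d)) = x * a * x⁻¹ := fun a =>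
      MulAut.conjNormal_apply x a
    have hf : MonoidHom.FixedPointFree φ := fun a ha => Subtype.ext
      (hfix x hx a a.2 (mul_inv_eq_iff_eq_mul.1 ((hφ a).symm.trans (congrArg Subtype.val ha))))
    have hinv : Function.Involutive φ := fun a => Subtype.ext (by
      rw [hφ, hφ]
      have hx2 : x * x = 1 := Subtype.ext (L.inv hx.1)
      rw [show x * (x * a * x⁻¹) * x⁻¹ = x * x * a * (x * x)⁻¹ by group, hx2, one_mul, inv_one, mul_one])
    have := congrArg Subtype.val (congrFun (hf.coe_eq_inv_of_involutive hinv) ⟨n, hn⟩)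
    rwa [hφ] at this
  -- the centralizer of `N` contains the derived group
  set S := Subgroup.centralizer (N : Set ↥(compGroup d)) with hS
  set q := QuotientGroup.mk' S
  have hq : ∀ x ∈ compClass d, q x = q t := by
    intro x hx
    refine QuotientGroup.eq.2 (Subgroup.mem_centralizer_iff.2 fun n hn => ?_)
    have h1 := hinvert x hx n hn
    have h2 := hinvert t L.mem_d n hn
    calc n * (x⁻¹ * t) = x⁻¹ * (x * n * x⁻¹) * t := by group
      _ = x⁻¹ * (t * n * t⁻¹) * t := by rw [h1, h2]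
      _ = x⁻¹ * t * n := by group
  have hgen : ∀ g, q g ∈ Subgroup.zpowers (q t) := by
    intro g
    have h1 : Subgroup.closure (compClass d) ≤ (Subgroup.zpowers (q t)).comap q :=
      (Subgroup.closure_le _).2 fun x hx => by
        show q x ∈ Subgroup.zpowers (q t)
        rw [hq x hx]; exact Subgroup.mem_zpowers _
    rw [L.group.2.2] at h1
    exact h1 (Subgroup.mem_top g)
  have hSt : commutator ↥(compGroup d) ≤ S := by
    rw [commutator_def, Subgroup.commutator_le]
    intro a _ b _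
    refine (QuotientGroup.eq_one_iff _).1 ?_
    show q ⁅a, b⁆ = 1
    rw [map_commutatorElement, commutatorElement_eq_one_iff_mul_comm]
    obtain ⟨i, hi⟩ := Subgroup.mem_zpowers_iff.1 (hgen a)
    obtain ⟨j, hj⟩ := Subgroup.mem_zpowers_iff.1 (hgen b)
    rw [← hi, ← hj, ← zpow_add, ← zpow_add, add_comm]
  rw [Subgroup.eq_bot_iff_forall]
  intro n hn
  have hts : t ∈ S := hSt (by rw [hperf]; exact Subgroup.mem_top _)
  exact hfix t L.mem_d n hn (Subgroup.mem_centralizer_iff.1 hts n hn).symm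

/-- The hypotheses of the twin argument. -/
theorem ctx [Finite G] : FischerPolar.Ctx (compClass d) :=
  ⟨L.hsol, by rw [L.commutator_eq_top, ← commutator_def, L.commutator_eq_top], L.cls,
    FischerPolar.exists_seed_of_pCore L.cls (x := ⟨d, L.mem_compGroup⟩) L.mem_d L.core_comp⟩

end LocalU

/-! ### Counting -/

section count

open Matrix CfsgLib.RepBounds.Unit CfsgLib.U62 CfsgLib.FischerThm

variable {F : Type} [Field F] [Fintype F] (C : ConjField F) (hC : C.q = 2)
variable {κ : Type} [Fintype κ] [DecidableEq κ] {n : ℕ} (hn : Fintype.card (Fin 2 ⊕ κ) = n)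

include hC hn in
/-- Three times the valency of the unitary transvections. -/
theorem three_mul_perp_uniD :
    ∃ p ∈ uniD n F, 3 * (perp (uniD n F) p).ncard + 4 = 4 * Nat.card {w : κ → F // herm C w w = 0} := by
  classical
  haveI : Nontrivial (Fin 2 ⊕ κ) := ⟨⟨Sum.inl 0, Sum.inl 1, by simp⟩⟩
  set e : Fin 2 ⊕ κ → F := vE C κ with hed
  have he : herm C e e = 0 := herm_vE_vE C
  have he0 : e ≠ 0 := Forms4.vE_ne_zero C
  set p := Uni.pt C hC hn e with hp
  refine ⟨p, (Uni.mem_uniD_iff C hC hn _).2 ⟨e, he, he0, rfl⟩, ?_⟩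
  have h := Uni.three_mul_ncard C hC (Uni.pt C hC hn)
    (fun v w hv _ hw hw0 => Uni.pt_eq_iff C hC hn hv hw hw0) (fun x => Commute p x ∧ x ≠ p)
  have himg : Uni.pt C hC hn '' {v | herm C v v = 0 ∧ v ≠ 0 ∧
      (fun x => Commute p x ∧ x ≠ p) (Uni.pt C hC hn v)} = perp (uniD n F) p := by
    ext y
    constructor
    · rintro ⟨v, ⟨hv, hv0, hc, hne⟩, rfl⟩
      exact ⟨(Uni.mem_uniD_iff C hC hn _).2 ⟨v, hv, hv0, rfl⟩, hne, hc⟩
    · rintro ⟨hy, hne, hc⟩
      obtain ⟨v, hv, hv0, rfl⟩ := (Uni.mem_uniD_iff C hC hn _).1 hy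
      exact ⟨v, ⟨hv, hv0, hc, hne⟩, rfl⟩
  rw [himg] at h
  have h2 := Nat.card_congr (perpEquiv C (κ := κ) (fun v => v ∘ Sum.inr ≠ 0) (fun w => w ≠ 0)
    (fun a w => by rw [coord_inr]))
  rw [Nat.card_prod, Nat.card_eq_fintype_card (α := F), C.card, hC] at h2
  have h3 : Nat.card {v : Fin 2 ⊕ κ → F // herm C v v = 0 ∧ v ≠ 0 ∧
      (fun x => Commute p x ∧ x ≠ p) (Uni.pt C hC hn v)} =
      Nat.card {v : Fin 2 ⊕ κ → F // herm C v v = 0 ∧ herm C v e = 0 ∧ v ∘ Sum.inr ≠ 0} := by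
    refine Nat.card_congr (Equiv.subtypeEquivRight fun v => ?_)
    constructor
    · rintro ⟨hv, hv0, hc, hne⟩
      have ho : herm C v e = 0 := by
        rw [← conj_herm, (Uni.commute_pt_iff C hC hn he hv).1 hc, map_zero]
      refine ⟨hv, ho, fun h0 => hne ?_⟩
      have hd := decomp C v
      rw [h0, inW_zero, add_zero, ← hed, ho, zero_smul, add_zero] at hd
      have ha : herm C v (vF C κ) ≠ 0 := fun e0 => hv0 (by rw [hd, e0, zero_smul])
      rw [hd, Uni.pt_smul C hC hn ha he]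
    · rintro ⟨hv, ho, h0⟩
      have hv0 : v ≠ 0 := fun e0 => h0 (by rw [e0]; rfl)
      refine ⟨hv, hv0, (Uni.commute_pt_iff C hC hn he hv).2 (by rw [← conj_herm, ho, map_zero]), fun hh => ?_⟩
      obtain ⟨a, -, ha⟩ := (Uni.pt_eq_iff C hC hn he hv hv0).1 hh.symm
      refine h0 ?_
      rw [ha]
      funext j
      simp [hed, vE]
  rw [h3, h2] at h
  have h4 := Uni.card_ne_zero_add_one C (ι := κ)
  omega

omit [Field F] [Fintype F] in
/-- Isomorphisms carry perps to perps. -/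
theorem ncard_perp_image {A B : Type*} [Group A] [Group B] (φ : A ≃* B) (D : Set A) (a : A) :
    (perp (φ '' D) (φ a)).ncard = (perp D a).ncard := by
  have h : perp (φ '' D) (φ a) = φ '' perp D a := by
    ext y
    constructor
    · rintro ⟨⟨x, hx, rfl⟩, hne, hc⟩
      exact ⟨x, ⟨hx, fun e => hne (by rw [e]), by simpa using hc.map φ.symm.toMonoidHom⟩, rfl⟩
    · rintro ⟨x, ⟨hx, hne, hc⟩, rfl⟩
      exact ⟨⟨x, hx, rfl⟩, fun e => hne (φ.injective e), hc.map φ.toMonoidHom⟩
  rw [h, Set.ncard_image_of_injective _ φ.injective]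

include hC in
theorem eq_four_of_card {k : ℕ} (hk : Fintype.card κ = k)
    (h : Nat.card {w : κ → F // herm C w w = 0} = 136) : k = 4 := by
  have h1 := card_iso_aux C hC k (ι := κ) hk
  rw [h] at h1
  rcases Nat.lt_or_ge k 5 with hlt | hge
  · interval_cases k <;> first | rfl | norm_num at h1
  · exfalso
    have hab : (-2 : ℤ) ^ k ≥ -(2 ^ k) := by
      rcases neg_one_pow_eq_or ℤ k with e | e <;>
        rw [show (-2 : ℤ) = -1 * 2 by norm_num, mul_pow, e] <;> nlinarith [pow_pos (show (0:ℤ) < 2 by norm_num) k]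
    have h32 : (32 : ℤ) ≤ 2 ^ k := (by norm_num : (32 : ℤ) = 2 ^ 5) ▸ pow_le_pow_right₀ (by norm_num) hge
    rw [show 2 * k = k + k by ring, pow_add] at h1
    push_cast at h1
    nlinarith

end count

/-! ### The component is `U₆(2)` -/

namespace LocalU

variable (L : LocalU d)
include L

open Matrix CfsgLib.RepBounds.Unit CfsgLib.U62 CfsgLib.FischerThm in
/-- **The component is the transvections of `PSU₆(2)`.** -/
theorem isUniT [Finite G] : IsUniT (compClass d) 6 := by
  have C := L.ctx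
  obtain ⟨x, a, b, hx, hab, -⟩ := C.seed
  have hk : (perp (compClass d) x).ncard = 180 := by
    rw [← L.commSet_ncard]
    exact FischerTransitivity.commSet_ncard_eq L.cls hx L.mem_d
  rcases C.line_card hx hab.1 with h | h
  · obtain ⟨m, ρ, -, hρi, hρs, hρc, -⟩ := C.exists_symplectic_model
      (fun p hp q hq => by rw [C.line_ncard hp hq hx hab.1, h])
    exfalso
    classical
    have hρ0 : ∀ a, ρ a ≠ 0 := by
      intro a ha
      have : (a : ↥(compGroup d)) ∈ Subgroup.center ↥(compGroup d) :=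
        Transpositions.mem_center_of_commute_generators L.group.2.2 fun y hy =>
          ((hρc a ⟨y, hy⟩).2 (by rw [ha, ← Forms.sympBilin_apply, map_zero, LinearMap.zero_apply])).symm
      rw [L.center_eq, Subgroup.mem_bot] at this
      exact FischerTypes.ne_one L.cls.1 a.2 this
    set K := (((Forms.sympBilin m (ZMod 2)) (ρ ⟨x, hx⟩)).toAddMonoidHom).ker with hK
    have hmem : ∀ v, v ∈ K ↔ Cfsg.sympForm m (ZMod 2) (ρ ⟨x, hx⟩) v = 0 := fun v => by
      rw [hK, AddMonoidHom.mem_ker, ← Forms.sympBilin_apply]; rfl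
    have hself : Cfsg.sympForm m (ZMod 2) (ρ ⟨x, hx⟩) (ρ ⟨x, hx⟩) = 0 := (hρc _ _).1 (Commute.refl _)
    have himg : ρ '' {y : ↥(compClass d) | (y : ↥(compGroup d)) ∈ perp (compClass d) x} =
        (K : Set (Fin m ⊕ Fin m → ZMod 2)) \ {0, ρ ⟨x, hx⟩} := by
      ext v
      constructor
      · rintro ⟨y, ⟨-, hne, hc⟩, rfl⟩
        refine ⟨(hmem _).2 ((hρc _ _).1 hc), ?_⟩
        rintro (e | e)
        · exact hρ0 y e
        · exact hne (congrArg Subtype.val (hρi e))
      · rintro ⟨hv, hne⟩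
        simp only [Set.mem_insert_iff, Set.mem_singleton_iff, not_or] at hne
        obtain ⟨y, rfl⟩ := hρs v hne.1
        refine ⟨y, ⟨y.2, fun e => hne.2 (congrArg ρ (Subtype.ext e : y = ⟨x, hx⟩)), ?_⟩, rfl⟩
        exact (hρc ⟨x, hx⟩ y).2 ((hmem _).1 hv)
    have h1 := congrArg Set.ncard himg
    have h2 : {y : ↥(compClass d) | (y : ↥(compGroup d)) ∈ perp (compClass d) x}.ncard = 180 := by
      rw [← hk, ← Set.ncard_image_of_injective _ Subtype.val_injective]
      congr 1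
      ext z
      exact ⟨fun ⟨y, hy, e⟩ => e ▸ hy, fun hz => ⟨⟨z, hz.1⟩, hz, rfl⟩⟩
    have hsub : ({0, ρ ⟨x, hx⟩} : Set (Fin m ⊕ Fin m → ZMod 2)) ⊆ K := by
      rintro v (rfl | rfl)
      · exact K.zero_mem
      · exact (hmem _).2 hself
    rw [Set.ncard_image_of_injective _ hρi, h2, Set.ncard_sdiff hsub, Set.ncard_pair (Ne.symm (hρ0 _))] at h1
    have hKc : Nat.card ↥K = 182 := by
      have : Nat.card ↥K = (K : Set (Fin m ⊕ Fin m → ZMod 2)).ncard := Nat.card_coe_set_eq _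
      omega
    have hdvd := K.card_addSubgroup_dvd_card
    rw [hKc, Nat.card_eq_fintype_card, Fintype.card_fun, ZMod.card, Fintype.card_sum] at hdvd
    have h7 : 7 ∣ 2 ^ (Fintype.card (Fin m) + Fintype.card (Fin m)) := (show 7 ∣ 182 by norm_num).trans hdvd
    exact absurd ((Nat.prime_dvd_prime_iff_eq (by norm_num) Nat.prime_two).1
      ((by norm_num : Nat.Prime 7).dvd_of_dvd_pow h7)) (by norm_num)
  · obtain ⟨F, iF, iT, K, r, ε, pt, -, hF, hε, hmem, -, -, hK, Φ, e, hpts, hΦ⟩ :=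
      FischerPolar.exists_unitary_model C (fun p hp q hq => by rw [C.line_ncard hp hq hx hab.1, h]) hx
    have key : ∀ u, herm K u u = 0 → u ≠ 0 →
        Φ (pt u) = QuotientGroup.mk (suEquiv K hK _ (tv K (u ∘ e.symm))) := fun u hu hu0 => by
      rw [hΦ u hu hu0, reindexEquiv_tv K hK e hu]
      rfl
    have himage : Φ '' compClass d = uniD (2 + ((r + 1) * 2 + ε)) F := by
      refine Set.Subset.antisymm ?_ fun q hq => ?_
      · rintro _ ⟨y, hy, rfl⟩
        obtain ⟨u, hu, hu0, rfl⟩ := hpts y hy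
        refine (mem_uniD_iff K hK).2 ⟨u ∘ e.symm, by rw [herm_comp, hu], fun h0 => hu0 ?_, (key u hu hu0).symm⟩
        funext i
        simpa using congrFun h0 (e i)
      · obtain ⟨v, hv, hv0, rfl⟩ := (mem_uniD_iff K hK).1 hq
        have hve : (v ∘ e) ∘ e.symm = v := by funext i; simp
        have hv' : herm K (v ∘ e) (v ∘ e) = 0 := by rw [← herm_comp K e, hve, hv]
        have hv0' : v ∘ e ≠ 0 := fun h0 => hv0 (by rw [← hve, h0]; rfl)
        exact ⟨pt (v ∘ e), hmem _ hv' hv0', by rw [key _ hv' hv0', hve]⟩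
    have hcardκ : Fintype.card (FischerPolar.Coord (r + 1) ε) = (r + 1) * 2 + ε := by simp
    obtain ⟨p, hp, h3⟩ := three_mul_perp_uniD K hK (κ := FischerPolar.Coord (r + 1) ε)
      (n := 2 + ((r + 1) * 2 + ε)) (by rw [Fintype.card_sum, hcardκ, Fintype.card_fin])
    rw [← himage] at hp h3
    obtain ⟨y, hy, rfl⟩ := hp
    rw [ncard_perp_image, show (perp (compClass d) y).ncard = 180 from
      (FischerTransitivity.commSet_ncard_eq L.cls hy L.mem_d).trans L.commSet_ncard] at h3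
    have h4 := eq_four_of_card K hK hcardκ (by linarith)
    obtain ⟨rfl, rfl⟩ : r = 1 ∧ ε = 0 := ⟨by linarith only [h4, hε], by omega⟩
    exact ⟨F, iF, iT, hF, Φ, himage⟩

end LocalU

end CfsgLib.USixRec
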