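import Cfsg.Agent.USixRec.Global
import Cfsg.Agent.USixRec.Component
import Cfsg.Agent.FischerTypes.U62Count
import Cfsg.Agent.FischerThm.Uni.FiveCount

/-!
# The facts of a component of type `U₆(2)`, and the global step

The involution classes, the uniqueness of pairs and the maximal commuting sets of 21 members follow from
the isomorphism with `PSU₆(2)`.  So the component of a member is the whole class.
-/

set_option autoImplicit false
set_option linter.unusedSectionVars false
set_option linter.style.haveILetI false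

universe u

namespace CfsgLib.USixRec

open Cfsg CfsgLib.RepBounds.Unit CfsgLib.U62 CfsgLib.SporFischer CfsgLib.FischerTypes
open CfsgLib.FischerThm (IsUniT)

section vectors

variable {F : Type} [Field F] [Fintype F] {C : ConjField F} (hC : C.q = 2)

local notation "V6" => (I6 → F)
include hC

/-- An isotropic point orthogonal to a given one and different from it. -/
theorem exists_next {u : V6} (hu : herm C u u = 0) (hu0 : u ≠ 0) :
    ∃ q, herm C q q = 0 ∧ q ≠ 0 ∧ herm C q u = 0 ∧ ∀ a : F, q ≠ a • u := by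
  obtain ⟨g, hg⟩ := exists_map_eq C hu hu0
  obtain ⟨q, hq, hqe, hne⟩ := exists_second C
  refine ⟨app C g⁻¹ q, by rw [herm_app, hq], fun h => hne 0 ?_, ?_, fun a h => hne a ?_⟩
  · rw [← app_app_inv C g q, h, zero_smul]; simp [app]
  · rw [herm_app_left, hg, ← conj_herm, hqe, map_zero]
  · rw [← hg, ← app_smul, ← h, app_app_inv]

/-- An isotropic point orthogonal to two given ones and outside their line. -/
theorem exists_next_pair {u v : V6} (hu : herm C u u = 0) (hv : herm C v v = 0) (hvu : herm C v u = 0)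
    (hu0 : u ≠ 0) (hne : ∀ a : F, v ≠ a • u) :
    ∃ q, herm C q q = 0 ∧ q ≠ 0 ∧ herm C q u = 0 ∧ herm C q v = 0 ∧ ∀ a b : F, q ≠ a • u + b • v := by
  obtain ⟨g, hgu, hgv⟩ := exists_map_pair C hu hv hvu hu0 hne
  obtain ⟨w, hw, hw0⟩ : ∃ w : Fin 2 → F, herm C w w = 0 ∧ w ≠ 0 := by
    by_contra h
    push Not at h
    have h1 := card_iso_two C hC
    haveI : Subsingleton {v : Fin 2 → F // herm C v v = 0} := ⟨fun a b => Subtype.ext ((h a a.2).trans (h b b.2).symm)⟩
    have h2 := Finite.card_le_one_iff_subsingleton.2 this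
    omega
  set q : V6 := inW (inW w) with hq
  have hqe : herm C q (vE C (Fin 2 ⊕ Fin 2)) = 0 := herm_inW_vE C _
  have hqe2 : herm C q (inW (vE C (Fin 2))) = 0 := by rw [hq, herm_inW, herm_inW_vE]
  have hout : ∀ a b : F, q ≠ a • vE C (Fin 2 ⊕ Fin 2) + b • inW (vE C (Fin 2)) := fun a b h => hw0 (by
    funext i
    simpa [hq, inW, vE] using congrFun h (Sum.inr (Sum.inr i)))
  refine ⟨app C g⁻¹ q, by rw [herm_app, hq, herm_inW, herm_inW, hw], fun h => hout 0 0 ?_, ?_, ?_, fun a b h => hout a b ?_⟩
  · rw [← app_app_inv C g q, h, zero_smul, zero_smul, add_zero]; simp [app]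
  · rw [herm_app_left, hgu, hqe]
  · rw [herm_app_left, hgv, hqe2]
  · rw [← hgu, ← hgv, ← app_smul, ← app_smul, ← app_add, ← h, app_app_inv]

/-- A transvection is no product of two at different orthogonal points. -/
theorem tv_ne_pair {u v w : V6} (hu : herm C u u = 0) (hv : herm C v v = 0) (hw : herm C w w = 0)
    (hwv : herm C w v = 0) (hv0 : v ≠ 0) (hw0 : w ≠ 0) (hne : ∀ a : F, w ≠ a • v) :
    tv C u ≠ tv C v * tv C w := by
  intro h
  have hli : LinearIndependent F ![v, w] := linearIndependent_fin2.2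
    ⟨hw0, fun a e => by
      have e' : v = a • w := e.symm
      have ha : a ≠ 0 := fun ha => hv0 (by rw [e', ha, zero_smul])
      exact hne a⁻¹ (by rw [e', inv_smul_smul₀ ha])⟩
  obtain ⟨x, hx⟩ := exists_dual (C := C) hli 0
  obtain ⟨y, hy⟩ := exists_dual (C := C) hli 1
  have hx0 : herm C x v = 1 := hx 0
  have hx1 : herm C x w = 0 := hx 1
  have hy0 : herm C y v = 0 := hy 0
  have hy1 : herm C y w = 1 := hy 1
  have key : ∀ z, herm C z u • u = herm C z v • v + herm C z w • w := fun z => by
    have h1 := congrArg (fun g => app C g z) h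
    simp only [app_mul, app_tv C hC hu, app_tv C hC hv, app_tv C hC hw, herm_add_left, herm_smul_left, hwv,
      mul_zero, add_zero] at h1
    exact add_left_cancel (h1.trans (by abel : _ = z + (herm C z v • v + herm C z w • w)))
  have h1 : herm C x u • u = v := by rw [key x, hx0, hx1, one_smul, zero_smul, add_zero]
  have h2 : herm C y u • u = w := by rw [key y, hy0, hy1, one_smul, zero_smul, zero_add]
  have ha : herm C x u ≠ 0 := fun ha => hv0 (by rw [← h1, ha, zero_smul])
  exact hne (herm C y u * (herm C x u)⁻¹) (by rw [← h1, smul_smul, mul_assoc, inv_mul_cancel₀ ha, mul_one, h2])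

/-- Pairs of orthogonal points are determined by the product. -/
theorem pair_eq {a b c e : V6} (ha : herm C a a = 0) (hb : herm C b b = 0) (hc : herm C c c = 0)
    (he : herm C e e = 0) (hba : herm C b a = 0) (hec : herm C e c = 0) (ha0 : a ≠ 0) (hb0 : b ≠ 0)
    (hab : ∀ t : F, b ≠ t • a) (hc0 : c ≠ 0) (he0 : e ≠ 0) (hce : ∀ t : F, e ≠ t • c)
    (h : tv C a * tv C b = tv C c * tv C e) :
    (∃ s t : F, s ≠ 0 ∧ t ≠ 0 ∧ a = s • c ∧ b = t • e) ∨ ∃ s t : F, s ≠ 0 ∧ t ≠ 0 ∧ a = s • e ∧ b = t • c := by
  have indep : ∀ {p q : V6}, p ≠ 0 → q ≠ 0 → (∀ t : F, q ≠ t • p) → LinearIndependent F ![p, q] :=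
    fun {p q} hp0 hq0 hne => linearIndependent_fin2.2 ⟨hq0, fun t e => by
      have e' : p = t • q := e.symm
      have ht : t ≠ 0 := fun ht => hp0 (by rw [e', ht, zero_smul])
      exact hne t⁻¹ (by rw [e', inv_smul_smul₀ ht])⟩
  have key : ∀ z, herm C z a • a + herm C z b • b = herm C z c • c + herm C z e • e := fun z => by
    have h1 := congrArg (fun g => app C g z) h
    simp only [app_mul, app_tv C hC ha, app_tv C hC hb, app_tv C hC hc, app_tv C hC he, herm_add_left,
      herm_smul_left, hba, hec, mul_zero, add_zero] at h1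
    calc herm C z a • a + herm C z b • b = (z + z) + (herm C z a • a + herm C z b • b) := by
          rw [vec_add_self C hC, zero_add]
      _ = z + (z + herm C z b • b + herm C z a • a) := by abel
      _ = z + (z + herm C z e • e + herm C z c • c) := by rw [h1]
      _ = (z + z) + (herm C z c • c + herm C z e • e) := by abel
      _ = _ := by rw [vec_add_self C hC, zero_add]
  obtain ⟨x, hx⟩ := exists_dual (C := C) (indep ha0 hb0 hab) 0
  obtain ⟨y, hy⟩ := exists_dual (C := C) (indep ha0 hb0 hab) 1
  have ea : a = herm C x c • c + herm C x e • e := by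
    rw [← key x, show herm C x a = 1 from hx 0, show herm C x b = 0 from hx 1, one_smul, zero_smul, add_zero]
  have eb : b = herm C y c • c + herm C y e • e := by
    rw [← key y, show herm C y a = 0 from hy 0, show herm C y b = 1 from hy 1, one_smul, zero_smul, zero_add]
  generalize herm C x c = α, herm C x e = β at ea
  generalize herm C y c = γ, herm C y e = δ at eb
  have li := indep hc0 he0 hce
  have coef : ∀ {p q p' q' : F}, p • c + q • e = p' • c + q' • e → p = p' ∧ q = q' := fun {p q p' q'} h => by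
    have h0 : (p - p') • c + (q - q') • e = 0 := by rw [sub_smul, sub_smul, ← sub_eq_zero.2 h]; abel
    have := Fintype.linearIndependent_iff.1 li ![p - p', q - q'] (by simpa [Fin.sum_univ_two] using h0)
    exact ⟨sub_eq_zero.1 (this 0), sub_eq_zero.1 (this 1)⟩
  obtain ⟨u, hu⟩ := exists_dual (C := C) li 0
  obtain ⟨w, hw⟩ := exists_dual (C := C) li 1
  have expand : ∀ z, herm C z c = 1 ∧ herm C z e = 0 ∨ herm C z c = 0 ∧ herm C z e = 1 →
      (herm C z c • c + herm C z e • e : V6) =
        ((C.σ α * herm C z c + C.σ β * herm C z e) * α + (C.σ γ * herm C z c + C.σ δ * herm C z e) * γ) • c +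
        ((C.σ α * herm C z c + C.σ β * herm C z e) * β + (C.σ γ * herm C z c + C.σ δ * herm C z e) * δ) • e := by
    intro z _
    rw [← key z]
    conv_lhs => rw [ea, eb]
    simp only [herm_add_right, herm_smul_right]
    module
  have u0 : herm C u c = 1 := hu 0
  have u1 : herm C u e = 0 := hu 1
  have w0 : herm C w c = 0 := hw 0
  have w1 : herm C w e = 1 := hw 1
  obtain ⟨h1, h2⟩ := coef (expand u (Or.inl ⟨u0, u1⟩))
  obtain ⟨-, h3⟩ := coef (expand w (Or.inr ⟨w0, w1⟩))
  simp only [u0, u1, w0, w1, mul_one, mul_zero, add_zero, zero_add] at h1 h2 h3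
  have nrm : ∀ {t : F}, t ≠ 0 → C.σ t * t = 1 := fun {t} ht => by rw [mul_comm]; exact norm_eq_one C hC ht
  have two := two_eq_zero C hC
  by_cases hα : α = 0
  · subst hα
    have hγ : γ ≠ 0 := fun h0 => by simp [h0] at h1
    have hδ : δ = 0 := by simpa [hγ] using h2.symm
    subst hδ
    have hβ : β ≠ 0 := fun h0 => by simp [h0] at h3
    exact Or.inr ⟨β, γ, hβ, hγ, by simpa using ea, by simpa using eb⟩
  · have hγ : γ = 0 := by
      by_contra hγ
      rw [nrm hα, nrm hγ] at h1
      exact one_ne_zero (h1.trans (by linear_combination two))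
    subst hγ
    have hβ : β = 0 := by simpa [hα] using h2.symm
    subst hβ
    have hδ : δ ≠ 0 := fun h0 => by simp [h0] at h3
    exact Or.inl ⟨α, δ, hα, hδ, by simpa using ea, by simpa using eb⟩

end vectors

variable {G : Type u} [Group G] [Finite G] {D K : Set G} {H : Subgroup G} {d : G}

/-- The facts of a component of type `U₆(2)`. -/
theorem compCore_of_unitary (inv : ∀ x ∈ D, x * x = 1) (one : (1 : G) ∉ D)
    (closed : ∀ (g : G), ∀ x ∈ D, g * x * g⁻¹ ∈ D) (sub : K ⊆ D) (subH : K ⊆ H)
    (nbrK : ∀ a ∈ K, nbr D a ⊆ K) (trans : ∀ a ∈ K, ∀ b ∈ K, ∃ h ∈ H, h * a * h⁻¹ = b)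
    (cent : ∀ a ∈ K, Subgroup.centralizer ({a} : Set G) ≤ H) (three : IsThreeTranspositionSet K)
    (mem_d : d ∈ K)
    (no_odd : ∀ b ∈ nbr D d, ∀ L : Subgroup G, Odd (Nat.card L) → L ≤ Subgroup.centralizer ({d, b} : Set G) →
      (∀ g ∈ Subgroup.centralizer ({d, b} : Set G), ∀ l ∈ L, g * l * g⁻¹ ∈ L) → L = ⊥)
    (conjD : ∀ x ∈ D, IsConj d x) (gen : Subgroup.centralizer ({d} : Set G) = Subgroup.closure (nbr D d))
    (conn : ∀ b ∈ nbr D d, ∀ c ∈ nbr D d, Relation.ReflTransGen (NbrAdj D d) b c)
    (two : ∀ b ∈ nbr D d, ∃ c ∈ nbr D d, c ≠ b ∧ Commute b c)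
    (perfect : commutator ↥(Subgroup.centralizer ({d} : Set G)) = ⊤)
    (hU : IsUniT {x : ↥H | (x : G) ∈ K} 6) : CompCore D K H d 21 := by
  classical
  obtain ⟨F, _, _, C, hC, ψ, hψK, hψsurj, hψeq, hψcomm, hψH, hψker⟩ := exists_param subH hU
  choose! vec hvec hvec0 hψvec using hψsurj
  have hK1 : ∀ a ∈ K, a ≠ 1 := fun a ha h => one (h ▸ sub ha)
  have orth : ∀ {a b}, a ∈ K → b ∈ K → Commute a b → herm C (vec b) (vec a) = 0 := fun {a b} ha hb h => by
    rw [← hψcomm _ _ (hvec b hb) (hvec a ha), hψvec a ha, hψvec b hb]; exact h.symm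
  have indep : ∀ {a b}, a ∈ K → b ∈ K → a ≠ b → ∀ t : F, vec b ≠ t • vec a := fun {a b} ha hb hne t h => by
    have ht : t ≠ 0 := fun h0 => hvec0 b hb (by rw [h, h0, zero_smul])
    exact hne (by rw [← hψvec a ha, ← hψvec b hb, h, tv_smul C hC ht (hvec a ha)])
  have pair_one : ∀ {g h : suG C I6}, g * g = 1 → h * h = 1 → ψ g = ψ h → g = h := fun {g h} hg hh e => by
    have hz : g⁻¹ * h ∈ Subgroup.center (suG C I6) := hψker _ (by rw [map_mul, map_inv, e, inv_mul_cancel])
    have h3 := center_pow_three C hC hz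
    have h2 : g⁻¹ * h * (g⁻¹ * h) = 1 := by
      rw [inv_eq_of_mul_eq_one_right hg] at hz ⊢
      rw [show g * h * (g * h) = g * (h * (g * h)) by group, Subgroup.mem_center_iff.1 hz h, mul_assoc g h h, hh,
        mul_one, hg]
    rw [pow_succ, pow_two, h2, one_mul] at h3
    exact inv_mul_eq_one.1 h3
  have pair_sq : ∀ {a b}, a ∈ K → b ∈ K → Commute a b → tv C (vec a) * tv C (vec b) * (tv C (vec a) * tv C (vec b)) = 1 :=
    fun {a b} ha hb h => by
      have hc := commute_tv C hC (hvec a ha) (hvec b hb) (orth ha hb h)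
      rw [hc.symm.mul_mul_mul_comm, tv_mul_self C hC (hvec a ha), tv_mul_self C hC (hvec b hb), one_mul]
  have notPair : ∀ {a b c}, a ∈ K → b ∈ K → c ∈ K → b ≠ c → Commute b c → a ≠ b * c :=
    fun {a b c} ha hb hc hne hbc e => by
      refine tv_ne_pair hC (hvec a ha) (hvec b hb) (hvec c hc) (orth hb hc hbc) (hvec0 b hb) (hvec0 c hc)
        (indep hb hc hne) (pair_one (tv_mul_self C hC (hvec a ha)) (pair_sq hb hc hbc) ?_)
      rw [map_mul, hψvec a ha, hψvec b hb, hψvec c hc, e]
  have hclasses : ∀ v ∈ H, v * v = 1 → v ≠ 1 → ∃ l, IsCList K l ∧ l.length ≤ 3 ∧ l.prod = v ∧ 1 ≤ l.length := by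
    intro v hv hv2 hv1
    obtain ⟨g₀, rfl⟩ := hψH v hv
    obtain ⟨g, hg, hgg⟩ := exists_involution_lift C hC (hψker _ (show ψ (g₀ * g₀) = 1 by rw [map_mul]; exact hv2))
    have he : ψ g = ψ g₀ := by
      have h1 := Subgroup.mem_center_iff.1 hgg
      have h3 := congrArg ψ (center_pow_three C hC hgg)
      rw [map_pow, map_mul, map_inv, map_one] at h3
      have h2 : (ψ g₀)⁻¹ * ψ g * ((ψ g₀)⁻¹ * ψ g) = 1 := by
        have hc := congrArg ψ (h1 g)
        simp only [map_mul, map_inv] at hc
        rw [mul_assoc, hc, ← mul_assoc, ← mul_assoc, inv_eq_of_mul_eq_one_right hv2, hv2, one_mul, ← map_mul,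
          hg, map_one]
      rw [pow_succ, pow_two, h2, one_mul] at h3
      exact (inv_mul_eq_one.1 h3).symm
    rw [← he] at hv1 ⊢
    rcases involution_cases C hC hg with h | ⟨v, hv, hv0, h⟩ | ⟨v, w, hv, hw, hwv, hv0, hne, h⟩ | ⟨v, hv, hli, h⟩
    · exact absurd (by rw [h, map_one]) hv1
    · exact ⟨[ψ (tv C v)], ⟨List.nodup_singleton _, by simp [hψK v hv hv0], by simp⟩, by simp, by simp [h], le_rfl⟩
    · have hw0 : w ≠ 0 := fun h0 => hne 0 (by rw [h0, zero_smul])
      have hc : Commute (ψ (tv C v)) (ψ (tv C w)) := (hψcomm v w hv hw).2 (by rw [← conj_herm, hwv, map_zero])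
      have hvw : ψ (tv C v) ≠ ψ (tv C w) := fun e => by
        obtain ⟨a, -, ha⟩ := hψeq v w hv hw hw0 e; exact hne a ha
      exact ⟨[ψ (tv C v), ψ (tv C w)], ⟨by simp [hvw], by simp [hψK v hv hv0, hψK w hw hw0],
        by simp [hc, hc.symm]⟩, by simp, by simp [h], by simp⟩
    · have h0 : ∀ i, v i ≠ 0 := fun i => hli.ne_zero i
      have hd : ∀ i j, i ≠ j → ψ (tv C (v i)) ≠ ψ (tv C (v j)) := fun i j hij e => by
        obtain ⟨a, -, hav⟩ := hψeq _ _ (hv i i) (hv j j) (h0 j) e
        refine hli.notMem_span_image (s := {i}) (x := j) (by simpa using Ne.symm hij) ?_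
        rw [Set.image_singleton, hav]
        exact Submodule.smul_mem _ _ (Submodule.mem_span_singleton_self _)
      refine ⟨[ψ (tv C (v 0)), ψ (tv C (v 1)), ψ (tv C (v 2))],
        ⟨by simp [hd 0 1 (by decide), hd 0 2 (by decide), hd 1 2 (by decide)],
          by simp [hψK _ (hv 0 0) (h0 0), hψK _ (hv 1 1) (h0 1), hψK _ (hv 2 2) (h0 2)], ?_⟩, by simp,
        by simp [h, mul_assoc], by simp⟩
      have hc : ∀ i j, Commute (ψ (tv C (v i))) (ψ (tv C (v j))) := fun i j =>
        (hψcomm _ _ (hv i i) (hv j j)).2 (hv i j)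
      intro a ha b hb
      simp only [List.mem_cons, List.not_mem_nil, or_false] at ha hb
      rcases ha with rfl | rfl | rfl <;> rcases hb with rfl | rfl | rfl <;> exact hc _ _
  exact
    { inv := inv, one := one, closed := closed, sub := sub, subH := subH
      inter := fun x hx hxH => by
        obtain ⟨l, hl, -, hp, h1⟩ := hclasses x hxH (inv x hx) (fun h => one (h ▸ hx))
        obtain ⟨a, ha⟩ := List.exists_mem_of_length_pos h1
        have hc : Commute a x := hp ▸ Commute.list_prod_right _ _ fun y hy => hl.comm a ha y hy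
        by_cases e : x = a
        · exact e ▸ hl.mem a ha
        · exact nbrK a (hl.mem a ha) ⟨hx, e, hc⟩
      nbrK := nbrK, trans := trans, cent := cent, three := three
      pairU := fun a ha b hb c hc e he hab cab hce cce h => by
        have hg := pair_one (pair_sq ha hb cab) (pair_sq hc he cce)
          (by rw [map_mul, map_mul, hψvec a ha, hψvec b hb, hψvec c hc, hψvec e he, h])
        rcases pair_eq hC (hvec a ha) (hvec b hb) (hvec c hc) (hvec e he) (orth ha hb cab) (orth hc he cce)
          (hvec0 a ha) (hvec0 b hb) (indep ha hb hab) (hvec0 c hc) (hvec0 e he) (indep hc he hce) hg with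
          ⟨s, t, hs, ht, ea, eb⟩ | ⟨s, t, hs, ht, ea, eb⟩
        · left
          exact ⟨by rw [← hψvec a ha, ea, tv_smul C hC hs (hvec c hc), hψvec c hc],
            by rw [← hψvec b hb, eb, tv_smul C hC ht (hvec e he), hψvec e he]⟩
        · right
          exact ⟨by rw [← hψvec a ha, ea, tv_smul C hC hs (hvec e he), hψvec e he],
            by rw [← hψvec b hb, eb, tv_smul C hC ht (hvec c hc), hψvec c hc]⟩
      classes := fun v hv h2 h1 => by
        obtain ⟨l, hl, h3, hp, -⟩ := hclasses v hv h2 h1
        exact ⟨l, hl, h3, hp⟩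
      length_eq := fun l l' hl hl' h h' hp => by
        match l, l', h, h', hl, hl', hp with
        | [], [], _, _, _, _, _ => rfl
        | [a], [b], _, _, _, _, _ => rfl
        | [a, b], [c, e], _, _, _, _, _ => rfl
        | [], [a], _, _, _, hl', hp => exact absurd (by simpa using hp.symm) (hK1 a (hl'.mem a (by simp)))
        | [a], [], _, _, hl, _, hp => exact absurd (by simpa using hp) (hK1 a (hl.mem a (by simp)))
        | [], [a, b], _, _, _, hl', hp =>
          refine absurd ?_ (show a ≠ b from by simpa using hl'.nodup)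
          rw [eq_inv_of_mul_eq_one_left (show a * b = 1 by simpa using hp.symm)]
          exact inv_eq_of_mul_eq_one_right (inv b (sub (hl'.mem b (by simp))))
        | [a, b], [], _, _, hl, _, hp =>
          refine absurd ?_ (show a ≠ b from by simpa using hl.nodup)
          rw [eq_inv_of_mul_eq_one_left (show a * b = 1 by simpa using hp)]
          exact inv_eq_of_mul_eq_one_right (inv b (sub (hl.mem b (by simp))))
        | [a], [b, c], _, _, hl, hl', hp =>
          exact absurd (by simpa using hp) (notPair (hl.mem a (by simp)) (hl'.mem b (by simp)) (hl'.mem c (by simp))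
            (by simpa using hl'.nodup) (hl'.comm b (by simp) c (by simp)))
        | [b, c], [a], _, _, hl, hl', hp =>
          exact absurd (by simpa using hp.symm) (notPair (hl'.mem a (by simp)) (hl.mem b (by simp)) (hl.mem c (by simp))
            (by simpa using hl.nodup) (hl.comm b (by simp) c (by simp)))
        | _ :: _ :: _ :: _, _, h, _, _, _, _ => simp at h
        | _, _ :: _ :: _ :: _, _, h', _, _, _ => simp at h'
      mem_d := mem_d, no_odd := no_odd, conjD := conjD, gen := gen, conn := conn, two := two, perfect := perfect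
      clique := fun M hMK hMc hMax => by
        have hne : ∀ {a b}, a ∈ M → b ∈ M → herm C (vec a) (vec b) = 0 := fun {a b} ha hb =>
          orth (hMK hb) (hMK ha) (hMc b hb a ha)
        have ext : ∀ q, herm C q q = 0 → q ≠ 0 → (∀ a ∈ M, herm C q (vec a) = 0) →
            ∃ a ∈ M, ∃ t : F, q = t • vec a := fun q hq hq0 h => by
          refine ⟨ψ (tv C q), hMax _ (hψK q hq hq0) fun a ha => ?_, ?_⟩
          · rw [← hψvec a (hMK ha)]; exact (hψcomm q _ hq (hvec a (hMK ha))).2 (h a ha)
          · obtain ⟨t, -, ht⟩ := hψeq _ q (hvec _ (hψK q hq hq0)) hq hq0 (hψvec _ (hψK q hq hq0))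
            exact ⟨t, ht⟩
        obtain ⟨a, ha⟩ : M.Nonempty := by
          by_contra h
          rw [Set.not_nonempty_iff_eq_empty] at h
          have := hMax d mem_d (fun a ha => by rw [h] at ha; exact absurd ha (Set.notMem_empty a))
          rw [h] at this
          exact this
        have haK := hMK ha
        obtain ⟨b, hb, hba⟩ : ∃ b ∈ M, ∀ t : F, vec b ≠ t • vec a := by
          by_contra hall
          push Not at hall
          obtain ⟨q, hq, hq0, hqa, hqne⟩ := exists_next hC (hvec a haK) (hvec0 a haK)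
          obtain ⟨b, hb, t, ht⟩ := ext q hq hq0 fun b hb => by
            obtain ⟨s, hs⟩ := hall b hb
            rw [hs, herm_smul_right, hqa, mul_zero]
          obtain ⟨s, hs⟩ := hall b hb
          exact hqne (t * s) (by rw [ht, hs, smul_smul])
        have hbK := hMK hb
        obtain ⟨c, hc, hcab⟩ : ∃ c ∈ M, ∀ s t : F, vec c ≠ s • vec a + t • vec b := by
          by_contra hall
          push Not at hall
          obtain ⟨q, hq, hq0, hqa, hqb, hqne⟩ :=
            exists_next_pair hC (hvec a haK) (hvec b hbK) (hne hb ha) (hvec0 a haK) hba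
          obtain ⟨c, hc, r, hr⟩ := ext q hq hq0 fun c hc => by
            obtain ⟨s, t, hs⟩ := hall c hc
            rw [hs, herm_add_right, herm_smul_right, herm_smul_right, hqa, hqb, mul_zero, mul_zero, add_zero]
          obtain ⟨s, t, hs⟩ := hall c hc
          exact hqne (r * s) (r * t) (by rw [hr, hs, smul_add, smul_smul, smul_smul])
        let v : Fin 3 → I6 → F := ![vec c, vec a, vec b]
        have hv : ∀ i j, herm C (v i) (v j) = 0 := fun i j => by
          fin_cases i <;> fin_cases j <;> first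
            | exact hne hc hc | exact hne hc ha | exact hne hc hb | exact hne ha hc | exact hne ha ha
            | exact hne ha hb | exact hne hb hc | exact hne hb ha | exact hne hb hb
        have hli : LinearIndependent F v := by
          refine linearIndependent_finCons.2 ⟨linearIndependent_fin2.2 ⟨hvec0 b hbK, fun t e => ?_⟩, fun hmem => ?_⟩
          · have e' : vec a = t • vec b := e.symm
            have ht : t ≠ 0 := fun ht => hvec0 a haK (by rw [e', ht, zero_smul])
            exact hba t⁻¹ (by rw [e', inv_smul_smul₀ ht])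
          · rw [show Set.range ![vec a, vec b] = {vec a, vec b} by simp [Set.pair_comm]] at hmem
            obtain ⟨s, t, h⟩ := Submodule.mem_span_pair.1 hmem
            exact hcab s t h.symm
        set W := Submodule.span F (Set.range v) with hW
        have hWorth : ∀ p ∈ W, ∀ q : I6 → F, (∀ i, herm C q (v i) = 0) → herm C q p = 0 := by
          intro p hp q hq
          induction hp using Submodule.span_induction with
          | mem x hx => obtain ⟨i, rfl⟩ := hx; exact hq i
          | zero => exact herm_zero_right C q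
          | add x y _ _ hx hy => rw [herm_add_right, hx, hy, add_zero]
          | smul t x _ hx => rw [herm_smul_right, hx, mul_zero]
        have hMW : ∀ g ∈ M, vec g ∈ W := fun g hg => by
          by_contra hout
          refine not_four_orth C (v := Fin.cons (vec g) v) ?_ (linearIndependent_finCons.2 ⟨hli, hout⟩)
          have hgv : ∀ i, herm C (vec g) (v i) = 0 ∧ herm C (v i) (vec g) = 0 := fun i => by
            fin_cases i <;> first
              | exact ⟨hne hg hc, hne hc hg⟩ | exact ⟨hne hg ha, hne ha hg⟩ | exact ⟨hne hg hb, hne hb hg⟩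
          intro i j
          refine Fin.cases ?_ (fun k => ?_) i <;> refine Fin.cases ?_ (fun l => ?_) j <;>
            simp only [Fin.cons_zero, Fin.cons_succ]
          · exact hne hg hg
          · exact (hgv l).1
          · exact (hgv k).2
          · exact hv k l
        have hWiso : ∀ p ∈ W, ∀ q ∈ W, herm C q p = 0 := fun p hp q hq =>
          hWorth p hp q fun i => by
            rw [← conj_herm, hWorth q hq (v i) (hv i), map_zero]
        have hset : {v : I6 → F | herm C v v = 0 ∧ v ≠ 0 ∧ ψ (tv C v) ∈ M} = (W : Set (I6 → F)) \ {0} := by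
          ext p
          constructor
          · rintro ⟨hp, hp0, hpM⟩
            obtain ⟨t, -, ht⟩ := hψeq (vec (ψ (tv C p))) p (hvec _ (hMK hpM)) hp hp0 (hψvec _ (hMK hpM))
            exact ⟨by rw [ht]; exact W.smul_mem _ (hMW _ hpM), hp0⟩
          · rintro ⟨hpW, hp0⟩
            refine ⟨hWiso p hpW p hpW, hp0, hMax _ (hψK p (hWiso p hpW p hpW) hp0) fun g hg => ?_⟩
            rw [← hψvec g (hMK hg)]
            exact (hψcomm p _ (hWiso p hpW p hpW) (hvec g (hMK hg))).2 (hWiso _ (hMW g hg) p hpW)
        have himg : (fun v => ψ (tv C v)) '' {v | herm C v v = 0 ∧ v ≠ 0 ∧ ψ (tv C v) ∈ M} = M := by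
          ext g
          exact ⟨fun ⟨p, hp, e⟩ => e ▸ hp.2.2, fun hg =>
            ⟨vec g, ⟨hvec g (hMK hg), hvec0 g (hMK hg), by rw [hψvec g (hMK hg)]; exact hg⟩, hψvec g (hMK hg)⟩⟩
        have h3 := FischerThm.Uni.three_mul_ncard C hC (fun v => ψ (tv C v)) (fun v w hv _ hw hw0 =>
          ⟨fun e => hψeq v w hv hw hw0 e, fun ⟨t, ht, e⟩ => by rw [e, tv_smul C hC ht hv]⟩) (· ∈ M)
        rw [himg] at h3
        have hcard : Nat.card {v : I6 → F // herm C v v = 0 ∧ v ≠ 0 ∧ ψ (tv C v) ∈ M} = 63 := by
          have e1 := Nat.card_coe_set_eq {v : I6 → F | herm C v v = 0 ∧ v ≠ 0 ∧ ψ (tv C v) ∈ M}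
          refine e1.trans ?_
          rw [hset, Set.ncard_sdiff (Set.singleton_subset_iff.2 W.zero_mem), Set.ncard_singleton,
            ← Nat.card_coe_set_eq, show Nat.card (W : Set (I6 → F)) = Nat.card W from rfl,
            Module.natCard_eq_pow_finrank (K := F), finrank_span_eq_card hli, Fintype.card_fin,
            Nat.card_eq_fintype_card, C.card, hC]
          norm_num
        omega }

/-- The component of a member of `U₆(2)` type is the whole class, and its group the whole group. -/
theorem LocalU.eq_top {d : G} (L : LocalU d) : conjugatesOf d = compSet d ∧ compGroup d = ⊤ := by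
  have hU : IsUniT {x : ↥(compGroup d) | (x : G) ∈ compSet d} 6 := L.isUniT
  have S : CompCore (conjugatesOf d) (compSet d) (compGroup d) d 21 :=
    compCore_of_unitary (fun x hx => L.inv hx) L.one_not_mem (fun g x hx => L.closed g hx) (fun x hx => LocalU.sub hx)
      LocalU.subH (fun a ha y hy => L.nbrK ha hy) (fun a ha b hb => L.trans ha hb) (fun a ha => L.cent ha) L.three
      L.mem_d L.no_odd (fun x hx => hx) L.gen L.conn L.two L.perfect hU
  exact ⟨eq_class_of_unitary S (by norm_num) hU, eq_top_of_unitary S (by norm_num) hU⟩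

end CfsgLib.USixRec
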