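import Cfsg.Agent.USixRec.Local
import Cfsg.Agent.USixRec.OfUnitary
import Cfsg.Agent.Components.FStar
import Cfsg.Agent.Inv54.ExtraspecialTransfer
import Cfsg.Agent.LocalStructure.Cores
import Cfsg.Agent.LargeExtraspecial.Simplicity
import Cfsg.Agent.Inv54.DihedralEight
import Cfsg.Agent.ZStar.Theorem
import Cfsg.Agent.Forms.UThreeTwo

/-!
# Recognition of `U₆(2)` from an involution centralizer `2^{1+8}.PSp₄(3)`
-/

set_option autoImplicit false
set_option linter.style.haveILetI false

open CfsgLib.LargeExtraspecial CfsgLib.SpFourThree70 CfsgLib.SporFischer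

namespace CfsgLib.USixRec

universe u v

variable {G : Type u} [Group G] [Finite G]

/-- An isolated involution gives `G = C(z) O(G)`. -/
theorem sup_oddCore_of_isolated {z : G} (h : Cfsg.IsIsolatedInvolution z) :
    Subgroup.centralizer ({z} : Set G) ⊔ Cfsg.oddCore G = ⊤ := by
  haveI : Fact (Nat.Prime 2) := ⟨Nat.prime_two⟩
  obtain ⟨N, hN, hNodd, hNc⟩ := CfsgLib.ZStar.exists_oddNormal h
  have hle : N ≤ Cfsg.oddCore G := CfsgLib.PLocal.le_pPrimeCore (Nat.coprime_two_right.2 hNodd)
  refine eq_top_iff.2 fun g _ => ?_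
  set w := g * z * g⁻¹ with hw
  have hwo : orderOf w = 2 := by rw [hw, CfsgLib.Small.orderOf_conj_eq, h.1]
  have hzw : z * w ∈ N := by
    have := hNc g
    rw [CfsgLib.Small.inv_eq_self_of_orderOf_two h.1] at this
    simpa [hw, mul_assoc] using this
  obtain ⟨k, hk⟩ := CfsgLib.Small.conj_pow_eq_of_odd h.1 hwo
    (hNodd.of_dvd_nat (N.orderOf_dvd_natCard hzw))
  set n := (z * w) ^ k
  have hc : n⁻¹ * g ∈ Subgroup.centralizer ({z} : Set G) := by
    rw [Subgroup.mem_centralizer_singleton_iff]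
    calc n⁻¹ * g * z = n⁻¹ * w * g := by rw [hw]; group
      _ = n⁻¹ * (n * z * n⁻¹) * g := by rw [hk]
      _ = z * (n⁻¹ * g) := by group
  rw [show g = n * (n⁻¹ * g) by group]
  exact Subgroup.mul_mem _ (Subgroup.mem_sup_right (hle (N.pow_mem hzw k)))
    (Subgroup.mem_sup_left hc)

namespace Shape

variable (S : Shape G)

/-- Either `z` is isolated or a conjugate outside `Q` commutes with it. -/
theorem isolated_or_out : Cfsg.IsIsolatedInvolution S.z ∨ Nonempty (Out S) := by
  refine or_iff_not_imp_right.2 fun h => ⟨S.sub.two, fun g hc => ?_⟩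
  by_contra hne
  obtain ⟨o, -⟩ := Out.exists_of_mem (S := S) (x := g * S.z * g⁻¹) (isConj_iff.2 ⟨g, rfl⟩) hne hc
  exact h ⟨o⟩

/-- The dichotomy. -/
theorem dichotomy {K : Type v} [Field K] [Fintype K] (hK : Fintype.card K = 4) :
    Nonempty (G ≃* Cfsg.PSU 6 K 2) ∨
      Subgroup.centralizer ({S.z} : Set G) ⊔ Cfsg.oddCore G = ⊤ := by
  rcases S.isolated_or_out with h | ⟨⟨o⟩⟩
  · exact Or.inr (sup_oddCore_of_isolated h)
  · left
    have L := S.localU o
    obtain ⟨F, iF, iT, hF, e, -⟩ := L.isUniT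
    obtain ⟨E⟩ := CfsgLib.Forms.UThreeTwo.nonempty_psu_equiv
      (FiniteField.ringEquivOfCardEq (K := F) (K' := K) (hF.trans hK.symm)) 6 2
    exact ⟨(Subgroup.topEquiv.symm.trans (MulEquiv.subgroupCongr L.eq_top.2.symm)).trans (e.trans E)⟩

end Shape

/-- The configuration from the 2-core. -/
theorem exists_shape {z : G} (hz : orderOf z = 2)
    (hQ : Cfsg.IsExtraspecial 2 ↥(Cfsg.pCore 2 ↥(Subgroup.centralizer ({z} : Set G))))
    (hQ9 : Nat.card ↥(Cfsg.pCore 2 ↥(Subgroup.centralizer ({z} : Set G))) = 2 ^ 9)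
    (hCQ : Subgroup.centralizer
        ((Cfsg.pCore 2 ↥(Subgroup.centralizer ({z} : Set G))) :
          Set ↥(Subgroup.centralizer ({z} : Set G))) ≤
      Cfsg.pCore 2 ↥(Subgroup.centralizer ({z} : Set G)))
    (π : ↥(Subgroup.centralizer ({z} : Set G)) →* P) (hπ : Function.Surjective π)
    (hker : π.ker = Cfsg.pCore 2 ↥(Subgroup.centralizer ({z} : Set G))) :
    ∃ S : Shape G, S.z = z := by
  obtain ⟨E, hE⟩ : ∃ E, E = (Cfsg.pCore 2 ↥(Subgroup.centralizer ({z} : Set G))).map
      (Subgroup.centralizer ({z} : Set G)).subtype := ⟨_, rfl⟩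
  have hext : Cfsg.IsExtraspecial 2 ↥E := hE ▸
    CfsgLib.LargeExtraspecial.isExtraspecial_of_mulEquiv
      (Subgroup.equivMapOfInjective _ _ (Subgroup.subtype_injective _)) hQ
  have hcard : Nat.card E = 512 := by
    rw [hE, Subgroup.card_map_of_injective (Subgroup.subtype_injective _), hQ9]
    norm_num
  have hcent : Subgroup.centralizer (E : Set G) ≤ E := by
    intro x hx
    have hx' := Subgroup.mem_centralizer_iff.mp hx
    have hzC : z ∈ Subgroup.centralizer ({z} : Set G) :=
      Subgroup.mem_centralizer_singleton_iff.mpr rfl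
    have hzE : z ∈ E := hE ▸ ⟨⟨z, hzC⟩, hCQ (Subgroup.mem_centralizer_iff.mpr fun q _ =>
      Subtype.ext (Subgroup.mem_centralizer_singleton_iff.mp q.2)), rfl⟩
    have hxC : x ∈ Subgroup.centralizer ({z} : Set G) :=
      Subgroup.mem_centralizer_singleton_iff.mpr (hx' z hzE).symm
    exact hE ▸ ⟨⟨x, hxC⟩, hCQ (Subgroup.mem_centralizer_iff.mpr fun q hq =>
      Subtype.ext (hx' q (hE ▸ ⟨q, hq, rfl⟩))), rfl⟩
  have hls := CfsgLib.Inv54.LargeSetup.of_pCore hz hE hext hcent
  have hzc : (⟨z, hls.memE⟩ : E) ∈ Subgroup.center E :=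
    Subgroup.mem_center_iff.mpr fun q => Subtype.ext (hls.comm q q.2).symm
  have hcen : (Subgroup.center E).map E.subtype = Subgroup.zpowers z := by
    refine le_antisymm ?_ (Subgroup.zpowers_le.mpr ⟨_, hzc, rfl⟩)
    rintro _ ⟨a, ha, rfl⟩
    rcases hls.eq_of_mem_center ha with h | h <;> rw [Subgroup.subtype_apply, h]
    exacts [one_mem _, Subgroup.mem_zpowers z]
  have hsub : CfsgLib.LargeExtraspecial.IsZSub E z := by
    refine ⟨hext, le_antisymm (fun x hx => ?_) ?_, ?_, hcen, hz⟩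
    · rw [hcen]
      rcases hls.center x (fun q hq => (Subgroup.mem_centralizer_iff.mp hx q hq).symm) with h | h <;>
        rw [h]
      exacts [one_mem _, Subgroup.mem_zpowers z]
    · rintro _ ⟨a, ha, rfl⟩
      exact Subgroup.mem_centralizer_iff.mpr fun q hq =>
        congrArg Subtype.val (Subgroup.mem_center_iff.mp ha ⟨q, hq⟩)
    · rw [hcen]
      exact fun x hx => hls.normal x
        (Subgroup.centralizer_le (Set.singleton_subset_iff.mpr (Subgroup.mem_zpowers z)) hx)
  exact ⟨{ z := z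
           Q := E
           sub := hsub
           card_Q := hcard
           ρ := π
           ρ_surj := hπ
           ρ_ker := fun m => by
             rw [← MonoidHom.mem_ker, hker, hE]
             exact ⟨fun h => ⟨m, h, rfl⟩, fun ⟨w, hw, hwe⟩ => Subtype.ext hwe ▸ hw⟩
           faithful := fun m hm h => hls.mem_of_centralizes_quotient hm h }, rfl⟩

end CfsgLib.USixRec
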