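import Mathlib.Data.List.Basic

/-!
# Data on the involutions of `PSp₄(3)` acting on the three modules

For the two classes: a basis of the fixed space, its orthogonal complement, and representatives
modulo that complement.
-/

set_option autoImplicit false

namespace CfsgLib.USixRec

/-- Fixed space, image and representatives: transvection class, kind A. -/
def datAT : List ℕ × List ℕ × List ℕ :=
  ([1, 2, 4, 8, 80, 160], [0, 80, 160, 240],
    [0, 1, 2, 3, 4, 5, 6, 7, 8, 9, 10, 11, 12, 13, 14, 15, 16, 17, 18, 19, 20, 21, 22, 23, 24, 25, 26, 27, 28, 29, 30, 31, 32, 33, 34, 35, 36, 37, 38, 39, 40, 41, 42, 43, 44, 45, 46, 47, 48, 49, 50, 51, 52, 53, 54, 55, 56, 57, 58, 59, 60, 61, 62, 63])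

/-- Fixed space, image and representatives: transvection class, kinds P and M. -/
def datBT : List ℕ × List ℕ × List ℕ :=
  ([1, 2, 20, 40, 64, 128], [0, 20, 40, 60],
    [0, 1, 2, 3, 4, 5, 6, 7, 8, 9, 10, 11, 12, 13, 14, 15, 64, 65, 66, 67, 68, 69, 70, 71, 72, 73, 74, 75, 76, 77, 78, 79, 128, 129, 130, 131, 132, 133, 134, 135, 136, 137, 138, 139, 140, 141, 142, 143, 192, 193, 194, 195, 196, 197, 198, 199, 200, 201, 202, 203, 204, 205, 206, 207])

/-- Fixed space, image and representatives: other class, kind A. -/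
def datAS : List ℕ × List ℕ × List ℕ :=
  ([5, 10, 80, 160], [0, 5, 10, 15, 80, 85, 90, 95, 160, 165, 170, 175, 240, 245, 250, 255],
    [0, 1, 2, 3, 16, 17, 18, 19, 32, 33, 34, 35, 48, 49, 50, 51])

/-- Fixed space, image and representatives: other class, kinds P and M. -/
def datBS : List ℕ × List ℕ × List ℕ :=
  ([1, 4, 16, 40, 64, 128], [0, 1, 20, 21],
    [0, 2, 4, 6, 8, 10, 12, 14, 32, 34, 36, 38, 40, 42, 44, 46, 64, 66, 68, 70, 72, 74, 76, 78, 96, 98, 100, 102, 104, 106, 108, 110, 128, 130, 132, 134, 136, 138, 140, 142, 160, 162, 164, 166, 168, 170, 172, 174, 192, 194, 196, 198, 200, 202, 204, 206, 224, 226, 228, 230, 232, 234, 236, 238])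

/-- Vector, a preimage under `1 + s`, and a word centralizing `s` moving the vector. -/
def betaA : List (ℕ × ℕ × List ℕ) :=
  [(5, 16, [3, 4, 3]), (10, 32, [3, 4, 3]), (15, 48, [3, 4, 3]), (80, 1, [3, 4, 3]), (85, 17, [0, 5, 1, 5, 0]), (90, 33, [3, 4, 3]), (95, 49, [3, 4, 3]), (160, 2, [3, 4, 3]), (165, 18, [3, 4, 3]), (170, 34, [0, 5, 1, 5, 0]), (175, 50, [3, 4, 3]), (240, 3, [3, 4, 3]), (245, 19, [3, 4, 3]), (250, 35, [3, 4, 3]), (255, 51, [0, 5, 1, 5, 0])]

end CfsgLib.USixRec
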