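import Cfsg.Agent.USixRec.Word

/-!
# Facts about `PSp₄(3)`

The two classes of involutions, the 45 transvection-like involutions, 2-subgroups of order at least
32 and the centralizer of a transvection-like involution.
-/

set_option autoImplicit false
set_option maxRecDepth 100000

namespace CfsgLib.USixRec

open Matrix CfsgLib.SpFourThree70

/-- A word of the standard transvection-like involution. -/
def wt : List ℕ := [4, 3, 4, 3, 3, 4, 3]

/-- A word of an involution of the other class. -/
def ws : List ℕ := [5, 3, 4, 3, 3, 4, 3]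

/-- The matrix of the code agrees with the word up to sign. -/
def CodeWord (n : ℕ) (w : List ℕ) : Prop :=
  (∀ j : Fin 2 ⊕ Fin 2, (fun r => mMat n r j) = v3 (wv w (3 ^ num j))) ∨
    ∀ j : Fin 2 ⊕ Fin 2, (fun r => mMat n r j) = -v3 (wv w (3 ^ num j))

theorem Φ_eq_wP {n : ℕ} {w : List ℕ} (h : CodeWord n w) : modelP.Φ n = wP w := by
  refine toP_eq_iff.2 ?_
  have hcol : ∀ (j : Fin 2 ⊕ Fin 2) r, (wS w).1 r j = v3 (wv w (3 ^ num j)) r := fun j r => by
    obtain ⟨h1, -, h3⟩ := basis_chk j
    rw [← (wv_spec _ h1).1, h3, mulVec_single_one]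
    rfl
  show (wS w).1 = mMat n ∨ (wS w).1 = -mMat n
  rcases h with h | h
  · exact Or.inl (Matrix.ext fun r j => (hcol j r).trans (congrFun (h j) r).symm)
  · exact Or.inr (Matrix.ext fun r j => by
      rw [Matrix.neg_apply, hcol, show mMat n r j = -v3 _ r from congrFun (h j) r, neg_neg])

theorem t_eq : modelP.t = wP wt := Φ_eq_wP (by unfold CodeWord; decide +kernel)

theorem code_four : code 4 = 50 ∧ code 2 < 1152 := by decide +kernel

theorem s_eq : modelP.s = wP ws := by
  show modelP.Φ (code 4) = _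
  rw [code_four.1]
  exact Φ_eq_wP (by unfold CodeWord; decide +kernel)

/-! ### The 45 -/

/-- The conjugator of the `i`-th transvection-like involution. -/
def trConj (i : ℕ) : List ℕ := trU.getD i []

/-- The word of the `i`-th transvection-like involution. -/
def trWord (i : ℕ) : List ℕ := trConj i ++ wt ++ winv (trConj i)

theorem trU_chk : ∀ i < 45, (∀ k ∈ trConj i, k < 6) ∧ key (trWord i) = trKey.getD i [] := by
  decide +kernel

theorem trConj_lt {i : ℕ} (hi : i < 45) : ∀ k ∈ trConj i, k < 6 := (trU_chk i hi).1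

theorem wP_trWord {i : ℕ} (hi : i < 45) :
    wP (trWord i) = wP (trConj i) * wP wt * (wP (trConj i))⁻¹ := by
  rw [trWord, wP_append, wP_append, wP_winv _ (trConj_lt hi)]

theorem tr_closed_chk : ∀ k < 6, ∀ i < 45, key (k :: trWord i ++ winv [k]) ∈ trKey := by
  decide +kernel

theorem tr_zero_chk : key (trWord 0) = key wt ∧ trKey.length = 45 := by decide +kernel

theorem exists_of_mem_trKey {w : List ℕ} (h : key w ∈ trKey) : ∃ i < 45, wP w = wP (trWord i) := by
  obtain ⟨i, hi, he⟩ := List.getElem_of_mem h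
  have hi' : i < 45 := tr_zero_chk.2 ▸ hi
  exact ⟨i, hi', wP_eq (by rw [(trU_chk i hi').2, List.getD_eq_getElem _ _ hi, he])⟩

theorem isConj_trWord {i : ℕ} (hi : i < 45) : IsConj (wP wt) (wP (trWord i)) :=
  isConj_iff.2 ⟨_, (wP_trWord hi).symm⟩

/-- Every conjugate of the standard one is one of the 45. -/
theorem exists_trWord {x : P} (hx : IsConj (wP wt) x) : ∃ i < 45, x = wP (trWord i) := by
  obtain ⟨g, rfl⟩ := isConj_iff.1 hx
  obtain ⟨w, hw, rfl⟩ := exists_word g
  clear hx
  induction w with
  | nil => exact ⟨0, by norm_num, by simpa using (wP_eq tr_zero_chk.1).symm⟩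
  | cons k w ih =>
    obtain ⟨i, hi, he⟩ := ih fun j hj => hw j (List.mem_cons_of_mem _ hj)
    obtain ⟨j, hj, hje⟩ := exists_of_mem_trKey (tr_closed_chk k (hw k List.mem_cons_self) i hi)
    refine ⟨j, hj, ?_⟩
    rw [← hje, wP_append, wP_winv _ (by simpa using hw k List.mem_cons_self),
      wP_cons k (trWord i), wP_cons k w, _root_.mul_inv_rev, ← he]
    group

theorem code_two_word : CodeWord (code 2) ([3, 4, 3] ++ wt ++ winv [3, 4, 3]) := by
  unfold CodeWord; decide +kernel

theorem oriented : modelP.Oriented := by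
  have h : wP [3, 4, 3] * modelP.t * (wP [3, 4, 3])⁻¹ = modelP.el 2 := by
    show _ = modelP.Φ (code 2)
    rw [Φ_eq_wP code_two_word, t_eq, wP_append, wP_append, wP_winv _ (by decide)]
  obtain ⟨g, hg, hge⟩ := modelP.exists_norm_conj modelP.t_mem_A
    (g := wP [3, 4, 3]) (h ▸ modelP.el_mem (by norm_num))
  exact ⟨g, 2, by decide, hg, hge.trans h⟩

/-- The two classes of involutions. -/
theorem inv_cases {x : P} (hx : x * x = 1) (h1 : x ≠ 1) : IsConj (wP wt) x ∨ IsConj (wP ws) x := by
  rw [← t_eq, ← s_eq]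
  exact modelP.isConj_t_or_s oriented (orderOf_eq_prime (by rwa [pow_two]) h1)

theorem not_isConj_t_s : ¬ IsConj (wP wt) (wP ws) := by
  rw [← t_eq, ← s_eq]
  exact modelP.not_isConj_t_s oriented

/-! ### The centralizer of the standard one -/

/-- Its three generators. -/
def centWords : List (List ℕ) := [[0], [4], [5]]

/-- Their codes. -/
def centCodes : List ℕ := [336, 576, 627]

theorem cent_word : ∀ i < 3, CodeWord (centCodes.getD i 0) (centWords.getD i []) := by
  unfold CodeWord; decide +kernel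

theorem cent_word_comm : ∀ i < 3, key (centWords.getD i [] ++ wt) = key (wt ++ centWords.getD i []) := by
  decide +kernel

theorem centre_mod_chk : codes.all (fun n => !((List.range 3).all fun i =>
    let c := centCodes.getD i 0
    eqc (mul (mul n c) (mul (inv n) (inv c))) 0 || eqc (mul (mul n c) (mul (inv n) (inv c))) 1) ||
      eqc n 0 || eqc n 1) = true := by
  decide +kernel

/-- The centralizer of the standard involution has centre of order two modulo that involution. -/
theorem eq_of_comm_mod {y : P} (hy : y * wP wt = wP wt * y)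
    (h : ∀ i < 3, y * wP (centWords.getD i []) * y⁻¹ * (wP (centWords.getD i []))⁻¹ = 1 ∨
      y * wP (centWords.getD i []) * y⁻¹ * (wP (centWords.getD i []))⁻¹ = wP wt) :
    y = 1 ∨ y = wP wt := by
  rw [← t_eq] at hy h ⊢
  obtain ⟨n, hn, -, rfl⟩ := modelP.exists_code hy
  have key := chk_all centre_mod_chk hn
  have hall : ((List.range 3).all fun i =>
      let c := centCodes.getD i 0
      eqc (mul (mul n c) (mul (inv n) (inv c))) 0 ||
        eqc (mul (mul n c) (mul (inv n) (inv c))) 1) = true := by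
    refine List.all_eq_true.2 fun i hi => ?_
    have hi3 := List.mem_range.1 hi
    have hc : centCodes.getD i 0 < 1152 := (show ∀ i < 3, centCodes.getD i 0 < 1152 by decide) i hi3
    have hi' := h i hi3
    rw [← Φ_eq_wP (cent_word i hi3), ← modelP.map_inv hn, ← modelP.map_inv hc,
      ← modelP.mul_eq n _ hn hc, mul_assoc, ← modelP.mul_eq _ _ (inv_lt n) (inv_lt _),
      ← modelP.mul_eq _ _ (mul_lt hn _) (mul_lt (inv_lt n) _)] at hi'
    simp only [Bool.or_eq_true]
    rcases hi' with e | e
    · exact Or.inl ((modelP.eq_one_iff (mul_lt (mul_lt hn _) _)).1 e)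
    · exact Or.inr ((modelP.eq_iff _ 1 (mul_lt (mul_lt hn _) _) (by norm_num)).1 e)
  rw [hall] at key
  simp only [Bool.not_true, Bool.false_or, Bool.or_eq_true] at key
  rcases key with e | e
  · exact Or.inl ((modelP.eq_one_iff hn).2 e)
  · exact Or.inr ((modelP.eq_iff n 1 hn (by norm_num)).2 e)

/-- The 2-core of the centralizer, on codes. -/
def inQ (n : ℕ) : Bool := Nat.beq (sw n) 0 && inS n

/-- Codes generating it. -/
def qCodes : List ℕ := (List.range 8).map (fun a => mk 0 a 0) ++ (List.range 8).map (fun b => mk 0 0 b)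

theorem qCodes_chk : (∀ q ∈ qCodes, q < 1152) ∧
    codes.all (fun n => qCodes.all fun q => inQ (mul q (cj n (inv q)))) = true ∧
    codes.all (fun n => !inQ n || eqc (mul (mul n n) (mul n n)) 0) = true ∧
    codes.all (fun n => !(qCodes.all fun q => eqc (mul q (cj n (inv q))) 0) || eqc n 0 || eqc n 1) = true := by
  refine ⟨?_, ?_, ?_, ?_⟩ <;> decide +kernel

/-- A subgroup of odd order normal in the centralizer of the standard involution is trivial. -/
theorem eq_bot_of_odd_normal {R : Subgroup P} (hodd : Odd (Nat.card R))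
    (hR : ∀ r ∈ R, r * wP wt = wP wt * r)
    (hn : ∀ y : P, y * wP wt = wP wt * y → ∀ r ∈ R, y * r * y⁻¹ ∈ R) : R = ⊥ := by
  rw [← t_eq] at hR hn
  obtain ⟨hq, h1, h2, h3⟩ := qCodes_chk
  rw [Subgroup.eq_bot_iff_forall]
  intro r hr
  obtain ⟨n, hn', -, rfl⟩ := modelP.exists_code (hR r hr)
  have ho : Odd (orderOf (modelP.Φ n)) := hodd.of_dvd_nat (Subgroup.orderOf_dvd_natCard R hr)
  have hall : (qCodes.all fun q => eqc (mul q (cj n (inv q))) 0) = true := by
    refine List.all_eq_true.2 fun q hqm => ?_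
    have hlt := mul_lt (hq q hqm) (cj n (inv q))
    have hmem : modelP.Φ (mul q (cj n (inv q))) ∈ R := by
      rw [modelP.mul_eq _ _ (hq q hqm) (cj_lt hn' _), modelP.map_cj hn' (inv_lt q),
        modelP.map_inv (hq q hqm),
        show modelP.Φ q * (modelP.Φ n * (modelP.Φ q)⁻¹ * (modelP.Φ n)⁻¹) =
          modelP.Φ q * modelP.Φ n * (modelP.Φ q)⁻¹ * (modelP.Φ n)⁻¹ by group]
      exact mul_mem (hn _ (modelP.t_comm (hq q hqm)) _ hr) (inv_mem hr)
    have hinQ := List.all_eq_true.1 (chk_all h1 hn') q hqm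
    have h4 := chk_all h2 hlt
    rw [hinQ] at h4
    simp only [Bool.not_true, Bool.false_or] at h4
    refine (modelP.eq_one_iff hlt).1 ?_
    have hy : modelP.Φ (mul q (cj n (inv q))) ^ 4 = 1 := by
      rw [show (4 : ℕ) = 2 + 2 from rfl, pow_add, pow_two, ← modelP.mul_eq _ _ hlt hlt,
        ← modelP.mul_eq _ _ (mul_lt hlt _) (mul_lt hlt _)]
      exact (modelP.eq_one_iff (mul_lt (mul_lt hlt _) _)).2 h4
    have hodd' := hodd.of_dvd_nat (Subgroup.orderOf_dvd_natCard R hmem)
    exact orderOf_eq_one_iff.1 (Nat.eq_one_of_dvd_coprimes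
      (show Nat.Coprime 4 (orderOf (modelP.Φ (mul q (cj n (inv q))))) by
        simpa using Nat.Coprime.pow_left 2 (Nat.coprime_two_left.2 hodd'))
      (orderOf_dvd_of_pow_eq_one hy) dvd_rfl)
  have h5 := chk_all h3 hn'
  rw [hall] at h5
  simp only [Bool.not_true, Bool.false_or, Bool.or_eq_true] at h5
  rcases h5 with e | e
  · exact (modelP.eq_one_iff hn').2 e
  · exfalso
    rw [(modelP.eq_iff n 1 hn' (by norm_num)).2 e, show modelP.Φ 1 = modelP.t from rfl,
      modelP.orderOf_t] at ho
    exact absurd ho (by decide)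

end CfsgLib.USixRec
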