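import Cfsg.Agent.USixRec.Model
import Cfsg.Agent.USixRec.Group
import Cfsg.Agent.USixRec.DataOut

/-!
# Certificates for the two classes of involutions on the three modules
-/

set_option autoImplicit false
set_option maxRecDepth 100000
set_option synthInstance.maxSize 100000
set_option synthInstance.maxHeartbeats 400000

namespace CfsgLib.USixRec

open CfsgLib.ExtraNine (app spanList)

/-- What is known about an involution on a module: `b` is a basis of the fixed space, `W` the image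
of `1 + τ`, and `us` represents the linear forms on the fixed space. -/
def FixOK (K : Kind) (w : List ℕ) (d : List ℕ × List ℕ × List ℕ) : Prop :=
  (∀ n < 256, (K.ev w n = n ↔ n ∈ spanList d.1)) ∧ (spanList d.1).Nodup ∧
  (∀ n ∈ spanList d.1, n < 256) ∧
  (∀ a ∈ d.2.1, a < 256 ∧ a ∈ spanList d.1 ∧ ∃ p < 256, K.ev w p ^^^ p = a) ∧
  (∀ n < 256, K.ev w n ^^^ n ∈ d.2.1) ∧
  (∀ n < 256, (∀ b ∈ d.1, bF n b = 0) → n ∈ d.2.1) ∧
  (∀ s < 2 ^ d.1.length, ∃ u ∈ d.2.2, u < 256 ∧ ∀ i < d.1.length, bF u (d.1.getD i 0) = bitF s i) ∧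
  d.2.1.Nodup

/-- The kernel of a linear form on the fixed space. -/
def kerU (b : List ℕ) (u : ℕ) : List ℕ := (spanList b).filter fun v => bF u v == 0

/-- Its radical. -/
def radU (b : List ℕ) (u : ℕ) : List ℕ :=
  (kerU b u).filter fun v => (kerU b u).all fun x => bF v x == 0

theorem fixAT : FixOK kA wt datAT := by unfold FixOK; decide +kernel

theorem fixAS : FixOK kA ws datAS := by unfold FixOK; decide +kernel

theorem fixPT : FixOK kP wt datBT := by unfold FixOK; decide +kernel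

theorem fixMT : FixOK kM wt datBT := by unfold FixOK; decide +kernel

theorem fixPS : FixOK kP ws datBS := by unfold FixOK; decide +kernel

theorem fixMS : FixOK kM ws datBS := by unfold FixOK; decide +kernel

/-- The transvection class: a nonzero form has a radical of order eight over the complement. -/
theorem formT_chk : ∀ p ∈ [(kA, datAT), (kP, datBT), (kM, datBT)],
    p.2.2.1.length = 4 ∧ (spanList p.2.1).length = 64 ∧ kerU p.2.1 0 = spanList p.2.1 ∧
    (radU p.2.1 0).length = 4 ∧ (∀ v ∈ radU p.2.1 0, v ∈ p.2.2.1) ∧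
    ∀ u ∈ p.2.2.2, (∀ a ∈ p.2.2.1, bF u a = qF p.1.c a) → u ≠ 0 →
      (kerU p.2.1 u).length = 32 ∧ (radU p.2.1 u).length = 8 ∧
      (∀ a ∈ radU p.2.1 u, ∀ a' ∈ radU p.2.1 u,
        a ∈ p.2.2.1 ∨ a' ∈ p.2.2.1 ∨ a ^^^ a' ∈ p.2.2.1) := by
  decide +kernel

/-- The other class on the modules with three blocks: the radical lies in the complement. -/
theorem formBS_chk : ∀ p ∈ [(kP, datBS), (kM, datBS)],
    ∀ u ∈ p.2.2.2, (∀ a ∈ p.2.2.1, bF u a = qF p.1.c a) →
      u ≠ 0 ∧ (kerU p.2.1 u).length = 32 ∧ (radU p.2.1 u).length = 2 ∧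
      ∀ a ∈ radU p.2.1 u, a ∈ p.2.2.1 := by
  decide +kernel

/-- The other class on the natural module: the fixed space is totally singular and is the image. -/
theorem formAS_chk : (∀ u ∈ datAS.2.2, (∀ a ∈ datAS.2.1, bF u a = qF kA.c a) → u = 0) ∧
    (spanList datAS.1).length = 16 ∧ (∀ v ∈ spanList datAS.1, v ∈ datAS.2.1 ∧ qF kA.c v = 0 ∧
      ∀ x ∈ spanList datAS.1, bF v x = 0) := by
  decide +kernel

theorem betaA_chk : (∀ a ∈ datAS.2.1, a = 0 ∨ ∃ r ∈ betaA, r.1 = a) ∧
    ∀ r ∈ betaA, r.2.1 < 256 ∧ kA.ev ws r.2.1 ^^^ r.2.1 = r.1 ∧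
      key (r.2.2 ++ ws) = key (ws ++ r.2.2) ∧ (∀ k ∈ r.2.2, k < 6) ∧
      kA.ev r.2.2 r.1 ≠ r.1 ∧ bF r.2.1 (kA.ev r.2.2 r.1) = 0 := by
  decide +kernel

/-- The plane fixed by the whole group on the modules with three blocks. -/
theorem plane_chk : ∀ K ∈ [kP, kM], (∀ k < 6, app (K.mats.getD k []) 64 = 64) ∧ 64 ∉ datBT.2.1 := by
  decide +kernel

end CfsgLib.USixRec
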