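import Cfsg.Agent.USixRec.Setup
import Mathlib.Algebra.CharP.Two

/-!
# Eigen components of the elementary group of order 27 on `J / Z(J)`

A component is given by two words generating the kernel of its character; the first generator moves
every nonzero vector of it.
-/

set_option autoImplicit false
set_option maxRecDepth 100000

open CfsgLib.SpFourThree70

namespace CfsgLib.USixRec

universe u

variable {G : Type u} [Group G] {S : Shape G}

/-- The action of a word. -/
noncomputable def wa (S : Shape G) (w : List ℕ) (v : S.Vec) : S.Vec := S.act (wP w) v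

open Shape

theorem wa_nil (v : S.Vec) : wa S [] v = v := by rw [wa, wP_nil, act_one]

theorem wa_append (w w' : List ℕ) (v : S.Vec) : wa S (w ++ w') v = wa S w (wa S w' v) := by
  rw [wa, wP_append, act_mul]; rfl

theorem wa_add (w : List ℕ) (v v' : S.Vec) : wa S w (v + v') = wa S w v + wa S w v' := map_add _ _ _

theorem wa_zero (w : List ℕ) : wa S w (0 : S.Vec) = 0 := map_zero _

theorem wa_congr {w w' : List ℕ} (h : key w = key w') (v : S.Vec) : wa S w v = wa S w' v := by
  rw [wa, wa, wP_eq h]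

theorem wa_inj (w : List ℕ) : Function.Injective (wa S w) := act_injective _

/-- The product of words from a list of indices. -/
def selW (ws : List (List ℕ)) (l : List ℕ) : List ℕ := l.flatMap fun i => ws.getD i []

theorem wa_selW {ws : List (List ℕ)} {v : S.Vec} (h : ∀ w ∈ ws, wa S w v = v) :
    ∀ l : List ℕ, wa S (selW ws l) v = v
  | [] => wa_nil v
  | i :: l => by
    rw [selW, List.flatMap_cons, ← selW, wa_append, wa_selW h l]
    by_cases hi : i < ws.length
    · rw [List.getD_eq_getElem _ _ hi]; exact h _ (List.getElem_mem hi)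
    · rw [List.getD_eq_default _ _ (not_lt.1 hi), wa_nil]

/-- Powers of the moving element. -/
def gPow (m : ℕ) : List ℕ := List.replicate m 0

/-- A vector of the component with kernel `r`. -/
structure Comp (S : Shape G) (r : List (List ℕ)) (x : S.Vec) : Prop where
  fix : ∀ w ∈ r, wa S w x = x
  mv : x + wa S [0] x + wa S [0, 0] x = 0

namespace Comp

variable {r : List (List ℕ)} {x : S.Vec}

theorem zero (S : Shape G) (r : List (List ℕ)) : Comp S r (0 : S.Vec) :=
  ⟨fun w _ => wa_zero w, by simp [wa_zero]⟩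

theorem add {y : S.Vec} (hx : Comp S r x) (hy : Comp S r y) : Comp S r (x + y) := by
  refine ⟨fun w hw => by rw [wa_add, hx.fix w hw, hy.fix w hw], ?_⟩
  rw [wa_add, wa_add, show x + y + (wa S [0] x + wa S [0] y) + (wa S [0, 0] x + wa S [0, 0] y) =
    (x + wa S [0] x + wa S [0, 0] x) + (y + wa S [0] y + wa S [0, 0] y) by abel, hx.mv, hy.mv, add_zero]

theorem ggx (h : Comp S r x) : wa S [0, 0] x = x + wa S [0] x := by
  calc wa S [0, 0] x = (x + wa S [0] x + wa S [0, 0] x) + (x + wa S [0] x) := by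
        rw [show x + wa S [0] x + wa S [0, 0] x + (x + wa S [0] x) =
          (x + x) + (wa S [0] x + wa S [0] x) + wa S [0, 0] x by abel, Shape.add_self', Shape.add_self']
        simp
    _ = x + wa S [0] x := by rw [h.mv, zero_add]

theorem eq_zero_of_fixed (h : Comp S r x) (he : wa S [0] x = x) : x = 0 := by
  have h2 : wa S [0, 0] x = x := by rw [show ([0, 0] : List ℕ) = [0] ++ [0] from rfl, wa_append, he, he]
  have := h.mv
  rwa [he, h2, Shape.add_self', zero_add] at this

theorem kills (h : Comp S r x) {m : ℕ} (hm : m = 1 ∨ m = 2) :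
    x + wa S (gPow m) x + wa S (gPow m) (wa S (gPow m) x) = 0 := by
  rcases hm with rfl | rfl
  · rw [← wa_append]; exact h.mv
  · rw [← wa_append]
    show x + wa S [0, 0] x + wa S [0, 0, 0, 0] x = 0
    rw [wa_congr (w := [0, 0, 0, 0]) (w' := [0]) (by decide +kernel), add_right_comm]
    exact h.mv

theorem fix_gPow (h : Comp S r x) (hc : ∀ f ∈ r, key (f ++ [0]) = key ([0] ++ f)) :
    ∀ m : ℕ, ∀ f ∈ r, wa S f (wa S (gPow m) x) = wa S (gPow m) x
  | 0, f, hf => by rw [gPow, List.replicate_zero, wa_nil]; exact h.fix f hf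
  | m + 1, f, hf => by
    rw [gPow, List.replicate_succ, show (0 :: List.replicate m 0) = [0] ++ gPow m from rfl, wa_append,
      ← wa_append, wa_congr (hc f hf), wa_append, fix_gPow h hc m f hf]

/-- A word conjugating the moving element to one of its powers modulo the kernel. -/
theorem conj_gg (h : Comp S r x) (hc : ∀ f ∈ r, key (f ++ [0]) = key ([0] ++ f)) {e w : List ℕ}
    {m : ℕ} {c : List ℕ} (h3 : key (e ++ w) = key (w ++ (gPow m ++ selW r c))) :
    wa S e (wa S w x) = wa S w (wa S (gPow m) x) ∧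
      wa S e (wa S e (wa S w x)) = wa S w (wa S (gPow m) (wa S (gPow m) x)) := by
  have h1 : wa S e (wa S w x) = wa S w (wa S (gPow m) x) := by
    rw [← wa_append, wa_congr h3, wa_append, wa_append, wa_selW h.fix]
  refine ⟨h1, ?_⟩
  rw [h1, ← wa_append, wa_congr h3, wa_append, wa_append, wa_selW (h.fix_gPow hc m)]

/-- Moving a component by a word. -/
theorem transport {f₁ f₂ h : List ℕ} {a b c : List ℕ} {m : ℕ} (hm : m = 1 ∨ m = 2) (hx : Comp S r x)
    (hc : ∀ f ∈ r, key (f ++ [0]) = key ([0] ++ f))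
    (h1 : key (f₁ ++ h) = key (h ++ selW r a)) (h2 : key (f₂ ++ h) = key (h ++ selW r b))
    (h3 : key ([0] ++ h) = key (h ++ (gPow m ++ selW r c))) : Comp S [f₁, f₂] (wa S h x) := by
  obtain ⟨hg, hgg⟩ := hx.conj_gg hc h3
  refine ⟨fun w hw => ?_, ?_⟩
  · simp only [List.mem_cons, List.not_mem_nil, or_false] at hw
    rcases hw with rfl | rfl
    · rw [← wa_append, wa_congr h1, wa_append, wa_selW hx.fix]
    · rw [← wa_append, wa_congr h2, wa_append, wa_selW hx.fix]
  · rw [show ([0, 0] : List ℕ) = [0] ++ [0] from rfl, wa_append, hgg, hg, ← wa_add, ← wa_add,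
      hx.kills hm, wa_zero]

end Comp

/-- The sum over the powers of a word of order three. -/
noncomputable def proj (S : Shape G) (f : List ℕ) (v : S.Vec) : S.Vec := v + wa S f v + wa S f (wa S f v)

theorem proj_zero (f : List ℕ) : proj S f 0 = 0 := by simp [proj, wa_zero]

theorem proj_add (f : List ℕ) (v v' : S.Vec) : proj S f (v + v') = proj S f v + proj S f v' := by
  simp only [proj, wa_add]; abel

theorem proj_fixed {f : List ℕ} {v : S.Vec} (h : wa S f v = v) : proj S f v = v := by
  rw [proj, h, h, Shape.add_self', zero_add]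

theorem wa_comm {f f' : List ℕ} (h : key (f ++ f') = key (f' ++ f)) (v : S.Vec) :
    wa S f (wa S f' v) = wa S f' (wa S f v) := by
  rw [← wa_append, wa_congr h, wa_append]

theorem proj_comm {f f' : List ℕ} (h : key (f ++ f') = key (f' ++ f)) (v : S.Vec) :
    proj S f (proj S f' v) = proj S f' (proj S f v) := by
  have e : ∀ v, wa S f (proj S f' v) = proj S f' (wa S f v) := fun v => by
    simp only [proj, wa_add, wa_comm h]
  rw [proj, e v, e (wa S f v)]
  simp only [proj_add, proj]
  simp only [wa_add]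
  abel

/-- The composition of projections. -/
noncomputable def projs (S : Shape G) : List (List ℕ) → S.Vec → S.Vec
  | [], v => v
  | f :: l, v => projs S l (proj S f v)

theorem projs_zero : ∀ l : List (List ℕ), projs S l 0 = 0
  | [] => rfl
  | f :: l => by rw [projs, proj_zero, projs_zero l]

theorem projs_add : ∀ (l : List (List ℕ)) (v v' : S.Vec), projs S l (v + v') = projs S l v + projs S l v'
  | [], _, _ => rfl
  | f :: l, v, v' => by rw [projs, proj_add, projs_add l]; rfl

theorem projs_fixed : ∀ (l : List (List ℕ)) (v : S.Vec), (∀ f ∈ l, wa S f v = v) → projs S l v = v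
  | [], _, _ => rfl
  | f :: l, v, h => by
    rw [projs, proj_fixed (h f List.mem_cons_self), projs_fixed l v fun g hg => h g (List.mem_cons_of_mem _ hg)]

theorem projs_killed : ∀ (l : List (List ℕ)) (v : S.Vec),
    (∀ f ∈ l, ∀ f' ∈ l, key (f ++ f') = key (f' ++ f)) → (∃ f ∈ l, proj S f v = 0) → projs S l v = 0
  | [], _, _, h => by simpa using h
  | f :: l, v, hc, ⟨f', hf', h0⟩ => by
    rcases List.mem_cons.1 hf' with rfl | hf''
    · rw [projs, h0, projs_zero]
    · rw [projs]
      refine projs_killed l _ (fun a ha b hb => hc a (List.mem_cons_of_mem _ ha) b (List.mem_cons_of_mem _ hb))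
        ⟨f', hf'', ?_⟩
      rw [proj_comm (hc f' hf' f List.mem_cons_self), h0, proj_zero]

/-! ### Separated translates of one component -/

/-- The table entry separating the translate `i` from the translate `j`. -/
def sepAt (sep : List (List (List ℕ × List ℕ × ℕ × List ℕ))) (i j : ℕ) :
    List ℕ × List ℕ × ℕ × List ℕ := (sep.getD i []).getD j ([], [], 1, [])

/-- The words of a row of the table. -/
def sepRow (sep : List (List (List ℕ × List ℕ × ℕ × List ℕ))) (nb i : ℕ) : List (List ℕ) :=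
  ((List.range nb).filter fun j => !Nat.beq i j).map fun j => (sepAt sep i j).1

/-- The table is correct. -/
def SepOK (r : List (List ℕ)) (ts : List (List ℕ)) (sep : List (List (List ℕ × List ℕ × ℕ × List ℕ)))
    (nb : ℕ) : Prop :=
  (∀ f ∈ r, key (f ++ [0]) = key ([0] ++ f)) ∧
  (∀ i < nb, ∀ j < nb, i ≠ j →
    key ((sepAt sep i j).1 ++ ts.getD i []) = key (ts.getD i [] ++ selW r (sepAt sep i j).2.1) ∧
    ((sepAt sep i j).2.2.1 = 1 ∨ (sepAt sep i j).2.2.1 = 2) ∧
    key ((sepAt sep i j).1 ++ ts.getD j []) =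
      key (ts.getD j [] ++ (gPow (sepAt sep i j).2.2.1 ++ selW r (sepAt sep i j).2.2.2))) ∧
  ∀ i < nb, ∀ f ∈ sepRow sep nb i, ∀ f' ∈ sepRow sep nb i, key (f ++ f') = key (f' ++ f)

variable {r : List (List ℕ)} {ts : List (List ℕ)}
  {sep : List (List (List ℕ × List ℕ × ℕ × List ℕ))} {nb : ℕ}

theorem sep_fix (h : SepOK r ts sep nb) {i j : ℕ} (hi : i < nb) (hj : j < nb) (hij : i ≠ j)
    {x : S.Vec} (hx : Comp S r x) :
    wa S (sepAt sep i j).1 (wa S (ts.getD i []) x) = wa S (ts.getD i []) x := by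
  rw [← wa_append, wa_congr (h.2.1 i hi j hj hij).1, wa_append, wa_selW hx.fix]

theorem sep_kill (h : SepOK r ts sep nb) {i j : ℕ} (hi : i < nb) (hj : j < nb) (hij : i ≠ j)
    {x : S.Vec} (hx : Comp S r x) : proj S (sepAt sep i j).1 (wa S (ts.getD j []) x) = 0 := by
  obtain ⟨-, hm, h3⟩ := h.2.1 i hi j hj hij
  obtain ⟨hg, hgg⟩ := hx.conj_gg h.1 h3
  rw [proj, hgg, hg, ← wa_add, ← wa_add, hx.kills hm, wa_zero]

/-- Different translates are orthogonal. -/
theorem sep_orth (h : SepOK r ts sep nb) {i j : ℕ} (hi : i < nb) (hj : j < nb) (hij : i ≠ j)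
    {x y : S.Vec} (hx : Comp S r x) (hy : Comp S r y) :
    S.B (wa S (ts.getD i []) x) (wa S (ts.getD j []) y) = 0 := by
  set f := (sepAt sep i j).1
  set X := wa S (ts.getD i []) x
  set Y := wa S (ts.getD j []) y
  have hX : wa S f X = X := sep_fix h hi hj hij hx
  have h1 : ∀ Z, S.B X (wa S f Z) = S.B X Z := fun Z => by
    conv_lhs => rw [← hX]
    exact Shape.B_act _ _ _
  have h2 : S.B X (proj S f Y) = 0 := by
    rw [show proj S f Y = 0 from sep_kill h hi hj hij hy, Shape.B_zero_right]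
  rw [proj, Shape.B_add_right, Shape.B_add_right, h1, h1] at h2
  rwa [h1, CharTwo.add_self_eq_zero, zero_add] at h2

theorem sep_isolate (h : SepOK r ts sep nb) {i j : ℕ} (hi : i < nb) (hj : j < nb) {x : S.Vec}
    (hx : Comp S r x) :
    projs S (sepRow sep nb i) (wa S (ts.getD j []) x) =
      if i = j then wa S (ts.getD j []) x else 0 := by
  have hmem : ∀ f ∈ sepRow sep nb i, ∃ k < nb, i ≠ k ∧ (sepAt sep i k).1 = f := by
    intro f hf
    obtain ⟨k, hk, rfl⟩ := List.mem_map.1 hf
    obtain ⟨hk1, hk2⟩ := List.mem_filter.1 hk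
    exact ⟨k, List.mem_range.1 hk1, fun e => by simp [e] at hk2, rfl⟩
  by_cases hij : i = j
  · subst hij
    rw [if_pos rfl, projs_fixed]
    intro f hf
    obtain ⟨k, hk, hik, rfl⟩ := hmem f hf
    exact sep_fix h hi hk hik hx
  · rw [if_neg hij]
    refine projs_killed _ _ (h.2.2 i hi) ⟨(sepAt sep i j).1, List.mem_map.2 ⟨j, List.mem_filter.2
      ⟨List.mem_range.2 hj, by simpa [← Bool.not_eq_true, Nat.beq_eq] using hij⟩, rfl⟩, sep_kill h hi hj hij hx⟩

/-- The translates of a component fit in independently. -/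
theorem card_comp_pow_le [Finite G] (h : SepOK r ts sep nb) {C : Set S.Vec} (hC : ∀ x ∈ C, Comp S r x) :
    Nat.card C ^ nb ≤ 256 := by
  classical
  haveI : Finite S.Vec := Nat.finite_of_card_ne_zero (by rw [Shape.card_vec]; norm_num)
  let T : ℕ → S.Vec →+ S.Vec := fun i => AddMonoidHom.mk' (projs S (sepRow sep nb i)) (projs_add _)
  have hinj : Function.Injective fun x : Fin nb → C => ∑ j : Fin nb, wa S (ts.getD (j : ℕ) []) (x j : S.Vec) := by
    intro x y hxy
    funext i
    have key : ∀ x : Fin nb → C, T i (∑ j : Fin nb, wa S (ts.getD (j : ℕ) []) (x j : S.Vec)) =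
        wa S (ts.getD (i : ℕ) []) (x i : S.Vec) := fun x => by
      rw [map_sum]
      show ∑ j : Fin nb, projs S (sepRow sep nb i) (wa S (ts.getD (j : ℕ) []) (x j : S.Vec)) = _
      rw [Finset.sum_congr rfl fun j _ => sep_isolate h i.2 j.2 (hC _ (x j).2)]
      simp [Fin.val_inj]
    have h1 := congrArg (T i) hxy
    rw [key x, key y] at h1
    exact Subtype.ext (wa_inj _ h1)
  have h2 := Nat.card_le_card_of_injective _ hinj
  rwa [Nat.card_fun, Nat.card_fin, Shape.card_vec] at h2

/-- A nonzero vector of a component gives four. -/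
theorem Comp.four {x : S.Vec} (hx : Comp S r x) (h0 : x ≠ 0) :
    wa S [0] x ≠ x ∧ wa S [0, 0] x ≠ x ∧ wa S [0] x ≠ 0 ∧ wa S [0, 0] x ≠ 0 ∧
      wa S [0] x ≠ wa S [0, 0] x := by
  have h1 : wa S [0] x ≠ x := fun e => h0 (hx.eq_zero_of_fixed e)
  have h3 : wa S [0] x ≠ 0 := fun e => h0 (wa_inj [0] (e.trans (wa_zero _).symm))
  refine ⟨h1, fun e => h3 ?_, h3, fun e => h0 (wa_inj [0, 0] (e.trans (wa_zero _).symm)), fun e => h0 ?_⟩
  · rw [hx.ggx] at e
    exact add_eq_left.1 e
  · rw [hx.ggx] at e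
    exact (add_eq_right.1 e.symm)

/-- The additive group of a component. -/
def compGrp (S : Shape G) (r : List (List ℕ)) : AddSubgroup S.Vec where
  carrier := {x | Comp S r x}
  zero_mem' := Comp.zero S r
  add_mem' := Comp.add
  neg_mem' := fun {x} hx => by rw [Shape.neg_eq']; exact hx

/-- With at least three translates a component has at most four vectors. -/
theorem comp_cases [Finite G] (h : SepOK r ts sep nb) (hnb : 3 ≤ nb) {x y : S.Vec} (hx : Comp S r x)
    (h0 : x ≠ 0) (hy : Comp S r y) : y = 0 ∨ y = x ∨ y = wa S [0] x ∨ y = wa S [0, 0] x := by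
  classical
  by_contra! hne
  haveI : Finite S.Vec := Nat.finite_of_card_ne_zero (by rw [Shape.card_vec]; norm_num)
  have hsub := fun c hc => (show Comp S r c from (hc : c ∈ compGrp S r))
  have hle := card_comp_pow_le (C := (compGrp S r : Set S.Vec)) h hsub
  obtain ⟨g1, g2, g3, g4, g5⟩ := hx.four h0
  have hgx : Comp S r (wa S [0] x) := ⟨fun w hw => hx.fix_gPow h.1 1 w hw, by
    rw [← wa_append, ← wa_append]
    show wa S [0] x + wa S [0, 0] x + wa S [0, 0, 0] x = 0
    rw [wa_congr (w := [0, 0, 0]) (w' := []) (by decide +kernel), wa_nil, add_comm, ← add_assoc]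
    exact hx.mv⟩
  have hggx : Comp S r (wa S [0, 0] x) := hx.ggx ▸ hx.add hgx
  have h5 : 5 ≤ Nat.card (compGrp S r) := by
    have hs : ((({0, x, wa S [0] x, wa S [0, 0] x, y} : Finset S.Vec)) : Set S.Vec) ⊆ compGrp S r := by
      intro c hc
      simp only [Finset.coe_insert, Finset.coe_singleton, Set.mem_insert_iff, Set.mem_singleton_iff] at hc
      rcases hc with rfl | rfl | rfl | rfl | rfl
      exacts [Comp.zero S r, hx, hgx, hggx, hy]
    have := Set.ncard_le_ncard hs (Set.toFinite _)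
    rw [Set.ncard_coe_finset, ← Nat.card_coe_set_eq] at this
    rw [show ({0, x, wa S [0] x, wa S [0, 0] x, y} : Finset S.Vec).card = 5 from ?_] at this
    · exact this
    simp [Ne.symm h0, Ne.symm g3, Ne.symm g4, Ne.symm g1, Ne.symm g2, g5, Ne.symm hne.1, Ne.symm hne.2.1,
      Ne.symm hne.2.2.1, Ne.symm hne.2.2.2]
  have hdvd : Nat.card (compGrp S r) ∣ 2 ^ 8 := by
    have := (compGrp S r).card_addSubgroup_dvd_card
    rwa [Shape.card_vec] at this
  obtain ⟨k, -, hk⟩ := (Nat.dvd_prime_pow Nat.prime_two).1 hdvd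
  have hk3 : 3 ≤ k := by
    by_contra hk3
    have := Nat.pow_le_pow_right (show 0 < 2 by norm_num) (show k ≤ 2 by omega)
    omega
  have h8 : 8 ≤ Nat.card (compGrp S r) := hk ▸ (Nat.pow_le_pow_right (show 0 < 2 by norm_num) hk3)
  have h512 := (Nat.pow_le_pow_left h8 nb).trans hle
  have := (Nat.pow_le_pow_right (show 0 < 8 by norm_num) hnb).trans h512
  norm_num at this

/-- A component with six translates is zero. -/
theorem comp_eq_zero_of_six [Finite G] (h : SepOK r ts sep 6) {x : S.Vec} (hx : Comp S r x) : x = 0 := by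
  classical
  by_contra h0
  haveI : Finite S.Vec := Nat.finite_of_card_ne_zero (by rw [Shape.card_vec]; norm_num)
  obtain ⟨g1, g2, g3, g4, g5⟩ := hx.four h0
  have hgx : Comp S r (wa S [0] x) := ⟨fun w hw => hx.fix_gPow h.1 1 w hw, by
    rw [← wa_append, ← wa_append]
    show wa S [0] x + wa S [0, 0] x + wa S [0, 0, 0] x = 0
    rw [wa_congr (w := [0, 0, 0]) (w' := []) (by decide +kernel), wa_nil, add_comm, ← add_assoc]
    exact hx.mv⟩
  have hle := card_comp_pow_le (C := ({0, x, wa S [0] x} : Set S.Vec)) h fun c hc => by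
    simp only [Set.mem_insert_iff, Set.mem_singleton_iff] at hc
    rcases hc with rfl | rfl | rfl
    exacts [Comp.zero S r, hx, hgx]
  rw [Nat.card_coe_set_eq, Set.ncard_insert_of_notMem (by simp [Ne.symm h0, Ne.symm g3]),
    Set.ncard_pair (Ne.symm g1)] at hle
  norm_num at hle

/-- Splitting a moved vector along a second word of order three. -/
theorem refine_moved (U : AddSubgroup S.Vec) {b : List ℕ} {u : S.Vec}
    (hU0 : ∀ v ∈ U, wa S [0] v ∈ U) (hUb : ∀ v ∈ U, wa S b v ∈ U)
    (hb3 : key (b ++ b ++ b) = key []) (hbc : key (b ++ [0]) = key ([0] ++ b))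
    (hu : u ∈ U) (h0 : u ≠ 0) (hm : u + wa S [0] u + wa S [0, 0] u = 0) :
    ∃ i < 3, ∃ v ∈ U, v ≠ 0 ∧ v + wa S [0] v + wa S [0, 0] v = 0 ∧ wa S (gPow i ++ b) v = v ∧
      ∀ w, (∀ x : S.Vec, wa S w (wa S [0] x) = wa S [0] (wa S w x)) →
        (∀ x : S.Vec, wa S w (wa S b x) = wa S b (wa S w x)) → wa S w u = u → wa S w v = v := by
  have hA3 : ∀ x : S.Vec, wa S [0] (wa S [0] (wa S [0] x)) = x := fun x => by
    rw [← wa_append, ← wa_append]
    show wa S [0, 0, 0] x = x
    rw [wa_congr (w := [0, 0, 0]) (w' := []) (by decide +kernel), wa_nil]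
  have hB3 : ∀ x : S.Vec, wa S b (wa S b (wa S b x)) = x := fun x => by
    rw [← wa_append, ← wa_append, wa_congr hb3, wa_nil]
  have hAB : ∀ x : S.Vec, wa S b (wa S [0] x) = wa S [0] (wa S b x) := wa_comm hbc
  have hgg : ∀ x : S.Vec, wa S [0, 0] x = wa S [0] (wa S [0] x) := fun x => by
    rw [← wa_append]; rfl
  rw [hgg] at hm
  have e0 : ∀ x : S.Vec, wa S (gPow 0 ++ b) x = wa S b x := fun _ => rfl
  have e1 : ∀ x : S.Vec, wa S (gPow 1 ++ b) x = wa S [0] (wa S b x) := fun x => by
    rw [← wa_append]; rfl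
  have e2 : ∀ x : S.Vec, wa S (gPow 2 ++ b) x = wa S [0] (wa S [0] (wa S b x)) := fun x => by
    rw [← wa_append, ← wa_append]; rfl
  have hB1 : wa S b u + wa S [0] (wa S b u) + wa S [0] (wa S [0] (wa S b u)) = 0 := by
    rw [← hAB, ← hAB, ← wa_add, ← wa_add, hm, wa_zero]
  have hB2 : wa S b (wa S b u) + wa S [0] (wa S b (wa S b u)) + wa S [0] (wa S [0] (wa S b (wa S b u))) = 0 := by
    rw [← hAB, ← hAB, ← hAB, ← hAB, ← wa_add, ← wa_add, ← wa_add, ← wa_add, hm, wa_zero, wa_zero]
  have hsum : proj S (gPow 0 ++ b) u + proj S (gPow 1 ++ b) u + proj S (gPow 2 ++ b) u = u := by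
    simp only [proj, e0, e1, e2, hAB, hA3]
    calc _ = (u + u) + u + (wa S b u + wa S [0] (wa S b u) + wa S [0] (wa S [0] (wa S b u))) +
          (wa S b (wa S b u) + wa S [0] (wa S b (wa S b u)) + wa S [0] (wa S [0] (wa S b (wa S b u)))) := by
          abel
      _ = u := by rw [hB1, hB2, Shape.add_self', zero_add, add_zero, add_zero]
  have hUc : ∀ i, ∀ v ∈ U, wa S (gPow i ++ b) v ∈ U := by
    intro i
    induction i with
    | zero => exact hUb
    | succ i ih =>
      intro v hv
      rw [gPow, List.replicate_succ, List.cons_append,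
        show 0 :: (List.replicate i 0 ++ b) = [0] ++ (gPow i ++ b) from rfl, wa_append]
      exact hU0 _ (ih v hv)
  have hcA : ∀ i, ∀ x : S.Vec, wa S (gPow i ++ b) (wa S [0] x) = wa S [0] (wa S (gPow i ++ b) x) := by
    intro i
    induction i with
    | zero => exact hAB
    | succ i ih =>
      intro x
      have h : ∀ y, wa S (gPow (i + 1) ++ b) y = wa S [0] (wa S (gPow i ++ b) y) := fun y => by
        rw [← wa_append]; rfl
      rw [h, h, ih]
  have hc3 : ∀ i < 3, ∀ x : S.Vec, wa S (gPow i ++ b) (wa S (gPow i ++ b) (wa S (gPow i ++ b) x)) = x := by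
    intro i hi x
    interval_cases i <;> simp only [e0, e1, e2, hAB, hA3, hB3]
  obtain ⟨i, hi, hne⟩ : ∃ i < 3, proj S (gPow i ++ b) u ≠ 0 := by
    by_contra! hall
    rw [hall 0 (by norm_num), hall 1 (by norm_num), hall 2 (by norm_num), add_zero, add_zero] at hsum
    exact h0 hsum.symm
  refine ⟨i, hi, proj S (gPow i ++ b) u, U.add_mem (U.add_mem hu (hUc i u hu)) (hUc i _ (hUc i u hu)),
    hne, ?_, ?_, fun w hw hwb hwu => ?_⟩
  · rw [hgg]
    simp only [proj, wa_add, ← hcA]
    calc _ = (u + wa S [0] u + wa S [0] (wa S [0] u)) +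
          wa S (gPow i ++ b) (u + wa S [0] u + wa S [0] (wa S [0] u)) +
          wa S (gPow i ++ b) (wa S (gPow i ++ b) (u + wa S [0] u + wa S [0] (wa S [0] u))) := by
          simp only [wa_add]; abel
      _ = 0 := by rw [hm, wa_zero, wa_zero, add_zero, add_zero]
  · rw [proj, wa_add, wa_add, hc3 i hi]; abel
  · have hwc : ∀ x, wa S w (wa S (gPow i ++ b) x) = wa S (gPow i ++ b) (wa S w x) := fun x => by
      interval_cases i <;> simp only [e0, e1, e2, hw, hwb]
    rw [proj, wa_add, wa_add, hwu, hwc, hwu, hwc, hwc, hwu]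

end CfsgLib.USixRec
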