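import Mathlib.Data.List.Basic

/-!
# Data for the module of `PSp₄(3)` on `J / Z(J)`

Words are lists of indices of the six generators `e₁ e₂ e₃ a b X`; the products are read from the
left. Matrices over the field of two elements are lists of columns.
-/

set_option autoImplicit false

namespace CfsgLib.USixRec

/-- The six maps of the 81 vectors, seven bits an image. -/
def tabs : List ℕ :=
  [0x4f9d4264b9b2644a8b1e342890dfc180f9ebc76e9cb86ed9a336ac58325cb57aa58ad3a9509132546890a03e78e9c3664c1a2c54b932450791203070d122c5080e182840608080, 0x4d992e54991427ce890e14180fe3c68aedd3970ddb3e7af17ae5ad5a3364c58264a9162b54a54273a70da3448501f3c68c982e58a9426488901e3868c16284880e182840608080, 0x4895267509f2e6cc8f1a2c4870a0c07ee9cbb6ed9c3d78f9ab466c98b05eb96a84ea52a44cad52c3674e214688f203e58a972648a19306848b143c89018386880e182840608080, 0x193068a972c5099256a962752a132548f5e3e72edd386eda7cea12e6cc95264101e4460e1a2c509448519e407ce9c36d19b560c98af5cb63458f0a2438301f870c201850808080,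 0x509b2a7cc933a5c86ac97b462b99b05a68b9432589982a4a3c4831a1c08b09fac52995a84aa93a422385901a2878c12f9db87ae9bbc72d91a03a88f9c4278d880a083840218180, 0x44523a6b22eed0058eb08d06a69f23110530b94bca383a0a1a81b31896747c24656427b432f510780945495c4db9c030938c96c0ab93c0e2aa1f39998788433f482642d24d8d80]

/-- The identity map of the 81 vectors. -/
def idTab : ℕ :=
  0x509f3a6cc972a4c88f1a2c4870a0c07ef9ebc76e9cb86ed9ab466c98b05eb96ac56a94a84e992a446890a03e78e9c3668c982e58a9426488901e3868c16284880e182840608080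

/-- Conjugators for the 45 transvection-like involutions. -/
def trU : List (List ℕ) :=
  [[], [2], [3], [2, 2], [3, 2], [5, 2], [1, 3], [3, 3], [4, 3], [5, 2, 2], [3, 3, 2], [4, 3, 2], [5, 3, 2], [1, 5, 2], [2, 5, 2], [3, 1, 3], [4, 1, 3], [5, 1, 3], [4, 3, 3], [3, 4, 3], [0, 5, 2, 2], [1, 5, 2, 2], [2, 5, 2, 2], [4, 3, 3, 2], [5, 3, 3, 2], [3, 4, 3, 2], [2, 5, 3, 2], [1, 1, 5, 2], [2, 1, 5, 2], [2, 2, 5, 2], [3, 2, 5, 2], [4, 3, 1, 3], [3, 4, 1, 3], [5, 4, 1, 3], [1, 0, 5, 2, 2], [2, 0, 5, 2, 2], [2, 1, 5, 2, 2], [2, 2, 5, 2, 2], [3, 2, 5, 2, 2], [2, 1, 1, 5, 2], [3, 2, 2, 5, 2], [4, 3, 2, 5, 2], [2, 1, 0, 5, 2, 2], [2, 2, 1, 5, 2, 2], [1, 3, 2, 2, 5, 2]]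

/-- Their normalised keys. -/
def trKey : List (List ℕ) :=
  [[1, 6, 9, 54], [1, 6, 15, 55], [1, 7, 36, 54], [1, 6, 12, 56], [1, 7, 42, 55], [29, 21, 18, 27], [1, 7, 39, 56], [1, 8, 63, 54], [5, 3, 18, 36], [28, 24, 9, 54], [1, 8, 69, 55], [5, 3, 21, 38], [29, 23, 72, 27], [32, 21, 18, 36], [30, 20, 57, 11], [1, 8, 66, 56], [5, 3, 24, 37], [28, 25, 36, 54], [4, 6, 9, 63], [3, 1, 27, 9], [28, 26, 63, 54], [31, 24, 9, 63], [32, 23, 78, 37], [4, 6, 15, 64], [29, 22, 45, 27], [3, 1, 30, 11], [30, 19, 27, 9], [35, 21, 18, 45], [33, 20, 54, 18], [34, 25, 42, 73], [31, 25, 39, 65], [4, 6, 12, 65], [3, 1, 33, 10], [34, 24, 9, 72], [31, 26, 69, 64], [32, 22, 48, 38], [35, 23, 75, 47], [33, 19, 30, 20], [30, 18, 6, 10], [27, 20, 60, 1], [33, 18, 6, 19], [34, 26, 66, 74], [35, 22, 51, 46], [27, 19, 33, 1], [27, 18, 6, 1]]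

/-- The five generators of `SpFourThree70` as words. -/
def genWords : List (List ℕ) :=
  [[5], [1, 5, 1, 1], [1, 0, 5, 1, 0, 5, 2, 5, 4], [4, 3, 4, 3, 3, 4, 3], [4]]

/-- The last generator in the first five and `X e₁ X`. -/
def xWord : List ℕ :=
  [1, 1, 5, 0, 5, 5, 0, 5, 4, 1, 5, 0, 5, 1, 0, 0]

/-- The nonidentity codes of the Sylow 2-subgroup. -/
def sylElts : List ℕ :=
  [48, 96, 576, 1, 120, 578, 121, 580, 624, 672, 49, 97, 577, 581, 626, 674, 582, 628, 676, 696, 2, 697, 4, 579, 583, 625, 673, 629, 677, 698, 50, 699, 52, 630, 678, 700, 98, 703, 100, 5, 6, 627, 675, 631, 679, 3, 7, 701, 122, 702, 124, 53, 54, 123, 127, 101, 102, 51, 55, 99, 103, 125, 126]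

/-- Parent and last letter of each of these codes. -/
def sylPar : List (ℕ × ℕ) :=
  [(0, 0), (0, 1), (0, 2), (1, 0), (1, 1), (1, 2), (2, 0), (2, 2), (3, 0), (3, 1), (4, 0), (4, 1), (4, 2), (5, 2), (6, 0), (6, 1), (7, 2), (8, 0), (8, 1), (9, 1), (9, 2), (10, 0), (10, 2), (11, 2), (12, 2), (13, 0), (13, 1), (14, 0), (14, 1), (15, 1), (15, 2), (16, 0), (16, 2), (17, 0), (17, 1), (18, 1), (18, 2), (19, 0), (19, 2), (20, 2), (22, 2), (24, 0), (24, 1), (25, 0), (25, 1), (26, 2), (27, 2), (28, 1), (28, 2), (29, 0), (29, 2), (30, 2), (32, 2), (34, 2), (35, 2), (36, 2), (38, 2), (42, 2), (43, 2), (44, 2), (45, 2), (48, 2), (50, 2)]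

/-- The matrices, linear kind. -/
def matsA : List (List ℕ) :=
  [[2, 3, 4, 8, 32, 48, 128, 192], [1, 2, 8, 12, 32, 48, 128, 192], [2, 3, 8, 12, 32, 48, 64, 128], [64, 128, 4, 8, 1, 2, 16, 32], [4, 8, 1, 2, 16, 32, 64, 128], [84, 168, 81, 162, 69, 138, 21, 42]]

/-- The matrices, semilinear kind. -/
def matsB : List (List ℕ) :=
  [[2, 3, 8, 12, 32, 48, 64, 128], [2, 3, 12, 4, 48, 16, 64, 128], [3, 1, 12, 4, 32, 48, 64, 128], [16, 32, 1, 2, 4, 8, 64, 128], [1, 2, 16, 48, 4, 12, 64, 128], [1, 22, 4, 25, 16, 37, 64, 128]]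

/-- Words fixing the first basis vector. -/
def fixA : List (List ℕ) :=
  [[1], [0, 2, 2], [3, 4, 3, 3], [3, 3, 4, 3]]

/-- Transversal of the blocks. -/
def trsA : List (List ℕ) :=
  [[], [4], [3, 3], [3]]

/-- Images of basis vectors: block, power, correction. -/
def relA : List (ℕ × ℕ × List ℕ) :=
  [(0, 1, []), (0, 2, []), (1, 0, [0]), (1, 1, [0]), (2, 1, []), (2, 2, []), (3, 1, []), (3, 2, []), (0, 0, [0]), (0, 1, [0]), (1, 1, []), (1, 2, []), (2, 1, [1, 1]), (2, 2, [1, 1]), (3, 1, [0, 0, 1]), (3, 2, [0, 0, 1]), (0, 1, [1, 1]), (0, 2, [1, 1]), (1, 1, [1, 1]), (1, 2, [1, 1]), (2, 1, [0, 0, 1]), (2, 2, [0, 0, 1]), (3, 0, [0]), (3, 1, [0]), (3, 0, []), (3, 1, []), (1, 0, [3, 2]), (1, 1, [0, 3, 1, 2]), (0, 0, []), (0, 1, []), (2, 0, []), (2, 1, []), (1, 0, []), (1, 1, []), (0, 0, []), (0, 1, []), (2, 0, [2]), (2, 1, [2, 1]), (3, 0, [3]), (3, 1, [0, 0, 1, 3])]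

/-- Words fixing the first basis vector. -/
def fixB : List (List ℕ) :=
  [[1, 2], [0, 2], [4], [4, 3, 4, 3]]

/-- Transversal of the blocks. -/
def trsB : List (List ℕ) :=
  [[], [3, 3], [3]]

/-- Images of basis vectors: block, power, correction. -/
def relB : List (ℕ × ℕ × List ℕ) :=
  [(0, 1, []), (0, 2, []), (1, 1, []), (1, 2, []), (2, 1, []), (2, 2, []), (0, 1, [0, 1, 1]), (0, 2, [0, 1, 1]), (1, 2, [1]), (1, 0, [1]), (2, 2, [0, 0]), (2, 0, [0, 0]), (0, 2, [1]), (0, 0, [1]), (1, 2, [0, 0]), (1, 0, [0, 0]), (2, 1, [0, 1, 1]), (2, 2, [0, 1, 1]), (2, 0, []), (2, 1, []), (0, 0, []), (0, 1, []), (1, 0, []), (1, 1, []), (0, 0, [2]), (0, 1, [0, 1, 1, 2]), (2, 0, [3, 2]), (2, 2, [3, 0, 2]), (1, 0, [2, 3]), (1, 2, [1, 2, 3])]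

/-- Transversal of the six blocks. -/
def trsC : List (List ℕ) :=
  [[], [3], [4], [3, 3], [3, 4], [3, 3, 4]]

/-- The kernel and moving element of the six blocks. -/
def repC : List (List ℕ) :=
  [[1], [2], [0]]

/-- Kernels of the nine characters. -/
def caseKer : List (List ℕ × List ℕ) :=
  [([1], [2]), ([1], [0, 2]), ([1], [0, 0, 2]), ([0, 1], [2]), ([0, 1], [0, 2]), ([0, 1], [0, 0, 2]), ([0, 0, 1], [2]), ([0, 0, 1], [0, 2]), ([0, 0, 1], [0, 0, 2])]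

/-- Conjugation of the nine characters to the three representatives. -/
def caseTo : List (ℕ × List ℕ × List ℕ × List ℕ × ℕ × List ℕ) :=
  [(2, [], [0], [1], 1, []), (2, [3], [0, 0, 1, 1], [0], 1, []), (0, [], [0], [1, 1], 1, []), (2, [3, 3], [1], [0, 0, 1, 1], 1, []), (1, [3], [1, 1], [0], 1, []), (1, [3, 3], [0, 0], [0, 0, 1, 1], 1, []), (0, [3, 3], [1], [0, 1], 1, []), (1, [], [0, 1], [1], 1, []), (0, [3], [0, 0, 1, 1], [0, 0], 1, [])]

/-- Separation of the blocks. -/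
def sepA : List (List (List ℕ × List ℕ × ℕ × List ℕ)) :=
  [[([], [], 1, []), ([1], [0], 1, []), ([1], [0], 1, [1, 1]), ([1], [0], 1, [0, 0, 1])], [([1, 2, 2], [1], 2, [0, 1]), ([], [], 1, []), ([0], [0], 1, []), ([1, 2, 2], [1], 1, [0, 1])], [([1, 2, 2], [0, 1], 2, [0, 1]), ([0, 2, 2], [0, 1, 1], 2, [0, 1]), ([], [], 1, []), ([1, 2, 2], [0, 1], 1, [0, 1])], [([2], [0], 1, [1, 1]), ([2], [0], 1, [1, 1]), ([2], [0], 1, [0, 0, 1]), ([], [], 1, [])]]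

/-- Separation of the blocks. -/
def sepB : List (List (List ℕ × List ℕ × ℕ × List ℕ)) :=
  [[([], [], 1, []), ([1, 2], [0], 1, [0, 0, 1]), ([0, 2], [1], 2, [0, 1, 1])], [([1, 2, 2], [0, 1], 2, [0, 1]), ([], [], 1, []), ([1, 2, 2], [0, 1], 1, [0, 1])], [([0, 2, 2], [0, 0, 1], 2, [1, 1]), ([1, 2], [1, 1], 1, [0, 0, 1]), ([], [], 1, [])]]

/-- Separation of the blocks. -/
def sepC : List (List (List ℕ × List ℕ × ℕ × List ℕ)) :=
  [[([], [], 1, []), ([1], [0], 2, [0, 0, 1, 1]), ([1], [0], 1, []), ([2], [1], 2, [0, 0, 1, 1]), ([2], [1], 1, []), ([2], [1], 2, [0, 0, 1, 1])], [([0, 1], [0, 0, 1, 1], 1, [0]), ([], [], 1, []), ([0, 1], [0, 0, 1, 1], 1, [0]), ([2], [0], 2, [0, 0, 1, 1]), ([2], [0], 1, []), ([2], [0], 2, [0, 0, 1, 1])], [([0], [0], 1, []), ([0], [0], 1, []), ([], [], 1, []), ([2], [1], 2, [0, 0, 1, 1]), ([2], [1], 1, []), ([2], [1], 2, [0, 0, 1, 1])], [([0, 2], [0, 0, 1, 1], 1,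 [1]), ([1], [1], 2, [0, 0, 1, 1]), ([1], [1], 1, []), ([], [], 1, []), ([1], [1], 2, [0, 0, 1, 1]), ([0, 2], [0, 0, 1, 1], 2, [1, 1])], [([0], [0], 1, []), ([1, 2], [0, 0, 1, 1], 2, [1, 1]), ([1, 2], [0, 0, 1, 1], 1, [1]), ([1, 2], [0, 0, 1, 1], 2, [0, 0]), ([], [], 1, []), ([1, 2], [0, 0, 1, 1], 2, [0, 0])], [([0], [0], 1, []), ([1], [1], 2, [0, 0, 1, 1]), ([1], [1], 1, []), ([0], [0], 1, []), ([1], [1], 2, [0, 0, 1, 1]), ([], [], 1, [])]]

end CfsgLib.USixRec
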