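import Mathlib.Data.List.Basic

/-!
# Matrices of the 45 transvections on the natural module
-/

set_option autoImplicit false

namespace CfsgLib.USixRec

/-- Images of the basis vectors under the transvections. -/
def evL : List (List ℕ) :=
  [[1, 2, 4, 8, 64, 128, 16, 32], [1, 2, 4, 8, 192, 64, 32, 48], [16, 32, 4, 8, 1, 2, 64, 128], [1, 2, 4, 8, 128, 192, 48, 16], [48, 16, 4, 8, 2, 3, 64, 128], [228, 120, 225, 114, 143, 197, 58, 31], [32, 48, 4, 8, 3, 1, 64, 128], [64, 128, 4, 8, 16, 32, 1, 2], [1, 2, 16, 32, 4, 8, 64, 128], [180, 216, 177, 210, 202, 79, 47, 53], [128, 192, 4, 8, 16, 32, 3, 1], [1, 2, 48, 16, 8, 12, 64, 128], [236, 116, 114, 147, 139, 205, 54, 27], [120, 156, 227, 113, 142, 199, 57, 30], [164, 248, 161, 242, 79, 133, 31, 37], [192, 64, 4, 8, 16, 32, 2, 3], [1, 2, 32, 48, 12, 4, 64, 128], [184, 220, 99, 177, 206, 71, 39, 57], [1, 2, 64, 128, 16, 32, 4, 8], [4, 8, 1, 2, 16, 32, 64, 128], [188, 212, 210, 99,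 198, 75, 43, 61], [216, 108, 179, 209, 201, 78, 46, 55], [116, 152, 113, 146, 138, 207, 53, 26], [1, 2, 128, 192, 16, 32, 12, 4], [232, 124, 147, 225, 135, 201, 62, 23], [8, 12, 3, 1, 16, 32, 64, 128], [172, 244, 242, 83, 75, 141, 27, 45], [156, 228, 226, 115, 141, 198, 59, 29], [248, 92, 163, 241, 78, 135, 30, 39], [100, 184, 97, 178, 207, 69, 37, 58], [220, 100, 98, 179, 205, 70, 38, 59], [1, 2, 192, 64, 16, 32, 8, 12], [12, 4, 2, 3, 16, 32, 64, 128], [108, 180, 178, 211, 203, 77, 45, 54], [212, 104, 209, 98, 197, 74, 42, 63], [124, 148, 146, 227, 134, 203, 61, 22], [152, 236, 115, 145, 137, 206, 55, 25], [244, 88, 241, 82, 74, 143, 26, 47], [168, 252, 83, 161, 71, 137, 23, 41], [92, 164, 162, 243, 77, 134, 29, 38], [252, 84, 82, 163, 70, 139, 22, 43], [104, 188, 211, 97, 199, 73, 41, 62], [148, 232, 145, 226, 133, 202, 63, 21], [88, 172, 243, 81, 73, 142, 25, 46], [84, 168, 81, 162, 69, 138, 21, 42]]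

end CfsgLib.USixRec
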