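import Mathlib.Data.List.Basic

/-!
# Data on the 45 transvections of `PSp₄(3)`
-/

set_option autoImplicit false

namespace CfsgLib.USixRec

/-- A transvection commuting with the first one and a word centralizing both. -/
def adjL : List (ℕ × List ℕ) :=
  [(14, [0, 5, 1, 0, 0]), (19, [1, 0]), (25, [1, 0]), (26, [1, 5, 4, 0]), (28, [0, 5, 4, 1]), (32, [1, 0]), (37, [1, 0, 0, 5, 0]), (38, [5, 1]), (39, [5, 0]), (40, [1, 5]), (43, [0, 5]), (44, [0, 5, 0])]

/-- A transvection not commuting with the first one, the third one of the triple, and the three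
commuting with both. -/
def nonL : List (ℕ × ℕ × List ℕ) :=
  [(1, 3, [19, 25, 32]), (2, 7, [39, 43, 44]), (3, 1, [19, 25, 32]), (4, 15, [28, 37, 40]), (5, 9, [19, 26, 28]), (6, 10, [14, 26, 38]), (7, 2, [39, 43, 44]), (8, 18, [38, 40, 44]), (9, 5, [19, 26, 28]), (10, 6, [14, 26, 38]), (11, 31, [26, 37, 43]), (12, 20, [32, 37, 38]), (13, 21, [25, 37, 39]), (15, 4, [28, 37, 40]), (16, 23, [14, 28, 39]), (17, 24, [14, 25, 40]), (18, 8, [38, 40, 44]), (20, 12, [32, 37, 38]), (21, 13, [25, 37, 39]), (22, 34, [19, 40, 43]), (23, 16, [14, 28, 39]), (24, 17, [14, 25, 40]), (27, 33, [14, 32, 43]), (29, 42, [19, 38, 39]), (30, 35, [28, 32, 44]), (31, 11, [26, 37, 43]), (33, 27, [14, 32, 43]), (34, 22, [19, 40, 43]), (35, 30, [28, 32, 44]), (36, 41, [25, 26, 44]), (41, 36, [25, 26, 44]), (42, 29, [19, 38, 39])]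

/-- A commuting transvection nearer the first one. -/
def parL : List ℕ :=
  [0, 19, 39, 19, 28, 19, 14, 39, 38, 19, 14, 26, 32, 25, 0, 28, 14, 14, 38, 0, 32, 25, 19, 14, 14, 0, 0, 14, 0, 19, 28, 26, 0, 14, 19, 28, 25, 0, 0, 0, 0, 25, 19, 0, 0]

/-- Vectors in images of `1 + τ` spanning everything. -/
def spanL : List (ℕ × ℕ) :=
  [(0, 80), (0, 160), (1, 96), (1, 176), (2, 17), (2, 34), (5, 122), (5, 159)]

end CfsgLib.USixRec
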