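import Mathlib.Data.List.Basic

/-!
# Data on singular vectors of the three modules
-/

set_option autoImplicit false

namespace CfsgLib.USixRec

/-- Representative, value and word for each singular vector, kind A. -/
def orbA : List (ℕ × ℕ × List ℕ) :=
  [(5, 5, []), (5, 6, [0]), (5, 9, [1]), (5, 10, [2]), (5, 68, [3]), (5, 7, [0, 0]), (5, 11, [2, 0]), (5, 132, [3, 0]), (5, 249, [5, 0]), (5, 13, [1, 1]), (5, 14, [2, 1]), (5, 72, [3, 1]), (5, 246, [5, 1]), (5, 15, [2, 2]), (5, 136, [3, 2]), (5, 20, [3, 3]), (5, 65, [4, 3]), (5, 196, [3, 0, 0]), (5, 173, [5, 0, 0]), (5, 200, [3, 2, 0]), (5, 94, [5, 2, 0]), (5, 36, [3, 3, 0]), (5, 129, [4, 3, 0]), (5, 123, [5, 3, 0]), (5, 90, [0, 5, 0]), (5, 93, [1, 5, 0]), (5, 222, [2, 5, 0]), (5, 76, [3, 1, 1]), (5, 167, [5, 1, 1]), (5, 140, [3, 2, 1]), (5, 91, [5, 2, 1]), (5, 24, [3, 3, 1]), (5, 66, [4, 3, 1]), (5, 183, [5, 3, 1]), (5, 87, [0, 5, 1]), (5, 219, [2, 5, 1]), (5, 204, [3, 2, 2]), (5,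 40, [3, 3, 2]), (5, 130, [4, 3, 2]), (5, 17, [4, 3, 3]), (5, 80, [3, 4, 3]), (5, 52, [3, 3, 0, 0]), (5, 193, [4, 3, 0, 0]), (5, 110, [5, 3, 0, 0]), (5, 254, [0, 5, 0, 0]), (5, 245, [1, 5, 0, 0]), (5, 182, [2, 5, 0, 0]), (5, 56, [3, 3, 2, 0]), (5, 194, [4, 3, 2, 0]), (5, 157, [5, 3, 2, 0]), (5, 175, [0, 5, 2, 0]), (5, 166, [1, 5, 2, 0]), (5, 103, [2, 5, 2, 0]), (5, 33, [4, 3, 3, 0]), (5, 96, [3, 4, 3, 0]), (5, 126, [5, 4, 3, 0]), (5, 153, [0, 5, 3, 0]), (5, 159, [1, 5, 3, 0]), (5, 171, [0, 0, 5, 0]), (5, 174, [1, 0, 5, 0]), (5, 111, [2, 0, 5, 0]), (5, 165, [1, 1, 5, 0]), (5, 102, [2, 1, 5, 0]), (5, 247, [5, 1, 5, 0]), (5, 231, [2, 2, 5, 0]), (5, 189, [3, 2, 5, 0]), (5, 28, [3, 3, 1, 1]), (5, 67, [4, 3, 1, 1]), (5, 230, [5, 3, 1, 1]), (5, 251, [1, 5, 1, 1]), (5, 185, [2, 5, 1, 1]), (5, 44, [3, 3, 2, 1]), (5, 131, [4, 3, 2, 1]), (5, 217, [5, 3, 2, 1]), (5, 169, [0, 5, 2, 1]), (5, 109, [2, 5, 2, 1]), (5, 18, [4, 3, 3, 1]), (5, 144,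 [3, 4, 3, 1]), (5, 213, [0, 5, 3, 1]), (5, 105, [2, 0, 5, 1]), (5, 253, [5, 0, 5, 1]), (5, 237, [2, 2, 5, 1]), (5, 60, [3, 3, 2, 2]), (5, 195, [4, 3, 2, 2]), (5, 34, [4, 3, 3, 2]), (5, 160, [3, 4, 3, 2]), (5, 49, [4, 3, 3, 0, 0]), (5, 158, [5, 3, 3, 0, 0]), (5, 112, [3, 4, 3, 0, 0]), (5, 107, [5, 4, 3, 0, 0]), (5, 191, [0, 5, 3, 0, 0]), (5, 119, [2, 5, 3, 0, 0]), (5, 95, [0, 0, 5, 0, 0]), (5, 86, [1, 0, 5, 0, 0]), (5, 215, [2, 0, 5, 0, 0]), (5, 89, [1, 1, 5, 0, 0]), (5, 218, [2, 1, 5, 0, 0]), (5, 155, [2, 2, 5, 0, 0]), (5, 50, [4, 3, 3, 2, 0]), (5, 176, [3, 4, 3, 2, 0]), (5, 151, [5, 4, 3, 2, 0]), (5, 238, [0, 5, 3, 2, 0]), (5, 229, [1, 5, 3, 2, 0]), (5, 181, [2, 0, 5, 2, 0]), (5, 250, [1, 1, 5, 2, 0]), (5, 187, [2, 1, 5, 2, 0]), (5, 121, [2, 2, 5, 2, 0]), (5, 214, [3, 2, 5, 2, 0]), (5, 150, [1, 5, 4, 3, 0]), (5, 234, [0, 0, 5, 3, 0]), (5, 255, [1, 0, 0, 5, 0]), (5, 117, [2, 2, 0, 5, 0]), (5, 186, [2, 1, 1, 5, 0]), (5, 85, [0, 5,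 1, 5, 0]), (5, 19, [4, 3, 3, 1, 1]), (5, 208, [3, 4, 3, 1, 1]), (5, 233, [5, 4, 3, 1, 1]), (5, 122, [1, 5, 3, 1, 1]), (5, 221, [2, 1, 5, 1, 1]), (5, 35, [4, 3, 3, 2, 1]), (5, 224, [3, 4, 3, 2, 1]), (5, 106, [0, 5, 3, 2, 1]), (5, 190, [2, 0, 5, 2, 1]), (5, 118, [2, 2, 5, 2, 1]), (5, 127, [5, 0, 5, 3, 1]), (5, 51, [4, 3, 3, 2, 2]), (5, 240, [3, 4, 3, 2, 2]), (5, 239, [0, 5, 3, 3, 0, 0]), (5, 125, [2, 5, 4, 3, 0, 0]), (5, 149, [2, 0, 5, 3, 0, 0]), (5, 101, [2, 0, 0, 5, 0, 0]), (5, 170, [1, 1, 0, 5, 0, 0]), (5, 235, [1, 5, 4, 3, 2, 0]), (5, 154, [2, 2, 0, 5, 2, 0]), (5, 223, [2, 1, 1, 5, 2, 0])]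

/-- Words fixing the representatives, kind A. -/
def stbA : List (ℕ × List (List ℕ)) :=
  [(5, [[5], [4], [2, 5, 2, 2], [2, 2, 1, 0]])]

/-- Representative, value and word for each singular vector, kind P. -/
def orbP : List (ℕ × ℕ × List ℕ) :=
  [(5, 5, []), (5, 10, [0]), (5, 14, [1]), (5, 15, [2]), (5, 17, [3]), (5, 7, [1, 0]), (5, 34, [3, 0]), (5, 50, [4, 0]), (5, 11, [1, 1]), (5, 9, [2, 1]), (5, 35, [3, 1]), (5, 51, [3, 2]), (5, 20, [3, 3]), (5, 13, [1, 1, 0]), (5, 49, [3, 1, 0]), (5, 19, [4, 1, 0]), (5, 40, [3, 3, 0]), (5, 44, [3, 4, 0]), (5, 6, [2, 1, 1]), (5, 18, [3, 2, 1]), (5, 24, [5, 2, 1]), (5, 56, [3, 3, 1]), (5, 33, [1, 3, 2]), (5, 60, [3, 3, 2]), (5, 28, [5, 1, 1, 0]), (5, 52, [5, 3, 1, 0]), (5, 36, [3, 3, 2, 1]), (64, 64, []), (69, 69, []), (69, 74, [0]), (69, 78, [1]), (69, 79, [2]), (69, 81, [3]), (69, 71, [1, 0]), (69, 98, [3, 0]), (69, 114, [4, 0]), (69, 75, [1, 1]), (69, 73, [2, 1]), (69, 99, [3, 1]), (69, 115,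 [3, 2]), (69, 84, [3, 3]), (69, 77, [1, 1, 0]), (69, 113, [3, 1, 0]), (69, 83, [4, 1, 0]), (69, 104, [3, 3, 0]), (69, 108, [3, 4, 0]), (69, 70, [2, 1, 1]), (69, 82, [3, 2, 1]), (69, 88, [5, 2, 1]), (69, 120, [3, 3, 1]), (69, 97, [1, 3, 2]), (69, 124, [3, 3, 2]), (69, 92, [5, 1, 1, 0]), (69, 116, [5, 3, 1, 0]), (69, 100, [3, 3, 2, 1]), (128, 128, []), (133, 133, []), (133, 138, [0]), (133, 142, [1]), (133, 143, [2]), (133, 145, [3]), (133, 135, [1, 0]), (133, 162, [3, 0]), (133, 178, [4, 0]), (133, 139, [1, 1]), (133, 137, [2, 1]), (133, 163, [3, 1]), (133, 179, [3, 2]), (133, 148, [3, 3]), (133, 141, [1, 1, 0]), (133, 177, [3, 1, 0]), (133, 147, [4, 1, 0]), (133, 168, [3, 3, 0]), (133, 172, [3, 4, 0]), (133, 134, [2, 1, 1]), (133, 146, [3, 2, 1]), (133, 152, [5, 2, 1]), (133, 184, [3, 3, 1]), (133, 161, [1, 3, 2]), (133, 188, [3, 3, 2]), (133, 156, [5, 1, 1, 0]), (133, 180, [5, 3, 1, 0]), (133, 164, [3, 3, 2, 1]), (193, 193, []),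 (193, 194, [0]), (193, 195, [2]), (193, 208, [3]), (193, 224, [3, 0]), (193, 214, [5, 0]), (193, 240, [3, 2]), (193, 215, [5, 2]), (193, 196, [3, 3]), (193, 200, [3, 3, 0]), (193, 204, [4, 3, 0]), (193, 229, [5, 3, 0]), (193, 235, [0, 5, 0]), (193, 255, [1, 5, 0]), (193, 237, [2, 5, 0]), (193, 245, [5, 3, 2]), (193, 233, [0, 5, 2]), (193, 253, [1, 5, 2]), (193, 238, [2, 5, 2]), (193, 217, [5, 3, 3, 0]), (193, 221, [5, 4, 3, 0]), (193, 250, [0, 5, 3, 0]), (193, 222, [1, 5, 3, 0]), (193, 213, [1, 0, 5, 0]), (193, 246, [2, 0, 5, 0]), (193, 218, [2, 1, 5, 0]), (193, 251, [2, 2, 5, 0]), (193, 219, [3, 2, 5, 0]), (193, 249, [5, 2, 5, 0]), (193, 223, [2, 5, 3, 2]), (193, 254, [0, 0, 5, 2]), (193, 247, [2, 0, 5, 2]), (193, 234, [1, 1, 5, 2]), (193, 231, [2, 5, 3, 3, 0]), (193, 230, [0, 5, 4, 3, 0]), (193, 239, [2, 1, 0, 5, 0])]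

/-- Words fixing the representatives, kind P. -/
def stbP : List (ℕ × List (List ℕ)) :=
  [(5, [[5], [4, 3], [2, 0], [0, 5, 0]]), (64, [[5], [3], [4], [0]]), (69, [[5], [4, 3], [2, 0], [0, 5, 0]]), (128, [[5], [3], [4], [0]]), (133, [[5], [4, 3], [2, 0], [0, 5, 0]]), (193, [[5], [4], [2, 0]])]

/-- Representative, value and word for each singular vector, kind M. -/
def orbM : List (ℕ × ℕ × List ℕ) :=
  [(5, 5, []), (5, 10, [0]), (5, 14, [1]), (5, 15, [2]), (5, 17, [3]), (5, 7, [1, 0]), (5, 34, [3, 0]), (5, 50, [4, 0]), (5, 11, [1, 1]), (5, 9, [2, 1]), (5, 35, [3, 1]), (5, 51, [3, 2]), (5, 20, [3, 3]), (5, 13, [1, 1, 0]), (5, 49, [3, 1, 0]), (5, 19, [4, 1, 0]), (5, 40, [3, 3, 0]), (5, 44, [3, 4, 0]), (5, 6, [2, 1, 1]), (5, 18, [3, 2, 1]), (5, 24, [5, 2, 1]), (5, 56, [3, 3, 1]), (5, 33, [1, 3, 2]), (5, 60, [3, 3, 2]), (5, 28, [5, 1, 1, 0]), (5, 52, [5, 3, 1, 0]), (5, 36, [3, 3, 2, 1]), (65, 65, []), (65, 66, [0]), (65, 67, [2]),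 (65, 80, [3]), (65, 96, [3, 0]), (65, 86, [5, 0]), (65, 112, [3, 2]), (65, 87, [5, 2]), (65, 68, [3, 3]), (65, 72, [3, 3, 0]), (65, 76, [4, 3, 0]), (65, 101, [5, 3, 0]), (65, 107, [0, 5, 0]), (65, 127, [1, 5, 0]), (65, 109, [2, 5, 0]), (65, 117, [5, 3, 2]), (65, 105, [0, 5, 2]), (65, 125, [1, 5, 2]), (65, 110, [2, 5, 2]), (65, 89, [5, 3, 3, 0]), (65, 93, [5, 4, 3, 0]), (65, 122, [0, 5, 3, 0]), (65, 94, [1, 5, 3, 0]), (65, 85, [1, 0, 5, 0]), (65, 118, [2, 0, 5, 0]), (65, 90, [2, 1, 5, 0]), (65, 123, [2, 2, 5, 0]), (65, 91, [3, 2, 5, 0]), (65, 121, [5, 2, 5, 0]), (65, 95, [2, 5, 3, 2]), (65, 126, [0, 0, 5, 2]), (65, 119, [2, 0, 5, 2]), (65, 106, [1, 1, 5, 2]), (65, 103, [2, 5, 3, 3, 0]), (65, 102, [0, 5, 4, 3, 0]), (65, 111, [2, 1, 0, 5, 0]), (129, 129, []), (129, 130, [0]), (129, 131, [2]), (129, 144, [3]), (129, 160, [3, 0]), (129, 150, [5, 0]), (129, 176, [3, 2]), (129, 151, [5, 2]), (129, 132, [3, 3]), (129, 136, [3, 3, 0]), (129,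 140, [4, 3, 0]), (129, 165, [5, 3, 0]), (129, 171, [0, 5, 0]), (129, 191, [1, 5, 0]), (129, 173, [2, 5, 0]), (129, 181, [5, 3, 2]), (129, 169, [0, 5, 2]), (129, 189, [1, 5, 2]), (129, 174, [2, 5, 2]), (129, 153, [5, 3, 3, 0]), (129, 157, [5, 4, 3, 0]), (129, 186, [0, 5, 3, 0]), (129, 158, [1, 5, 3, 0]), (129, 149, [1, 0, 5, 0]), (129, 182, [2, 0, 5, 0]), (129, 154, [2, 1, 5, 0]), (129, 187, [2, 2, 5, 0]), (129, 155, [3, 2, 5, 0]), (129, 185, [5, 2, 5, 0]), (129, 159, [2, 5, 3, 2]), (129, 190, [0, 0, 5, 2]), (129, 183, [2, 0, 5, 2]), (129, 170, [1, 1, 5, 2]), (129, 167, [2, 5, 3, 3, 0]), (129, 166, [0, 5, 4, 3, 0]), (129, 175, [2, 1, 0, 5, 0]), (193, 193, []), (193, 194, [0]), (193, 195, [2]), (193, 208, [3]), (193, 224, [3, 0]), (193, 214, [5, 0]), (193, 240, [3, 2]), (193, 215, [5, 2]), (193, 196, [3, 3]), (193, 200, [3, 3, 0]), (193, 204, [4, 3, 0]), (193, 229, [5, 3, 0]), (193, 235, [0, 5, 0]), (193, 255, [1, 5, 0]), (193, 237,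 [2, 5, 0]), (193, 245, [5, 3, 2]), (193, 233, [0, 5, 2]), (193, 253, [1, 5, 2]), (193, 238, [2, 5, 2]), (193, 217, [5, 3, 3, 0]), (193, 221, [5, 4, 3, 0]), (193, 250, [0, 5, 3, 0]), (193, 222, [1, 5, 3, 0]), (193, 213, [1, 0, 5, 0]), (193, 246, [2, 0, 5, 0]), (193, 218, [2, 1, 5, 0]), (193, 251, [2, 2, 5, 0]), (193, 219, [3, 2, 5, 0]), (193, 249, [5, 2, 5, 0]), (193, 223, [2, 5, 3, 2]), (193, 254, [0, 0, 5, 2]), (193, 247, [2, 0, 5, 2]), (193, 234, [1, 1, 5, 2]), (193, 231, [2, 5, 3, 3, 0]), (193, 230, [0, 5, 4, 3, 0]), (193, 239, [2, 1, 0, 5, 0])]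

/-- Words fixing the representatives, kind M. -/
def stbM : List (ℕ × List (List ℕ)) :=
  [(5, [[5], [4, 3], [2, 0], [0, 5, 0]]), (65, [[5], [4], [2, 0]]), (129, [[5], [4], [2, 0]]), (193, [[5], [4], [2, 0]])]

/-- Two orbit words with non-orthogonal images, kind A. -/
def witA : List (ℕ × List (ℕ × List ℕ × List ℕ)) :=
  [(5, [(11, [2], [0]), (14, [2], [0]), (17, [3], []), (20, [3], []), (33, [2], [0]), (36, [2], [0]), (49, [2], [0]), (52, [2], [0]), (65, [3], []), (68, [3], []), (91, [2], [0]), (94, [2], [0]), (107, [3], [0]), (110, [3], [0]), (123, [2, 0], [3]), (126, [2, 0], [3]), (129, [3], []), (132, [3], []), (155, [2], [0]), (158, [2], [0]), (171, [3], [0]), (174, [3], [0]), (187, [3], [2]), (190, [3], [2]), (193, [3], []), (196, [3], []), (219, [2], [0]), (222, [2], [0]), (235, [3], [2]), (238, [3], [2]), (251, [3], [0]), (254, [3], [0])])]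

/-- The remaining vectors, kind A. -/
def keptA : List (ℕ × List ℕ) :=
  [(5, [0, 5, 10, 15, 80, 85, 90, 95, 96, 101, 106, 111, 112, 117, 122, 127, 144, 149, 154, 159, 160, 165, 170, 175, 176, 181, 186, 191, 208, 213, 218, 223, 224, 229, 234, 239, 240, 245, 250, 255])]

/-- Orbit words whose images add up to `ω v` or `ω v + v`. -/
def spanA : List (ℕ × List (List ℕ) × ℕ) :=
  [(80, [[2], [3]], 1), (85, [[2], [3]], 1), (90, [[2], [3]], 1), (95, [[2], [3]], 1), (96, [[], [0], [3]], 1), (101, [[], [0], [3]], 0), (106, [[], [3, 0]], 1), (111, [[], [3, 0]], 1), (112, [[], [0], [2]], 1), (117, [[], [0], [2]], 0), (122, [[0], [3]], 0), (127, [[0], [3]], 0), (144, [[0], [3]], 1), (149, [[0], [3]], 1), (154, [[], [0], [2]], 1), (159, [[], [0], [2]], 0), (160, [[], [2], [0, 2]], 0), (165, [[], [2], [0, 2]], 1), (170, [[], [2], [3, 2]], 0), (175, [[], [2], [3, 2]], 1), (176, [[], [0], [2, 0]], 1), (181, [[], [0], [2, 0]], 0), (186, [[], [0],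 [3]], 1), (191, [[], [0], [3]], 0), (208, [[], [0], [3]], 0), (213, [[], [0], [3]], 1), (218, [[], [0], [2, 0]], 1), (223, [[], [0], [2, 0]], 0), (224, [[], [0], [2]], 0), (229, [[], [0], [2]], 1), (234, [[], [0], [3, 0]], 0), (239, [[], [0], [3, 0]], 1), (240, [[2], [3]], 0), (245, [[2], [3]], 0), (250, [[2], [3]], 0), (255, [[2], [3]], 0)]

/-- Two orbit words with non-orthogonal images, kind P. -/
def witP : List (ℕ × List (ℕ × List ℕ × List ℕ)) :=
  [(5, [(10, [1], []), (11, [1], []), (14, [1], []), (15, [1], []), (17, [2], []), (20, [2], []), (33, [1], []), (36, [1], []), (49, [1], []), (52, [1], []), (74, [1], []), (75, [1], []), (78, [1], []), (79, [1], []), (81, [2], []), (84, [2], []), (97, [1], []), (100, [1], []), (113, [1], []), (116, [1], []), (138, [1], []), (139, [1], []), (142, [1], []), (143, [1], []), (145, [2], []), (148, [2], []), (161, [1], []), (164, [1], []), (177, [1], []), (180, [1], []), (193, [3], []),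 (196, [3], []), (208, [2], []), (213, [2], []), (218, [1], []), (219, [1], []), (222, [1], []), (223, [1], []), (224, [1], []), (229, [1], []), (234, [2], []), (235, [2], []), (238, [2], []), (239, [2], []), (240, [1], []), (245, [1], []), (250, [2], []), (251, [2], []), (254, [2], []), (255, [2], [])]), (64, [(5, [3], [1]), (6, [1], []), (7, [1], []), (9, [1], []), (10, [1], [0]), (11, [1], []), (13, [1], []), (14, [1], []), (15, [1], [0]), (17, [3], [1]), (18, [1], []), (19, [1], []), (20, [3], [1]), (24, [1], []), (28, [1], []), (33, [1], []), (34, [1], [0]), (35, [1], []), (36, [1], []), (40, [1], [0]), (44, [1], []), (49, [1], []), (50, [1], []), (51, [1], [0]), (52, [1], []), (56, [1], []), (60, [1], [0]), (69, [3], [1]), (70, [1], []), (71, [1], []), (73, [1], []), (74, [1], [0]), (75, [1], []), (77, [1], []), (78, [1], []), (79, [1], [0]), (81, [3], [1]), (82, [1], []), (83, [1], []), (84, [3], [1]), (88, [1], []), (92,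 [1], []), (97, [1], []), (98, [1], [0]), (99, [1], []), (100, [1], []), (104, [1], [0]), (108, [1], []), (113, [1], []), (114, [1], []), (115, [1], [0]), (116, [1], []), (120, [1], []), (124, [1], [0])]), (69, [(10, [1], []), (11, [1], []), (14, [1], []), (15, [1], []), (17, [2], []), (20, [2], []), (33, [1], []), (36, [1], []), (49, [1], []), (52, [1], []), (74, [1], []), (75, [1], []), (78, [1], []), (79, [1], []), (81, [2], []), (84, [2], []), (97, [1], []), (100, [1], []), (113, [1], []), (116, [1], []), (134, [1], [0]), (135, [1], [0]), (137, [1], [0]), (141, [1], [0]), (146, [1], [0]), (147, [1], [0]), (152, [1], [0]), (156, [1], [0]), (162, [1], []), (163, [1], []), (168, [1], []), (172, [1], []), (178, [1], []), (179, [1], []), (184, [1], []), (188, [1], []), (194, [1], [0]), (195, [1], [0]), (200, [1], [0]), (204, [1], [0]), (214, [1], [0]), (215, [1], [0]), (217, [1], [0]), (221, [1], [0]), (230, [1], []), (231, [1], []),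 (233, [1], []), (237, [1], []), (246, [1], []), (247, [1], []), (249, [1], []), (253, [1], [])]), (128, [(5, [3], [1]), (6, [1], []), (7, [1], []), (9, [1], []), (10, [1], [0]), (11, [1], []), (13, [1], []), (14, [1], []), (15, [1], [0]), (17, [3], [1]), (18, [1], []), (19, [1], []), (20, [3], [1]), (24, [1], []), (28, [1], []), (33, [1], []), (34, [1], [0]), (35, [1], []), (36, [1], []), (40, [1], [0]), (44, [1], []), (49, [1], []), (50, [1], []), (51, [1], [0]), (52, [1], []), (56, [1], []), (60, [1], [0]), (133, [3], [1]), (134, [1], []), (135, [1], []), (137, [1], []), (138, [1], [0]), (139, [1], []), (141, [1], []), (142, [1], []), (143, [1], [0]), (145, [3], [1]), (146, [1], []), (147, [1], []), (148, [3], [1]), (152, [1], []), (156, [1], []), (161, [1], []), (162, [1], [0]), (163, [1], []), (164, [1], []), (168, [1], [0]), (172, [1], []), (177, [1], []), (178, [1], []), (179, [1], [0]), (180, [1], []), (184, [1], []), (188,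 [1], [0])]), (133, [(10, [1], []), (11, [1], []), (14, [1], []), (15, [1], []), (17, [2], []), (20, [2], []), (33, [1], []), (36, [1], []), (49, [1], []), (52, [1], []), (70, [1], [0]), (71, [1], [0]), (73, [1], [0]), (77, [1], [0]), (82, [1], [0]), (83, [1], [0]), (88, [1], [0]), (92, [1], [0]), (98, [1], []), (99, [1], []), (104, [1], []), (108, [1], []), (114, [1], []), (115, [1], []), (120, [1], []), (124, [1], []), (138, [1], []), (139, [1], []), (142, [1], []), (143, [1], []), (145, [2], []), (148, [2], []), (161, [1], []), (164, [1], []), (177, [1], []), (180, [1], []), (194, [1], [0]), (195, [1], [0]), (200, [1], [0]), (204, [1], [0]), (214, [1], [0]), (215, [1], [0]), (217, [1], [0]), (221, [1], [0]), (230, [1], []), (231, [1], []), (233, [1], []), (237, [1], []), (246, [1], []), (247, [1], []), (249, [1], []), (253, [1], [])]), (193, [(5, [2, 1], [1]), (9, [1], [0]), (13, [1], [0]), (17, [2], []), (20, [2], []), (24, [1],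 [0]), (28, [1], [0]), (33, [1], [0]), (36, [1], [0]), (40, [2], []), (44, [2], []), (49, [1], [0]), (52, [1], [0]), (56, [2], []), (60, [2], []), (70, [2, 0], [0]), (71, [2, 0], [0]), (74, [1], [0]), (75, [1], [0]), (78, [1], [0]), (79, [1], [0]), (82, [2], []), (83, [2], []), (98, [1], [0]), (99, [1], [0]), (114, [1], [0]), (115, [1], [0]), (134, [2, 0], [0]), (135, [2, 0], [0]), (138, [1], [0]), (139, [1], [0]), (142, [1], [0]), (143, [1], [0]), (146, [2], []), (147, [2], []), (162, [1], [0]), (163, [1], [0]), (178, [1], [0]), (179, [1], [0]), (196, [2, 1], [1]), (200, [1], [0]), (204, [1], [0]), (208, [2], []), (213, [2], []), (217, [1], [0]), (221, [1], [0]), (224, [1], [0]), (229, [1], [0]), (233, [2], []), (237, [2], []), (240, [1], [0]), (245, [1], [0]), (249, [2], []), (253, [2], [])])]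

/-- The remaining vectors, kind P. -/
def keptP : List (ℕ × List ℕ) :=
  [(5, [0, 5, 64, 69, 128, 133]), (64, [0, 64]), (69, [0, 69, 5, 64]), (128, [0, 128]), (133, [0, 133, 5, 128]), (193, [0, 193])]

/-- Two orbit words with non-orthogonal images, kind M. -/
def witM : List (ℕ × List (ℕ × List ℕ × List ℕ)) :=
  [(5, [(10, [1], []), (11, [1], []), (14, [1], []), (15, [1], []), (17, [2], []), (20, [2], []), (33, [1], []), (36, [1], []), (49, [1], []), (52, [1], []), (65, [3], []), (68, [3], []), (80, [2], []), (85, [2], []), (90, [1], []), (91, [1], []), (94, [1], []), (95, [1], []), (96, [1], []), (101, [1], []), (106, [2], []), (107, [2], []), (110, [2], []), (111, [2], []), (112, [1], []), (117, [1], []), (122, [2], []), (123, [2], []), (126, [2], []), (127, [2], []), (129, [3], []), (132, [3], []), (144, [2], []), (149, [2], []), (154, [1], []), (155, [1], []), (158, [1], []), (159, [1], []), (160, [1], []), (165, [1], []),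 (170, [2], []), (171, [2], []), (174, [2], []), (175, [2], []), (176, [1], []), (181, [1], []), (186, [2], []), (187, [2], []), (190, [2], []), (191, [2], []), (193, [3], []), (196, [3], []), (208, [2], []), (213, [2], []), (218, [1], []), (219, [1], []), (222, [1], []), (223, [1], []), (224, [1], []), (229, [1], []), (234, [2], []), (235, [2], []), (238, [2], []), (239, [2], []), (240, [1], []), (245, [1], []), (250, [2], []), (251, [2], []), (254, [2], []), (255, [2], [])]), (65, [(5, [2, 1], [1]), (9, [1], [0]), (13, [1], [0]), (17, [2], []), (20, [2], []), (24, [1], [0]), (28, [1], [0]), (33, [1], [0]), (36, [1], [0]), (40, [2], []), (44, [2], []), (49, [1], [0]), (52, [1], [0]), (56, [2], []), (60, [2], []), (68, [2, 1], [1]), (72, [1], [0]), (76, [1], [0]), (80, [2], []), (85, [2], []), (89, [1], [0]), (93, [1], [0]), (96, [1], [0]), (101, [1], [0]), (105, [2], []), (109, [2], []), (112, [1], [0]), (117, [1], [0]), (121, [2],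 []), (125, [2], []), (130, [2, 0], [0]), (131, [2, 0], [0]), (150, [2], []), (151, [2], []), (154, [1], [0]), (155, [1], [0]), (158, [1], [0]), (159, [1], [0]), (166, [1], [0]), (167, [1], [0]), (170, [2], []), (171, [2], []), (174, [2], []), (175, [2], []), (182, [1], [0]), (183, [1], [0]), (186, [2], []), (187, [2], []), (190, [2], []), (191, [2], []), (194, [2, 0], [0]), (195, [2, 0], [0]), (214, [2], []), (215, [2], []), (218, [1], [0]), (219, [1], [0]), (222, [1], [0]), (223, [1], [0]), (230, [1], [0]), (231, [1], [0]), (234, [2], []), (235, [2], []), (238, [2], []), (239, [2], []), (246, [1], [0]), (247, [1], [0]), (250, [2], []), (251, [2], []), (254, [2], []), (255, [2], [])]), (129, [(5, [2, 1], [1]), (9, [1], [0]), (13, [1], [0]), (17, [2], []), (20, [2], []), (24, [1], [0]), (28, [1], [0]), (33, [1], [0]), (36, [1], [0]), (40, [2], []), (44, [2], []), (49, [1], [0]), (52, [1], [0]), (56, [2], []), (60, [2], []), (66,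 [2, 0], [0]), (67, [2, 0], [0]), (86, [2], []), (87, [2], []), (90, [1], [0]), (91, [1], [0]), (94, [1], [0]), (95, [1], [0]), (102, [1], [0]), (103, [1], [0]), (106, [2], []), (107, [2], []), (110, [2], []), (111, [2], []), (118, [1], [0]), (119, [1], [0]), (122, [2], []), (123, [2], []), (126, [2], []), (127, [2], []), (132, [2, 1], [1]), (136, [1], [0]), (140, [1], [0]), (144, [2], []), (149, [2], []), (153, [1], [0]), (157, [1], [0]), (160, [1], [0]), (165, [1], [0]), (169, [2], []), (173, [2], []), (176, [1], [0]), (181, [1], [0]), (185, [2], []), (189, [2], []), (194, [2, 0], [0]), (195, [2, 0], [0]), (214, [2], []), (215, [2], []), (218, [1], [0]), (219, [1], [0]), (222, [1], [0]), (223, [1], [0]), (230, [1], [0]), (231, [1], [0]), (234, [2], []), (235, [2], []), (238, [2], []), (239, [2], []), (246, [1], [0]), (247, [1], [0]), (250, [2], []), (251, [2], []), (254, [2], []), (255, [2], [])]), (193, [(5, [2, 1], [1]), (9,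 [1], [0]), (13, [1], [0]), (17, [2], []), (20, [2], []), (24, [1], [0]), (28, [1], [0]), (33, [1], [0]), (36, [1], [0]), (40, [2], []), (44, [2], []), (49, [1], [0]), (52, [1], [0]), (56, [2], []), (60, [2], []), (66, [2, 0], [0]), (67, [2, 0], [0]), (86, [2], []), (87, [2], []), (90, [1], [0]), (91, [1], [0]), (94, [1], [0]), (95, [1], [0]), (102, [1], [0]), (103, [1], [0]), (106, [2], []), (107, [2], []), (110, [2], []), (111, [2], []), (118, [1], [0]), (119, [1], [0]), (122, [2], []), (123, [2], []), (126, [2], []), (127, [2], []), (130, [2, 0], [0]), (131, [2, 0], [0]), (150, [2], []), (151, [2], []), (154, [1], [0]), (155, [1], [0]), (158, [1], [0]), (159, [1], [0]), (166, [1], [0]), (167, [1], [0]), (170, [2], []), (171, [2], []), (174, [2], []), (175, [2], []), (182, [1], [0]), (183, [1], [0]), (186, [2], []), (187, [2], []), (190, [2], []), (191, [2], []), (196, [2, 1], [1]), (200, [1], [0]), (204, [1], [0]), (208, [2],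 []), (213, [2], []), (217, [1], [0]), (221, [1], [0]), (224, [1], [0]), (229, [1], [0]), (233, [2], []), (237, [2], []), (240, [1], [0]), (245, [1], [0]), (249, [2], []), (253, [2], [])])]

/-- The remaining vectors, kind M. -/
def keptM : List (ℕ × List ℕ) :=
  [(5, [0, 5]), (65, [0, 65]), (129, [0, 129]), (193, [0, 193])]

end CfsgLib.USixRec
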