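import Cfsg.Agent.USixRec.Word
import Cfsg.Agent.ExtraNine.Model

/-!
# The three eight-dimensional modules of `PSp₄(3)` over the field of two elements

A vector is a number below 256; bits `2i`, `2i+1` are the coordinates in the `i`-th block. The first
kind has four blocks, the other two have three blocks and a fixed plane of either type.
-/

set_option autoImplicit false
set_option maxRecDepth 100000
set_option synthInstance.maxSize 100000
set_option synthInstance.maxHeartbeats 400000

namespace CfsgLib.USixRec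

open CfsgLib.ExtraNine (app app_xor app_zero app_lt spanList spanList_induction one8)

/-- The image of a vector under a word. -/
def mev (Ms : List (List ℕ)) : List ℕ → ℕ → ℕ
  | [], n => n
  | k :: w, n => app (Ms.getD k []) (mev Ms w n)

theorem mev_append (Ms : List (List ℕ)) : ∀ (w w' : List ℕ) (n : ℕ), mev Ms (w ++ w') n = mev Ms w (mev Ms w' n)
  | [], _, _ => rfl
  | k :: w, w', n => congrArg (app (Ms.getD k [])) (mev_append Ms w w' n)

theorem mev_xor (Ms : List (List ℕ)) : ∀ (w : List ℕ) (a b : ℕ), mev Ms w (a ^^^ b) = mev Ms w a ^^^ mev Ms w b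
  | [], _, _ => rfl
  | k :: w, a, b => by simp only [mev, mev_xor Ms w, app_xor]

/-- The bit of a number. -/
def bitF (n i : ℕ) : ZMod 2 := ((n / 2 ^ i % 2 : ℕ) : ZMod 2)

theorem bitF_xor (a b i : ℕ) : bitF (a ^^^ b) i = bitF a i + bitF b i := by
  unfold bitF
  rw [Nat.xor_div_two_pow, Nat.xor_mod_two_eq, Nat.add_mod, ← Nat.cast_add, ← ZMod.natCast_mod]
  simp

/-- Norms of the blocks, the last one hyperbolic when `c = 0`. -/
def qF (c : ZMod 2) (n : ℕ) : ZMod 2 :=
  bitF n 0 + bitF n 1 + bitF n 0 * bitF n 1 + (bitF n 2 + bitF n 3 + bitF n 2 * bitF n 3) +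
    (bitF n 4 + bitF n 5 + bitF n 4 * bitF n 5) + (c * (bitF n 6 + bitF n 7) + bitF n 6 * bitF n 7)

/-- The polar form. -/
def bF (n m : ℕ) : ZMod 2 :=
  bitF n 0 * bitF m 1 + bitF n 1 * bitF m 0 + (bitF n 2 * bitF m 3 + bitF n 3 * bitF m 2) +
    (bitF n 4 * bitF m 5 + bitF n 5 * bitF m 4) + (bitF n 6 * bitF m 7 + bitF n 7 * bitF m 6)

theorem bF_xor_left (a a' b : ℕ) : bF (a ^^^ a') b = bF a b + bF a' b := by
  simp only [bF, bitF_xor]; ring

theorem bF_xor_right (a b b' : ℕ) : bF a (b ^^^ b') = bF a b + bF a b' := by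
  simp only [bF, bitF_xor]; ring

theorem qF_xor (c : ZMod 2) (a b : ℕ) : qF c (a ^^^ b) = qF c a + qF c b + bF a b := by
  simp only [qF, bF, bitF_xor]; ring

theorem bF_comm (a b : ℕ) : bF a b = bF b a := by simp only [bF]; ring

/-- A kind of module. -/
structure Kind where
  /-- the six matrices -/
  mats : List (List ℕ)
  /-- the type of the last block -/
  c : ZMod 2

/-- The natural module of the unitary group. -/
def kA : Kind := ⟨matsA, 1⟩
/-- Three blocks and a fixed hyperbolic plane. -/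
def kP : Kind := ⟨matsB, 0⟩
/-- Three blocks and a fixed anisotropic plane. -/
def kM : Kind := ⟨matsB, 1⟩

/-- The image of a vector under a word, in a kind. -/
def Kind.ev (K : Kind) (w : List ℕ) (n : ℕ) : ℕ := mev K.mats w n

theorem mem_span_one8 : ∀ n, n < 256 → n ∈ spanList one8 := by decide +kernel

/-- A property of vectors closed under sums holds for all once it holds for the basis. -/
theorem vec_induction (p : ℕ → Prop) (h0 : p 0) (hadd : ∀ a b, p a → p b → p (a ^^^ b))
    (hb : ∀ i < 8, p (2 ^ i)) {n : ℕ} (hn : n < 256) : p n := by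
  refine spanList_induction p h0 hadd one8 (fun v hv => ?_) n (mem_span_one8 n hn)
  simp only [one8, List.mem_cons, List.not_mem_nil, or_false] at hv
  rcases hv with rfl | rfl | rfl | rfl | rfl | rfl | rfl | rfl
  exacts [hb 0 (by norm_num), hb 1 (by norm_num), hb 2 (by norm_num), hb 3 (by norm_num),
    hb 4 (by norm_num), hb 5 (by norm_num), hb 6 (by norm_num), hb 7 (by norm_num)]

theorem mats_chk : ∀ Ms ∈ [matsA, matsB], ∀ M ∈ Ms, ∀ v ∈ M, v < 256 := by decide +kernel

theorem mev_lt {Ms : List (List ℕ)} (h : ∀ M ∈ Ms, ∀ v ∈ M, v < 256) :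
    ∀ (w : List ℕ) {n : ℕ}, n < 256 → mev Ms w n < 256
  | [], _, hn => hn
  | k :: w, n, _ => by
    refine app_lt _ (fun v hv => ?_) _
    by_cases hk : k < Ms.length
    · rw [List.getD_eq_getElem _ _ hk] at hv
      exact h _ (List.getElem_mem hk) v hv
    · rw [List.getD_eq_default _ _ (not_lt.1 hk)] at hv
      exact absurd hv List.not_mem_nil

theorem nondeg_chk : (∀ n < 256, (∀ j < 8, bF n (2 ^ j) = 0) → n = 0) ∧
    ∀ n < 64, (∀ j < 6, bF n (2 ^ j) = 0) → n = 0 := by decide +kernel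

theorem block_chk : ∀ n < 256, n < 64 ∨ ∃ j < 8, 6 ≤ j ∧ n / 2 ^ j % 2 = 1 := by decide +kernel

/-- The values on the six block coordinates are arbitrary. -/
theorem dual_chk : ∀ a b c d e f : ZMod 2, ∃ n, n < 64 ∧ bF n 1 = a ∧ bF n 2 = b ∧ bF n 4 = c ∧
    bF n 8 = d ∧ bF n 16 = e ∧ bF n 32 = f := by
  intro a b c d e f
  have h : ∀ k : Fin 64, ∃ n ∈ List.range 64,
      (∀ j < 6, bF n (2 ^ j) = bitF k.val j) := by decide +kernel
  obtain ⟨k, hk⟩ : ∃ k : Fin 64, bitF k.val 0 = a ∧ bitF k.val 1 = b ∧ bitF k.val 2 = c ∧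
      bitF k.val 3 = d ∧ bitF k.val 4 = e ∧ bitF k.val 5 = f := by
    revert a b c d e f; decide +kernel
  obtain ⟨n, hn, hj⟩ := h k
  exact ⟨n, List.mem_range.1 hn, (hj 0 (by norm_num)).trans hk.1, (hj 1 (by norm_num)).trans hk.2.1,
    (hj 2 (by norm_num)).trans hk.2.2.1, (hj 3 (by norm_num)).trans hk.2.2.2.1,
    (hj 4 (by norm_num)).trans hk.2.2.2.2.1, (hj 5 (by norm_num)).trans hk.2.2.2.2.2⟩

end CfsgLib.USixRec
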