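import Cfsg.Agent.USixRec.Blocks
import Cfsg.Agent.USixRec.Model

/-!
# Coordinates: `J / Z(J)` is one of the three modules
-/

set_option autoImplicit false
set_option maxRecDepth 100000
set_option linter.style.haveILetI false

open CfsgLib.SpFourThree70 (P)
open CfsgLib.ExtraNine (app app_zero app_lt spanList spanList_induction)

namespace CfsgLib.USixRec

universe u

/-- The kernel of the first representative character. -/
def repA : List (List ℕ) := [[1], [0, 2, 2]]

/-- The kernel of the second one. -/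
def repB : List (List ℕ) := [[1, 2], [0, 2]]

/-- The kernel of the third one. -/
def repS : List (List ℕ) := repC.take 2

/-- The three representatives. -/
def repOf (i : ℕ) : List (List ℕ) := [repA, repB, repS].getD i []

theorem sepA_ok : SepOK repA trsA sepA 4 := by unfold SepOK; decide +kernel

theorem sepB_ok : SepOK repB trsB sepB 3 := by unfold SepOK; decide +kernel

theorem sepC_ok : SepOK repS trsC sepC 6 := by unfold SepOK; decide +kernel

theorem case_ker_chk : ∀ i < 3, ∀ j < 3,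
    caseKer.getD (3 * i + j) ([], []) = (gPow i ++ [1], gPow j ++ [2]) ∧
    key (gPow i ++ [1] ++ [0]) = key ([0] ++ (gPow i ++ [1])) ∧
    key (gPow i ++ [1] ++ [2]) = key ([2] ++ (gPow i ++ [1])) ∧
    key (gPow j ++ [2] ++ [0]) = key ([0] ++ (gPow j ++ [2])) := by decide +kernel

/-- The data moving a character to its representative. -/
def caseAt (k : ℕ) : ℕ × List ℕ × List ℕ × List ℕ × ℕ × List ℕ :=
  caseTo.getD k (0, [], [], [], 1, [])

/-- The kernel of a character. -/
def kerAt (k : ℕ) : List (List ℕ) := [(caseKer.getD k ([], [])).1, (caseKer.getD k ([], [])).2]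

theorem case_to_chk : ∀ k < 9, (caseAt k).1 < 3 ∧ (∀ l ∈ (caseAt k).2.1, l = 3 ∨ l = 4) ∧
    repOf (caseAt k).1 = [(repOf (caseAt k).1).getD 0 [], (repOf (caseAt k).1).getD 1 []] ∧
    ((caseAt k).2.2.2.2.1 = 1 ∨ (caseAt k).2.2.2.2.1 = 2) ∧
    key ((repOf (caseAt k).1).getD 0 [] ++ (caseAt k).2.1) =
      key ((caseAt k).2.1 ++ selW (kerAt k) (caseAt k).2.2.1) ∧
    key ((repOf (caseAt k).1).getD 1 [] ++ (caseAt k).2.1) =
      key ((caseAt k).2.1 ++ selW (kerAt k) (caseAt k).2.2.2.1) ∧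
    key ([0] ++ (caseAt k).2.1) =
      key ((caseAt k).2.1 ++ (gPow (caseAt k).2.2.2.2.1 ++ selW (kerAt k) (caseAt k).2.2.2.2.2)) := by
  decide +kernel

theorem orders_chk : key ([0] ++ [0] ++ [0]) = key [] ∧ key ([1] ++ [1] ++ [1]) = key [] ∧
    key ([2] ++ [2] ++ [2]) = key [] ∧ key ([1] ++ [0]) = key ([0] ++ [1]) ∧
    key ([2] ++ [0]) = key ([0] ++ [2]) := by decide +kernel

variable {G : Type u} [Group G] {S : Shape G}

open Shape

theorem wa_mem_of_gens (U : AddSubgroup S.Vec) {p : ℕ → Prop}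
    (hU : ∀ k, p k → ∀ v ∈ U, wa S [k] v ∈ U) : ∀ w : List ℕ, (∀ k ∈ w, p k) → ∀ v ∈ U, wa S w v ∈ U
  | [], _, v, hv => by rwa [wa_nil]
  | k :: w, h, v, hv => by
    rw [show k :: w = [k] ++ w from rfl, wa_append]
    exact hU k (h k List.mem_cons_self) _
      (wa_mem_of_gens U hU w (fun j hj => h j (List.mem_cons_of_mem _ hj)) v hv)

/-- A moved vector of an invariant subgroup gives a component of one of the two small orbits. -/
theorem exists_case [Finite G] (U : AddSubgroup S.Vec) (hU : ∀ k < 5, ∀ v ∈ U, wa S [k] v ∈ U)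
    {u : S.Vec} (hu : u ∈ U) (hm : wa S [0] u ≠ u) :
    ∃ x ∈ U, x ≠ 0 ∧ (Comp S repA x ∨ Comp S repB x) := by
  obtain ⟨o0, o1, o2, c1, c2⟩ := orders_chk
  have h3 : wa S [0] (wa S [0] (wa S [0] u)) = u := by
    rw [← wa_append, ← wa_append, wa_congr o0, wa_nil]
  set v := wa S [0] u + wa S [0] (wa S [0] u) with hv
  have hv0 : v ≠ 0 := fun e => hm (wa_inj [0] (by
    have := eq_neg_of_add_eq_zero_left e
    rw [Shape.neg_eq'] at this
    exact this.symm))
  have hvm : v + wa S [0] v + wa S [0, 0] v = 0 := by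
    rw [show ([0, 0] : List ℕ) = [0] ++ [0] from rfl, wa_append, hv]
    simp only [wa_add, h3]
    rw [show wa S [0] u + wa S [0] (wa S [0] u) + (wa S [0] (wa S [0] u) + u) + (u + wa S [0] u) =
      (wa S [0] u + wa S [0] u) + (wa S [0] (wa S [0] u) + wa S [0] (wa S [0] u)) + (u + u) by abel]
    simp only [Shape.add_self', add_zero]
  have hU0 := hU 0 (by norm_num)
  have hvU : v ∈ U := U.add_mem (hU0 _ hu) (hU0 _ (hU0 _ hu))
  obtain ⟨i, hi, v1, hv1U, hv10, hv1m, hv1f, -⟩ :=
    refine_moved U hU0 (hU 1 (by norm_num)) o1 c1 hvU hv0 hvm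
  obtain ⟨j, hj, v2, hv2U, hv20, hv2m, hv2f, hkeep⟩ :=
    refine_moved U hU0 (hU 2 (by norm_num)) o2 c2 hv1U hv10 hv1m
  obtain ⟨hk, hc0, hc2, hd0⟩ := case_ker_chk i hi j hj
  have hv2f1 : wa S (gPow i ++ [1]) v2 = v2 :=
    hkeep _ (fun x => wa_comm hc0 x) (fun x => wa_comm hc2 x) hv1f
  obtain ⟨k, hk9, hker⟩ : ∃ k < 9, kerAt k = [gPow i ++ [1], gPow j ++ [2]] :=
    ⟨3 * i + j, by omega, by rw [kerAt, hk]⟩
  have hcomp : Comp S (kerAt k) v2 := ⟨fun w hw => by
    rw [hker] at hw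
    simp only [List.mem_cons, List.not_mem_nil, or_false] at hw
    rcases hw with rfl | rfl
    exacts [hv2f1, hv2f], hv2m⟩
  have hcc : ∀ f ∈ kerAt k, key (f ++ [0]) = key ([0] ++ f) := by
    rw [hker]
    intro f hf
    simp only [List.mem_cons, List.not_mem_nil, or_false] at hf
    rcases hf with rfl | rfl
    exacts [hc0, hd0]
  obtain ⟨hw3, hh, hrep, hm', h1, h2, h4⟩ := case_to_chk k hk9
  have hx := hcomp.transport hm' hcc h1 h2 h4
  rw [← hrep] at hx
  refine ⟨_, wa_mem_of_gens U (p := fun l => l = 3 ∨ l = 4) (fun l hl => hU l (by omega)) _ hh _ hv2U,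
    fun e => hv20 (wa_inj _ (e.trans (wa_zero _).symm)), ?_⟩
  rcases (show (caseAt k).1 = 0 ∨ (caseAt k).1 = 1 ∨ (caseAt k).1 = 2 by omega) with e | e | e <;>
    rw [e] at hx
  · exact Or.inl hx
  · exact Or.inr hx
  · exact absurd (comp_eq_zero_of_six sepC_ok hx) fun h0 => hv20 (wa_inj _ (h0.trans (wa_zero _).symm))

/-! ### Linear combinations -/

/-- The linear map with given values on the basis. -/
def psi : List S.Vec → ℕ → S.Vec
  | [], _ => 0
  | v :: vs, n => (if n % 2 = 1 then v else 0) + psi vs (n / 2)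

theorem psi_xor : ∀ (e : List S.Vec) (a b : ℕ), psi e (a ^^^ b) = psi e a + psi e b
  | [], _, _ => by simp [psi]
  | v :: vs, a, b => by
    simp only [psi]
    rw [Nat.xor_div_two, psi_xor vs]
    have h : (a ^^^ b) % 2 = (a % 2 + b % 2) % 2 := by
      rw [Nat.xor_mod_two_eq, Nat.add_mod]
    rcases Nat.mod_two_eq_zero_or_one a with ha | ha <;>
      rcases Nat.mod_two_eq_zero_or_one b with hb | hb
    · simp [h, ha, hb]
    · simp [h, ha, hb]; abel
    · simp [h, ha, hb]; abel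
    · simp [h, ha, hb]
      calc psi vs (a / 2) + psi vs (b / 2)
          = (v + v) + (psi vs (a / 2) + psi vs (b / 2)) := by rw [Shape.add_self', zero_add]
        _ = _ := by abel

theorem psi_zero : ∀ e : List S.Vec, psi e 0 = 0
  | [] => rfl
  | v :: vs => by simp [psi, psi_zero vs]

theorem psi_two_pow : ∀ (e : List S.Vec) (j : ℕ), psi e (2 ^ j) = e.getD j 0
  | [], j => by simp [psi]
  | v :: vs, 0 => by simp [psi, psi_zero]
  | v :: vs, j + 1 => by
    rw [psi, show 2 ^ (j + 1) % 2 = 0 by rw [pow_succ]; omega,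
      show 2 ^ (j + 1) / 2 = 2 ^ j by rw [pow_succ]; omega, psi_two_pow vs j]
    simp

theorem psi_app (σ : P) (e : List S.Vec) : ∀ (es : List S.Vec) (M : List ℕ),
    List.Forall₂ (fun v c => S.act σ v = psi e c) es M → ∀ n, S.act σ (psi es n) = psi e (app M n)
  | [], _, h, n => by cases h; simp [psi, app, psi_zero]
  | v :: vs, _, h, n => by
    cases h with
    | cons hv hr =>
      rename_i c cs
      simp only [psi, app, psi_xor, map_add, psi_app σ e vs cs hr (n / 2)]
      congr 1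
      split
      · exact hv
      · simp [psi_zero]

/-- The generators in a list of matrices. -/
def GensOK (S : Shape G) (e : List S.Vec) (Ms : List (List ℕ)) (m : ℕ) : Prop :=
  ∀ k < m, ∀ n, wa S [k] (psi e n) = psi e (app (Ms.getD k []) n)

theorem wa_psi {e : List S.Vec} {Ms : List (List ℕ)} {m : ℕ} (h : GensOK S e Ms m) :
    ∀ w : List ℕ, (∀ k ∈ w, k < m) → ∀ n, wa S w (psi e n) = psi e (mev Ms w n)
  | [], _, n => wa_nil _
  | k :: w, hw, n => by
    rw [show k :: w = [k] ++ w from rfl, wa_append,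
      wa_psi h w (fun j hj => hw j (List.mem_cons_of_mem _ hj)) n, h k (hw k List.mem_cons_self)]
    rfl

/-! ### The basis from one vector -/

/-- The word of the `n`-th basis vector. -/
def bwd (ts : List (List ℕ)) (n : ℕ) : List ℕ := ts.getD (n / 2) [] ++ gPow (n % 2)

/-- The basis from one vector. -/
noncomputable def blockBasis (S : Shape G) (ts : List (List ℕ)) (nb : ℕ) (x : S.Vec) : List S.Vec :=
  (List.range (2 * nb)).map fun n => wa S (bwd ts n) x

theorem blockBasis_getD (ts : List (List ℕ)) {nb : ℕ} (x : S.Vec) (rest : List S.Vec) {n : ℕ}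
    (hn : n < 2 * nb) : (blockBasis S ts nb x ++ rest).getD n 0 = wa S (bwd ts n) x := by
  rw [List.getD_eq_getElem _ _ (by simp [blockBasis]; omega),
    List.getElem_append_left (by simpa [blockBasis] using hn)]
  simp [blockBasis]

/-- The table of images is correct. -/
def RelOK (ts fx : List (List ℕ)) (rel : List (ℕ × ℕ × List ℕ)) (Ms : List (List ℕ)) (nb : ℕ) : Prop :=
  ∀ k < 5, ∀ n < 2 * nb, (rel.getD (k * (2 * nb) + n) (0, 0, [])).1 < nb ∧
    (rel.getD (k * (2 * nb) + n) (0, 0, [])).2.1 < 3 ∧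
    key ([k] ++ bwd ts n) = key (ts.getD (rel.getD (k * (2 * nb) + n) (0, 0, [])).1 [] ++
      (gPow (rel.getD (k * (2 * nb) + n) (0, 0, [])).2.1 ++
        selW fx (rel.getD (k * (2 * nb) + n) (0, 0, [])).2.2)) ∧
    (Ms.getD k []).getD n 0 =
      ((rel.getD (k * (2 * nb) + n) (0, 0, [])).2.1 + 1) * 4 ^ (rel.getD (k * (2 * nb) + n) (0, 0, [])).1

theorem relA_ok : RelOK trsA fixA relA matsA 4 := by unfold RelOK; decide +kernel

theorem relB_ok : RelOK trsB fixB relB matsB 3 := by unfold RelOK; decide +kernel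

theorem three_mul_four : ∀ i < 4, 2 ^ (2 * i) = 4 ^ i ∧ 2 ^ (2 * i + 1) = 2 * 4 ^ i ∧
    3 * 4 ^ i = (4 ^ i) ^^^ (2 * 4 ^ i) := by decide +kernel

theorem basis_image {r ts fx : List (List ℕ)} {rel : List (ℕ × ℕ × List ℕ)} {Ms : List (List ℕ)} {nb : ℕ}
    (hr : RelOK ts fx rel Ms nb) (hnb : nb ≤ 4) {x : S.Vec} (hx : Comp S r x)
    (hfx : ∀ w ∈ fx, wa S w x = x) (rest : List S.Vec) {k : ℕ} (hk : k < 5) {n : ℕ} (hn : n < 2 * nb) :
    wa S [k] (wa S (bwd ts n) x) = psi (blockBasis S ts nb x ++ rest) ((Ms.getD k []).getD n 0) := by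
  obtain ⟨hi, hm, hkey, hcol⟩ := hr k hk n hn
  rw [← wa_append, wa_congr hkey, wa_append, wa_append, wa_selW hfx, hcol]
  generalize (rel.getD (k * (2 * nb) + n) (0, 0, [])).1 = i at hi
  generalize (rel.getD (k * (2 * nb) + n) (0, 0, [])).2.1 = m at hm
  obtain ⟨e0, e1, e2⟩ := three_mul_four i (by omega)
  have hb0 : psi (blockBasis S ts nb x ++ rest) (4 ^ i) = wa S (ts.getD i []) x := by
    rw [← e0, psi_two_pow, blockBasis_getD ts x rest (by omega), bwd,
      show 2 * i / 2 = i by omega, show 2 * i % 2 = 0 by omega]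
    simp [gPow]
  have hb1 : psi (blockBasis S ts nb x ++ rest) (2 * 4 ^ i) = wa S (ts.getD i []) (wa S [0] x) := by
    rw [← e1, psi_two_pow, blockBasis_getD ts x rest (by omega), bwd,
      show (2 * i + 1) / 2 = i by omega, show (2 * i + 1) % 2 = 1 by omega, wa_append]
    rfl
  interval_cases m
  · rw [show (0 + 1) * 4 ^ i = 4 ^ i from one_mul _, hb0, show gPow 0 = [] from rfl, wa_nil]
  · rw [hb1]; rfl
  · rw [show (2 + 1) * 4 ^ i = 3 * 4 ^ i from rfl, e2, psi_xor, hb0, hb1, ← wa_add, ← hx.ggx]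
    rfl

theorem forall₂_range {α : Type*} {R : α → ℕ → Prop} {d : α} : ∀ (es : List α) (M : List ℕ),
    es.length = M.length → (∀ n < es.length, R (es.getD n d) (M.getD n 0)) → List.Forall₂ R es M
  | [], [], _, _ => List.Forall₂.nil
  | [], _ :: _, h, _ => by simp at h
  | _ :: _, [], h, _ => by simp at h
  | a :: es, b :: M, h, hR => List.Forall₂.cons (by simpa using hR 0 (by simp))
      (forall₂_range es M (by simpa using h) fun n hn => by simpa using hR (n + 1) (by simpa using hn))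

theorem wa_forms (w : List ℕ) (v v' : S.Vec) :
    S.q (wa S w v) = S.q v ∧ S.B (wa S w v) (wa S w v') = S.B v v' :=
  ⟨Shape.q_act _ _, Shape.B_act _ _ _⟩

theorem Comp.gx {r : List (List ℕ)} {x : S.Vec} (hx : Comp S r x)
    (hc : ∀ f ∈ r, key (f ++ [0]) = key ([0] ++ f)) : Comp S r (wa S [0] x) := by
  refine ⟨hx.fix_gPow hc 1, ?_⟩
  rw [← wa_append, ← wa_append]
  show wa S [0] x + wa S [0, 0] x + wa S [0, 0, 0] x = 0
  rw [wa_congr (w := [0, 0, 0]) (w' := []) (by decide +kernel), wa_nil, add_comm, ← add_assoc]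
  exact hx.mv

theorem B_block (r : List (List ℕ)) {x : S.Vec} (hx : Comp S r x) : S.B x (wa S [0] x) = S.q x := by
  have h : S.q (wa S [0, 0] x) = S.q x := (wa_forms _ _ x).1
  rw [hx.ggx, Shape.q_add, (wa_forms [0] x x).1, CharTwo.add_self_eq_zero, zero_add] at h
  exact h

theorem bF_basis : ∀ i < 8, ∀ j < 8, bF (2 ^ i) (2 ^ j) = if i / 2 = j / 2 ∧ i ≠ j then 1 else 0 := by
  decide +kernel

/-- The forms on the blocks. -/
theorem block_forms {r ts : List (List ℕ)} {sep : List (List (List ℕ × List ℕ × ℕ × List ℕ))} {nb : ℕ}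
    (hs : SepOK r ts sep nb) (hnb : nb ≤ 4) {x : S.Vec} (hx : Comp S r x) (hq : S.q x = 1)
    {i j : ℕ} (hi : i < 2 * nb) (hj : j < 2 * nb) :
    S.q (wa S (bwd ts i) x) = 1 ∧
      S.B (wa S (bwd ts i) x) (wa S (bwd ts j) x) = bF (2 ^ i) (2 ^ j) := by
  refine ⟨by rw [(wa_forms _ _ x).1, hq], ?_⟩
  have hp : ∀ n, Comp S r (wa S (gPow (n % 2)) x) := fun n => by
    rcases Nat.mod_two_eq_zero_or_one n with e | e <;> rw [e]
    · rw [show gPow 0 = [] from rfl, wa_nil]; exact hx
    · exact hx.gx hs.1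
  rw [bF_basis i (by omega) j (by omega), bwd, bwd, wa_append, wa_append]
  by_cases hb : i / 2 = j / 2
  · rw [hb, (wa_forms _ _ _).2]
    by_cases hij : i = j
    · rw [if_neg (fun h => h.2 hij), hij, Shape.B_self]
    · rw [if_pos ⟨rfl, hij⟩]
      rcases Nat.mod_two_eq_zero_or_one i with ei | ei <;>
        rcases Nat.mod_two_eq_zero_or_one j with ej | ej
      · omega
      · rw [ei, ej, show gPow 0 = [] from rfl, wa_nil, show gPow 1 = [0] from rfl, B_block r hx, hq]
      · rw [ei, ej, show gPow 0 = [] from rfl, wa_nil, show gPow 1 = [0] from rfl, Shape.B_symm,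
          B_block r hx, hq]
      · omega
  · rw [if_neg (fun h => hb h.1)]
    exact sep_orth hs (by omega) (by omega) hb (hp i) (hp j)

theorem mem_span_six : ∀ n < 64, n ∈ spanList [1, 2, 4, 8, 16, 32] := by decide +kernel

end CfsgLib.USixRec
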