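import Cfsg.Agent.USixRec.FrameMain

/-!
# The three cases of coordinates
-/

set_option autoImplicit false
set_option maxRecDepth 100000
set_option linter.style.haveILetI false

open CfsgLib.SpFourThree70 (P)
open CfsgLib.ExtraNine (app spanList spanList_induction)

namespace CfsgLib.USixRec

universe u

variable {G : Type u} [Group G] {S : Shape G}

open Shape

theorem misc_chk : key [0] ≠ key [] ∧ key [1] = key ([4] ++ [0] ++ [4]) ∧
    key [2] = key ([3] ++ [1] ++ [3, 3]) ∧ key ([5, 0, 5] ++ [0]) = key ([0] ++ [5, 0, 5]) ∧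
    (∀ k < 5, (∀ j ∈ winv [k], j < 5) ∧ key ([k] ++ winv [k]) = key []) ∧
    key xWord = key [5] ∧
    xWord = [1] ++ ([1] ++ ([5, 0, 5] ++ ([5, 0, 5] ++ ([4] ++ ([1] ++ ([5, 0, 5] ++ ([1] ++ ([0] ++ [0])))))))) ∧
    (∀ Ms ∈ [matsA, matsB], ∀ k < 6, (Ms.getD k []).length = 8) ∧
    (∀ k < 6, ∀ j < 8, 6 ≤ j → (matsB.getD k []).getD j 0 = 2 ^ j) ∧
    (∀ k < 6, ∀ n < 64, app (matsB.getD k []) n < 64) ∧
    (∀ n < 64, app (matsB.getD 0 []) n = n → n = 0) := by
  decide +kernel

theorem wP_single_ne : wP [0] ≠ 1 := by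
  intro h
  have h1 := (SpFourThree70.toP_eq_iff (A := wS [0]) (B := 1)).1 (h.trans (map_one SpFourThree70.toP).symm)
  have h2 := wv_spec [0] (show 9 < 81 by norm_num)
  rcases h1 with e | e
  · rw [← e] at h2
    simp only [OneMemClass.coe_one, Matrix.one_mulVec] at h2
    exact absurd h2.1 (by decide +kernel)
  · rw [show ((wS [0]).1 : Matrix _ _ (ZMod 3)) = -(-(wS [0]).1) from (neg_neg _).symm, ← e] at h2
    simp only [OneMemClass.coe_one, Matrix.neg_mulVec, Matrix.one_mulVec] at h2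
    exact absurd h2.1 (by decide +kernel)

/-- The first generator moves a vector. -/
theorem exists_moved : ∃ u : S.Vec, wa S [0] u ≠ u := by
  by_contra! h
  exact wP_single_ne (Shape.eq_one_of_act h)

/-- The complement of three blocks. -/
def perpGrp (S : Shape G) (e : List S.Vec) : AddSubgroup S.Vec where
  carrier := {v | ∀ j < 6, S.B v (e.getD j 0) = 0}
  zero_mem' := fun _ _ => Shape.B_zero_left _
  add_mem' := fun {a b} ha hb j hj => by rw [Shape.B_add_left, ha j hj, hb j hj, add_zero]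
  neg_mem' := fun {a} ha j hj => by rw [Shape.neg_eq']; exact ha j hj

/-- The first vector of a block is nonsingular. -/
theorem q_eq_one [Finite G] {r ts : List (List ℕ)} {sep : List (List (List ℕ × List ℕ × ℕ × List ℕ))}
    {nb : ℕ} (hs : SepOK r ts sep nb) (hnb : 3 ≤ nb) {x : S.Vec} (hx : Comp S r x) (h0 : x ≠ 0) :
    S.q x = 1 := by
  classical
  haveI : Finite S.Vec := Nat.finite_of_card_ne_zero (by rw [Shape.card_vec]; norm_num)
  by_contra hq
  have hq0 : S.q x = 0 := (by decide : ∀ a : ZMod 2, a ≠ 1 → a = 0) _ hq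
  have hgx := hx.gx hs.1
  have hBB : ∀ a, Comp S r a → ∀ b, Comp S r b → S.B a b = 0 := by
    have hBx : S.B x (wa S [0] x) = 0 := by rw [B_block r hx, hq0]
    intro a ha b hb
    rcases comp_cases hs hnb hx h0 ha with e | e | e | e <;>
      rcases comp_cases hs hnb hx h0 hb with e' | e' | e' | e' <;>
      simp [e, e', hx.ggx, Shape.B_add_left, Shape.B_add_right, Shape.B_self, hBx,
        Shape.B_symm (wa S [0] x) x]
  let Φ : (Fin nb → compGrp S r) →+ S.Vec :=
    AddMonoidHom.mk' (fun f => ∑ j : Fin nb, wa S (ts.getD (j : ℕ) []) (f j : S.Vec)) fun f g => by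
      rw [← Finset.sum_add_distrib]
      exact Finset.sum_congr rfl fun j _ => by rw [← wa_add]; rfl
  have hinj : Function.Injective Φ := by
    intro f g hfg
    funext i
    let T : S.Vec →+ S.Vec := AddMonoidHom.mk' (projs S (sepRow sep nb i)) (projs_add _)
    have key : ∀ f : Fin nb → compGrp S r,
        T (Φ f) = wa S (ts.getD (i : ℕ) []) (f i : S.Vec) := fun f => by
      show T (∑ j : Fin nb, wa S (ts.getD (j : ℕ) []) (f j : S.Vec)) = _
      rw [map_sum]
      show ∑ j : Fin nb, projs S (sepRow sep nb i) (wa S (ts.getD (j : ℕ) []) (f j : S.Vec)) = _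
      rw [Finset.sum_congr rfl fun j _ => sep_isolate hs i.2 j.2 (f j).2]
      simp [Fin.val_inj]
    have h1 := congrArg T hfg
    rw [key f, key g] at h1
    exact Subtype.ext (wa_inj _ h1)
  have hcard : 4 ≤ Nat.card (compGrp S r) := by
    obtain ⟨g1, g2, g3, g4, g5⟩ := hx.four h0
    have hsub : (({0, x, wa S [0] x, wa S [0, 0] x} : Finset S.Vec) : Set S.Vec) ⊆ compGrp S r := by
      intro c hc
      simp only [Finset.coe_insert, Finset.coe_singleton, Set.mem_insert_iff, Set.mem_singleton_iff] at hc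
      rcases hc with rfl | rfl | rfl | rfl
      exacts [Comp.zero S r, hx, hgx, hx.ggx ▸ hx.add hgx]
    have := Set.ncard_le_ncard hsub (Set.toFinite _)
    rw [Set.ncard_coe_finset, ← Nat.card_coe_set_eq] at this
    rw [show ({0, x, wa S [0] x, wa S [0, 0] x} : Finset S.Vec).card = 4 from by
      simp [Ne.symm h0, Ne.symm g3, Ne.symm g4, Ne.symm g1, Ne.symm g2, g5]] at this
    exact this
  have h16 := Shape.card_isotropic_le Φ.range (by
    rintro _ ⟨f, rfl⟩ _ ⟨g, rfl⟩
    have hl : ∀ (w : S.Vec) (g : Fin nb → S.Vec), S.B w (∑ j, g j) = ∑ j, S.B w (g j) := fun w g => by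
      rw [show S.B w = ⇑(AddMonoidHom.mk' (S.B w) (Shape.B_add_right w)) from rfl, map_sum]
    show S.B (∑ j : Fin nb, wa S (ts.getD (j : ℕ) []) (f j : S.Vec))
      (∑ j : Fin nb, wa S (ts.getD (j : ℕ) []) (g j : S.Vec)) = 0
    rw [hl]
    refine Finset.sum_eq_zero fun j _ => ?_
    rw [Shape.B_symm, hl]
    refine Finset.sum_eq_zero fun i _ => ?_
    by_cases hij : (j : ℕ) = i
    · rw [hij, (wa_forms _ _ _).2]; exact hBB _ (g j).2 _ (f i).2
    · exact sep_orth hs j.2 i.2 hij (g j).2 (f i).2)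
  rw [← Nat.card_congr (AddMonoidHom.ofInjective hinj).toEquiv, Nat.card_fun, Nat.card_fin] at h16
  have h2 := (Nat.pow_le_pow_right (show 0 < 4 by norm_num) hnb).trans (Nat.pow_le_pow_left hcard nb)
  have := h2.trans h16
  norm_num at this

theorem frameA [Finite G] {x : S.Vec} (hx : Comp S repA x) (h0 : x ≠ 0) : Nonempty (Frame S) := by
  classical
  haveI : Finite S.Vec := Nat.finite_of_card_ne_zero (by rw [Shape.card_vec]; norm_num)
  have hfx := exists_fixA hx h0
  set e := blockBasis S trsA 4 x with he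
  have he' : e = blockBasis S trsA 4 x ++ [] := (List.append_nil _).symm
  have hlen : e.length = 8 := by simp [he, blockBasis]
  have hget : ∀ n < 8, e.getD n 0 = wa S (bwd trsA n) x := fun n hn => by
    rw [he']; exact blockBasis_getD trsA x [] (nb := 4) hn
  have h5 : GensOK S e matsA 5 := gensOK_of_basis hlen
    (fun k hk => misc_chk.2.2.2.2.2.2.2.1 matsA (by simp) k (by omega)) fun k hk n hn => by
    rw [hget n hn, he']
    exact basis_image relA_ok le_rfl hx hfx [] hk hn
  have hq : S.q x = 1 := q_eq_one sepA_ok (by norm_num) hx h0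
  have hf := fun i hi j hj => block_forms sepA_ok le_rfl hx hq (i := i) (j := j) hi hj
  obtain ⟨hQ, hinj, hsurj⟩ := forms_of_basis (e := e) (c := (1 : ZMod 2))
    (fun i hi => by rw [hget i hi, (hf i hi i hi).1, qF_basis 1 i hi]; simp)
    (fun i hi j hj => by rw [hget i hi, hget j hj, (hf i hi j hj).2])
  exact ⟨⟨e, kA, Or.inl rfl, gens_six xdataA he' hlen h5 hfx hinj hsurj
    (fun i hi => absurd hi (by simp)), hQ, hinj, hsurj⟩⟩

theorem frameB [Finite G] (hA : ∀ x, Comp S repA x → x = 0) {x₀ : S.Vec} (hx₀ : Comp S repB x₀)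
    (h0₀ : x₀ ≠ 0) : Nonempty (Frame S) := by
  classical
  haveI : Finite S.Vec := Nat.finite_of_card_ne_zero (by rw [Shape.card_vec]; norm_num)
  obtain ⟨m0, m1, m2, mf, mi, mx, mseg, mlen, mD, m64, mfix⟩ := misc_chk
  obtain ⟨x, hx, h0, hfx⟩ := exists_fixB hx₀ h0₀
  set e₀ := blockBasis S trsB 3 x with he₀
  set p := e₀ ++ [(0 : S.Vec), 0] with hp
  have hget : ∀ (rest : List S.Vec) n, n < 6 → (e₀ ++ rest).getD n 0 = wa S (bwd trsB n) x :=
    fun rest n hn => blockBasis_getD trsB x rest (nb := 3) hn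
  have hpsi6 : ∀ (rest : List S.Vec) n, n < 64 → psi (e₀ ++ rest) n = psi p n := by
    intro rest n hn
    refine spanList_induction (fun n => psi (e₀ ++ rest) n = psi p n) (by rw [psi_zero, psi_zero])
      (fun a b ha hb => by rw [psi_xor, psi_xor, ha, hb]) [1, 2, 4, 8, 16, 32] (fun v hv => ?_) n
      (mem_span_six n hn)
    obtain ⟨j, hj, rfl⟩ : ∃ j < 6, 2 ^ j = v :=
      (by decide : ∀ v ∈ [1, 2, 4, 8, 16, 32], ∃ j < 6, 2 ^ j = v) v hv
    rw [psi_two_pow, psi_two_pow, hget rest j hj, hget _ j hj]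
  -- the generators on the blocks
  have hW : ∀ k < 5, ∀ n < 64, wa S [k] (psi p n) = psi p (app (matsB.getD k []) n) := by
    intro k hk n hn
    refine spanList_induction (fun n => wa S [k] (psi p n) = psi p (app (matsB.getD k []) n))
      (by rw [psi_zero, wa_zero, ExtraNine.app_zero, psi_zero])
      (fun a b ha hb => by rw [psi_xor, wa_add, ha, hb, ExtraNine.app_xor, psi_xor])
      [1, 2, 4, 8, 16, 32] (fun v hv => ?_) n (mem_span_six n hn)
    obtain ⟨j, hj, rfl⟩ : ∃ j < 6, 2 ^ j = v :=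
      (by decide : ∀ v ∈ [1, 2, 4, 8, 16, 32], ∃ j < 6, 2 ^ j = v) v hv
    have happ : app (matsB.getD k []) (2 ^ j) = (matsB.getD k []).getD j 0 :=
      (by decide +kernel : ∀ k < 5, ∀ j < 6,
        app (matsB.getD k []) (2 ^ j) = (matsB.getD k []).getD j 0) k hk j hj
    rw [psi_two_pow, hget _ j hj, happ]
    exact basis_image relB_ok (by norm_num) hx hfx [0, 0] hk hj
  set U := perpGrp S p with hU
  have hUpsi : ∀ v ∈ U, ∀ n < 64, S.B v (psi p n) = 0 := by
    intro v hv n hn
    refine spanList_induction (fun n => S.B v (psi p n) = 0) (by rw [psi_zero, Shape.B_zero_right])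
      (fun a b ha hb => by rw [psi_xor, Shape.B_add_right, ha, hb, add_zero])
      [1, 2, 4, 8, 16, 32] (fun w hw => ?_) n (mem_span_six n hn)
    obtain ⟨j, hj, rfl⟩ : ∃ j < 6, 2 ^ j = w :=
      (by decide : ∀ w ∈ [1, 2, 4, 8, 16, 32], ∃ j < 6, 2 ^ j = w) w hw
    rw [psi_two_pow]; exact hv j hj
  have hUinv : ∀ k < 5, ∀ v ∈ U, wa S [k] v ∈ U := by
    intro k hk v hv j hj
    obtain ⟨hw5, hwk⟩ := mi k hk
    have hmev : ∀ w : List ℕ, (∀ l ∈ w, l < 5) → ∀ n < 64,
        ∃ n' < 64, wa S w (psi p n) = psi p n' := by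
      intro w
      induction w with
      | nil => intro _ n hn; exact ⟨n, hn, wa_nil _⟩
      | cons l w ih =>
        intro hl n hn
        obtain ⟨n', hn', hn''⟩ := ih (fun i hi => hl i (List.mem_cons_of_mem _ hi)) n hn
        have hl5 := hl l List.mem_cons_self
        exact ⟨_, m64 l (by omega) n' hn', by
          rw [show l :: w = [l] ++ w from rfl, wa_append, hn'', hW l hl5 n' hn']⟩
    obtain ⟨n', hn', hw'⟩ := hmev (winv [k]) hw5 (2 ^ j)
      (lt_of_lt_of_le (Nat.pow_lt_pow_right (by norm_num) hj) (le_refl (2 ^ 6)))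
    have hback : wa S [k] (psi p n') = p.getD j 0 := by
      rw [← hw', ← wa_append, wa_congr hwk, wa_nil, psi_two_pow]
    rw [← hback, (wa_forms [k] v _).2]
    exact hUpsi v hv n' hn'
  have hq : S.q x = 1 := q_eq_one sepB_ok le_rfl hx h0
  have hBbasis : ∀ i < 6, ∀ j < 6, S.B (p.getD i 0) (p.getD j 0) = bF (2 ^ i) (2 ^ j) := fun i hi j hj => by
    rw [hget _ i hi, hget _ j hj]
    exact (block_forms sepB_ok (by norm_num) hx hq (i := i) (j := j) hi hj).2
  have hB6 : ∀ n < 64, ∀ j < 6, S.B (psi p n) (p.getD j 0) = bF n (2 ^ j) := by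
    intro n hn j hj
    refine spanList_induction (fun n => S.B (psi p n) (p.getD j 0) = bF n (2 ^ j))
      (by simp [psi_zero, bF, bitF]) (fun a b ha hb => by rw [psi_xor, Shape.B_add_left, ha, hb, bF_xor_left])
      [1, 2, 4, 8, 16, 32] (fun w hw => ?_) n (mem_span_six n hn)
    obtain ⟨i, hi, rfl⟩ : ∃ i < 6, 2 ^ i = w :=
      (by decide : ∀ w ∈ [1, 2, 4, 8, 16, 32], ∃ i < 6, 2 ^ i = w) w hw
    rw [psi_two_pow]; exact hBbasis i hi j hj
  have hUfix : ∀ v ∈ U, wa S [0] v = v := by
    intro v hv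
    by_contra hm
    obtain ⟨y, hyU, hy0, hy | hy⟩ := exists_case U hUinv hv hm
    · exact hy0 (hA y hy)
    · -- a member of the first block in the complement
      have hxU : x ∈ U := by
        rcases comp_cases sepB_ok le_rfl hx h0 hy with e | e | e | e
        · exact absurd e hy0
        · exact e ▸ hyU
        · have := hUinv 0 (by norm_num) _ (hUinv 0 (by norm_num) _ (e ▸ hyU))
          rw [← wa_append, ← wa_append] at this
          rwa [wa_congr (w := [0] ++ [0] ++ [0]) (w' := []) (by decide +kernel), wa_nil] at this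
        · have := hUinv 0 (by norm_num) _ (e ▸ hyU)
          rw [← wa_append] at this
          rwa [wa_congr (w := [0] ++ [0, 0]) (w' := []) (by decide +kernel), wa_nil] at this
      have h1 := hxU 1 (by norm_num)
      rw [hget _ 1 (by norm_num), show bwd trsB 1 = [0] from rfl, B_block repB hx, hq] at h1
      exact one_ne_zero h1
  have hdec : ∀ v : S.Vec, ∃ n < 64, v + psi p n ∈ U := by
    intro v
    obtain ⟨n, hn, h1, h2, h3, h4, h5, h6⟩ := dual_chk (S.B v (p.getD 0 0)) (S.B v (p.getD 1 0))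
      (S.B v (p.getD 2 0)) (S.B v (p.getD 3 0)) (S.B v (p.getD 4 0)) (S.B v (p.getD 5 0))
    refine ⟨n, hn, fun j hj => ?_⟩
    rw [Shape.B_add_left, hB6 n hn j hj]
    interval_cases j <;> norm_num only <;>
      first
        | (rw [h1]; exact CharTwo.add_self_eq_zero _)
        | (rw [h2]; exact CharTwo.add_self_eq_zero _)
        | (rw [h3]; exact CharTwo.add_self_eq_zero _)
        | (rw [h4]; exact CharTwo.add_self_eq_zero _)
        | (rw [h5]; exact CharTwo.add_self_eq_zero _)
        | (rw [h6]; exact CharTwo.add_self_eq_zero _)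
  have hinj6 : ∀ a < 64, ∀ b < 64, psi p a = psi p b → a = b := fun a ha b hb h => by
    refine Nat.xor_eq_zero_iff.1 (nondeg_chk.2 _ (Nat.xor_lt_two_pow (n := 6) ha hb) fun j hj => ?_)
    rw [← hB6 _ (Nat.xor_lt_two_pow (n := 6) ha hb) j hj, psi_xor, h, Shape.add_self', Shape.B_zero_left]
  have hUiff : ∀ v : S.Vec, v ∈ U ↔ wa S [0] v = v := fun v => ⟨hUfix v, fun h => by
    obtain ⟨n, hn, hd⟩ := hdec v
    have h1 := hUfix _ hd
    rw [wa_add, h, hW 0 (by norm_num) n hn] at h1
    have h2 := mfix n hn (hinj6 _ (m64 0 (by norm_num) n hn) _ hn (add_left_cancel h1))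
    rwa [h2, psi_zero, add_zero] at hd⟩
  have hf505 : ∀ v ∈ U, wa S [5, 0, 5] v ∈ U := fun v hv => by
    rw [hUiff] at hv ⊢
    rw [← wa_comm mf, hv]
  have hU5 : ∀ v ∈ U, wa S [5] v ∈ U := by
    intro v hv
    rw [← wa_congr mx, mseg]
    simp only [wa_append]
    exact hUinv 1 (by norm_num) _ (hUinv 1 (by norm_num) _ (hf505 _ (hf505 _ (hUinv 4 (by norm_num) _
      (hUinv 1 (by norm_num) _ (hf505 _ (hUinv 1 (by norm_num) _ (hUinv 0 (by norm_num) _
        (hUinv 0 (by norm_num) _ hv)))))))))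
  have hU6 : ∀ k < 6, ∀ v ∈ U, wa S [k] v ∈ U := fun k hk => by
    rcases Nat.lt_or_ge k 5 with h | h
    · exact hUinv k h
    · rw [show k = 5 by omega]; exact hU5
  have hall : ∀ g : P, ∀ v ∈ U, S.act g v ∈ U := fun g v hv => by
    obtain ⟨w, hw, rfl⟩ := exists_word g
    exact wa_mem_of_gens U (p := fun k => k < 6) hU6 w hw v hv
  have htriv : ∀ g : P, ∀ v ∈ U, S.act g v = v := by
    let N : Subgroup P :=
      { carrier := {g | ∀ v ∈ U, S.act g v = v}
        one_mem' := fun v _ => Shape.act_one v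
        mul_mem' := fun {a b} ha hb v hv => by rw [Shape.act_mul, hb v hv, ha v hv]
        inv_mem' := fun {a} ha v hv => by
          conv_lhs => rw [← ha v hv]
          exact Shape.act_inv_act a v }
    have hNn : N.Normal := ⟨fun n hn g v hv => by
      show S.act (g * n * g⁻¹) v = v
      rw [Shape.act_mul, Shape.act_mul, hn _ (hall g⁻¹ v hv), ← Shape.act_mul, mul_inv_cancel,
        Shape.act_one]⟩
    haveI := SpFourThree70.isSimpleGroup_P
    rcases hNn.eq_bot_or_eq_top with h | h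
    · exact absurd (h ▸ (show wP [0] ∈ N from fun v hv => hUfix v hv) : wP [0] ∈ (⊥ : Subgroup P))
        (fun h' => wP_single_ne (Subgroup.mem_bot.1 h'))
    · exact fun g => (h ▸ Subgroup.mem_top g : g ∈ N)
  -- a basis of the plane
  obtain ⟨d1, hd1U, hd10⟩ : ∃ d ∈ U, d ≠ 0 := by
    by_contra! hall0
    have hb : Function.Surjective fun n : Fin 64 => psi p n.val := fun v => by
      obtain ⟨n, hn, hd⟩ := hdec v
      refine ⟨⟨n, hn⟩, ?_⟩
      have := hall0 _ hd
      rw [add_eq_zero_iff_eq_neg, Shape.neg_eq'] at this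
      exact this.symm
    have := Nat.card_le_card_of_surjective _ hb
    rw [Shape.card_vec, Nat.card_fin] at this
    norm_num at this
  obtain ⟨d2, hd2U, hd12⟩ : ∃ d ∈ U, S.B d1 d = 1 := by
    obtain ⟨w, hw⟩ := Shape.exists_B_one hd10
    obtain ⟨n, hn, hd⟩ := hdec w
    exact ⟨_, hd, by rw [Shape.B_add_right, hw, hUpsi d1 hd1U n hn, add_zero]⟩
  obtain ⟨a, b, c, haU, hbU, hab, hqa, hqb⟩ : ∃ a b : S.Vec, ∃ c : ZMod 2,
      a ∈ U ∧ b ∈ U ∧ S.B a b = 1 ∧ S.q a = c ∧ S.q b = c := by
    rcases (by decide : ∀ u : ZMod 2, u = 0 ∨ u = 1) (S.q d1) with h1 | h1 <;>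
      rcases (by decide : ∀ u : ZMod 2, u = 0 ∨ u = 1) (S.q d2) with h2 | h2
    · exact ⟨d1, d2, 0, hd1U, hd2U, hd12, h1, h2⟩
    · exact ⟨d1, d1 + d2, 0, hd1U, U.add_mem hd1U hd2U,
        by rw [Shape.B_add_right, Shape.B_self, hd12, zero_add], h1,
        by rw [Shape.q_add, h1, h2, hd12]; decide⟩
    · exact ⟨d2, d1 + d2, 0, hd2U, U.add_mem hd1U hd2U,
        by rw [Shape.B_add_right, Shape.B_self, Shape.B_symm, hd12, add_zero], h2,
        by rw [Shape.q_add, h1, h2, hd12]; decide⟩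
    · exact ⟨d1, d2, 1, hd1U, hd2U, hd12, h1, h2⟩
  set e := e₀ ++ [a, b] with he
  have hlen : e.length = 8 := by simp [he, he₀, blockBasis]
  have he6 : e.getD 6 0 = a ∧ e.getD 7 0 = b := by
    constructor <;> rw [he, List.getD_eq_getElem _ _ (by simp [he₀, blockBasis]),
      List.getElem_append_right (by simp [he₀, blockBasis])] <;> simp [he₀, blockBasis]
  have hgetp : ∀ j < 6, e.getD j 0 = p.getD j 0 := fun j hj => by rw [he, hp, hget _ j hj, hget _ j hj]
  have hperp : ∀ j < 6, S.B (e.getD j 0) a = 0 ∧ S.B (e.getD j 0) b = 0 := fun j hj => by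
    rw [hgetp j hj, Shape.B_symm, Shape.B_symm (p.getD j 0)]
    exact ⟨haU j hj, hbU j hj⟩
  obtain ⟨hQ, hinj, hsurj⟩ := forms_of_basis (e := e) (c := c)
    (fun i hi => by
      rw [qF_basis c i hi]
      rcases Nat.lt_or_ge i 6 with h | h
      · rw [if_pos h, he, hget _ i h]
        exact (block_forms sepB_ok (by norm_num) hx hq (i := i) (j := i) h h).1
      · rw [if_neg (by omega)]
        rcases (show i = 6 ∨ i = 7 by omega) with rfl | rfl
        · rw [he6.1, hqa]
        · rw [he6.2, hqb])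
    (fun i hi j hj => by
      rw [bF_basis i hi j hj]
      rcases Nat.lt_or_ge i 6 with h | h <;> rcases Nat.lt_or_ge j 6 with h' | h'
      · rw [hgetp i h, hgetp j h', hBbasis i h j h', bF_basis i hi j hj]
      · rw [if_neg (by omega)]
        rcases (show j = 6 ∨ j = 7 by omega) with rfl | rfl
        · rw [he6.1]; exact (hperp i h).1
        · rw [he6.2]; exact (hperp i h).2
      · rw [if_neg (by omega), Shape.B_symm]
        rcases (show i = 6 ∨ i = 7 by omega) with rfl | rfl
        · rw [he6.1]; exact (hperp j h').1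
        · rw [he6.2]; exact (hperp j h').2
      · rcases (show i = 6 ∨ i = 7 by omega) with rfl | rfl <;>
          rcases (show j = 6 ∨ j = 7 by omega) with rfl | rfl <;>
          simp only [he6.1, he6.2, Shape.B_self, hab, Shape.B_symm b a] <;> norm_num)
  have hfixk : ∀ k, ∀ v ∈ U, wa S [k] v = v := fun k v hv => htriv _ v hv
  have hpsi2 : ∀ j < 8, 6 ≤ j → e.getD j 0 ∈ U := fun j hj h => by
    rcases (show j = 6 ∨ j = 7 by omega) with rfl | rfl
    · rw [he6.1]; exact haU
    · rw [he6.2]; exact hbU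
  have hlen' := fun k (hk : k < 6) => mlen matsB (by simp) k hk
  have h5 : GensOK S e matsB 5 := gensOK_of_basis hlen (fun k hk => hlen' k (by omega)) fun k hk n hn => by
    rcases Nat.lt_or_ge n 6 with h | h
    · rw [he, hget _ n h]
      exact basis_image relB_ok (by norm_num) hx hfx [a, b] hk h
    · rw [hfixk k _ (hpsi2 n hn h), mD k (by omega) n hn h, psi_two_pow]
  have h6 := gens_six xdataB (x := x) (rest := [a, b]) he hlen h5 hfx hinj hsurj (fun i hi => by
    simp only [List.length_cons, List.length_nil] at hi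
    rw [hfixk 5 _ (hpsi2 _ (by omega) (by omega))]
    rcases (show i = 0 ∨ i = 1 by omega) with rfl | rfl
    · exact (psi_two_pow e 6).symm
    · exact (psi_two_pow e 7).symm)
  rcases (by decide : ∀ u : ZMod 2, u = 0 ∨ u = 1) c with rfl | rfl
  · exact ⟨⟨e, kP, Or.inr (Or.inl rfl), h6, hQ, hinj, hsurj⟩⟩
  · exact ⟨⟨e, kM, Or.inr (Or.inr rfl), h6, hQ, hinj, hsurj⟩⟩

/-- Coordinates exist. -/
theorem exists_frame [Finite G] (S : Shape G) : Nonempty (Frame S) := by
  obtain ⟨u, hu⟩ := exists_moved (S := S)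
  by_cases hA : ∃ x, Comp S repA x ∧ x ≠ 0
  · obtain ⟨x, hx, h0⟩ := hA
    exact frameA hx h0
  · push Not at hA
    obtain ⟨x, -, h0, hx | hx⟩ := exists_case (S := S) ⊤ (fun _ _ _ _ => trivial) (u := u) trivial hu
    · exact absurd (hA x hx) h0
    · exact frameB hA hx h0

end CfsgLib.USixRec
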