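import Cfsg.Agent.USixRec.Frame

/-!
# Existence of coordinates
-/

set_option autoImplicit false
set_option maxRecDepth 100000
set_option linter.style.haveILetI false

open CfsgLib.SpFourThree70 (P)
open CfsgLib.ExtraNine (app app_zero app_lt spanList spanList_induction)

namespace CfsgLib.USixRec

universe u

variable {G : Type u} [Group G] {S : Shape G}

open Shape

/-- Coordinates on `J / Z(J)` in which the six generators have the matrices of one of the kinds. -/
structure Frame {G : Type u} [Group G] (S : Shape G) where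
  /-- the basis -/
  e : List S.Vec
  /-- the kind -/
  K : Kind
  kind : K = kA ∨ K = kP ∨ K = kM
  ok : GensOK S e K.mats 6
  q_psi : ∀ n, n < 256 → S.q (psi e n) = qF K.c n
  inj : ∀ n, n < 256 → psi e n = 0 → n = 0
  surj : ∀ v, ∃ n, n < 256 ∧ psi e n = v

theorem qF_basis : ∀ c : ZMod 2, ∀ i < 8, qF c (2 ^ i) = if i < 6 then 1 else c := by decide +kernel

theorem forms_of_basis [Finite G] {e : List S.Vec} {c : ZMod 2}
    (hq : ∀ i < 8, S.q (e.getD i 0) = qF c (2 ^ i))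
    (hB : ∀ i < 8, ∀ j < 8, S.B (e.getD i 0) (e.getD j 0) = bF (2 ^ i) (2 ^ j)) :
    (∀ n, n < 256 → S.q (psi e n) = qF c n) ∧ (∀ n, n < 256 → psi e n = 0 → n = 0) ∧
      ∀ v, ∃ n, n < 256 ∧ psi e n = v := by
  have h1 : ∀ i < 8, ∀ n, n < 256 → S.B (psi e n) (e.getD i 0) = bF n (2 ^ i) := by
    intro i hi n hn
    refine vec_induction (fun n => S.B (psi e n) (e.getD i 0) = bF n (2 ^ i)) ?_ ?_ (fun j hj => ?_) hn
    · simp [psi_zero, bF, bitF]
    · intro a b ha hb; rw [psi_xor, Shape.B_add_left, ha, hb, bF_xor_left]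
    · rw [psi_two_pow]; exact hB j hj i hi
  have h2 : ∀ n, n < 256 → ∀ m, m < 256 → S.B (psi e n) (psi e m) = bF n m := by
    intro n hn m hm
    refine vec_induction (fun m => S.B (psi e n) (psi e m) = bF n m) ?_ ?_ (fun j hj => ?_) hm
    · simp [psi_zero, bF, bitF]
    · intro a b ha hb; rw [psi_xor, Shape.B_add_right, ha, hb, bF_xor_right]
    · rw [psi_two_pow]; exact h1 j hj n hn
  have hinj : ∀ n, n < 256 → psi e n = 0 → n = 0 := fun n hn h =>
    nondeg_chk.1 n hn fun j hj => by rw [← h1 j hj n hn, h, Shape.B_zero_left]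
  refine ⟨fun n hn => ?_, hinj, ?_⟩
  · refine (vec_induction (fun n => n < 256 ∧ S.q (psi e n) = qF c n) ⟨by norm_num, ?_⟩
      (fun a b ha hb => ⟨Nat.xor_lt_two_pow (n := 8) ha.1 hb.1, by
        rw [psi_xor, Shape.q_add, ha.2, hb.2, h2 a ha.1 b hb.1, qF_xor]⟩)
      (fun j hj => ⟨by interval_cases j <;> norm_num, by rw [psi_two_pow]; exact hq j hj⟩) hn).2
    have h0 : S.q (0 : S.Vec) = 0 := by rw [← Shape.pr_one (S := S), Shape.q_pr S.Q.one_mem]; simp
    rw [psi_zero, h0]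
    simp [qF, bitF]
  · haveI : Finite S.Vec := Nat.finite_of_card_ne_zero (by rw [Shape.card_vec]; norm_num)
    have hb : Function.Bijective fun n : Fin 256 => psi e n.val := by
      refine (Nat.bijective_iff_injective_and_card _).2 ⟨fun a b hab => Fin.ext ?_, by
        rw [Nat.card_fin, Shape.card_vec]⟩
      have := hinj _ (Nat.xor_lt_two_pow (n := 8) a.2 b.2)
        (by rw [psi_xor, show psi e a.val = psi e b.val from hab, Shape.add_self'])
      exact Nat.xor_eq_zero_iff.1 this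
    intro v
    obtain ⟨n, hn⟩ := hb.2 v
    exact ⟨n, n.2, hn⟩

theorem gensOK_of_basis {e : List S.Vec} {Ms : List (List ℕ)} {m : ℕ} (he : e.length = 8)
    (hlen : ∀ k < m, (Ms.getD k []).length = 8)
    (h : ∀ k < m, ∀ n < 8, wa S [k] (e.getD n 0) = psi e ((Ms.getD k []).getD n 0)) :
    GensOK S e Ms m := fun k hk n =>
  psi_app _ e e _ (forall₂_range (d := (0 : S.Vec)) e _ (by rw [he, hlen k hk])
    fun j hj => h k hk j (he ▸ hj)) n

/-! ### Fixed vectors of the stabilisers -/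

theorem stab_plus [Finite G] {r ts : List (List ℕ)} {sep : List (List (List ℕ × List ℕ × ℕ × List ℕ))}
    {nb : ℕ} (hs : SepOK r ts sep nb) (hnb : 3 ≤ nb) {f₁ f₂ : List ℕ} (hr : r = [f₁, f₂])
    {s a b c : List ℕ} (h1 : key (f₁ ++ s) = key (s ++ selW r a)) (h2 : key (f₂ ++ s) = key (s ++ selW r b))
    (h3 : key ([0] ++ s) = key (s ++ (gPow 1 ++ selW r c))) (hsq : key (s ++ s) = key [])
    {x : S.Vec} (hx : Comp S r x) (h0 : x ≠ 0) : wa S s x = x := by
  have hsx : Comp S r (wa S s x) := by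
    have := hx.transport (Or.inl rfl) hs.1 h1 h2 h3
    rwa [← hr] at this
  have hg : wa S [0] (wa S s x) = wa S s (wa S [0] x) := (hx.conj_gg hs.1 h3).1
  have hss : wa S s (wa S s x) = x := by rw [← wa_append, wa_congr hsq, wa_nil]
  obtain ⟨g1, g2, g3, g4, g5⟩ := hx.four h0
  rcases comp_cases hs hnb hx h0 hsx with e | e | e | e
  · exact absurd (wa_inj s (e.trans (wa_zero s).symm)) h0
  · exact e
  · exfalso
    rw [e, ← hg, e] at hss
    exact g2 (by rw [show ([0, 0] : List ℕ) = [0] ++ [0] from rfl, wa_append]; exact hss)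
  · exfalso
    rw [e, show ([0, 0] : List ℕ) = [0] ++ [0] from rfl, wa_append] at hss
    have hg2 : wa S s (wa S [0] (wa S [0] x)) = wa S [0] (wa S [0] (wa S s x)) := by
      have h' := (hx.conj_gg hs.1 h3).2
      exact h'.symm
    rw [hg2, e, ← wa_append, ← wa_append] at hss
    exact g1 ((wa_congr (w := [0]) (w' := [0] ++ [0] ++ [0, 0]) (by decide +kernel) x).trans hss)

theorem stab_minus [Finite G] {r ts : List (List ℕ)} {sep : List (List (List ℕ × List ℕ × ℕ × List ℕ))}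
    {nb : ℕ} (hs : SepOK r ts sep nb) (hnb : 3 ≤ nb) {f₁ f₂ : List ℕ} (hr : r = [f₁, f₂])
    {s a b c : List ℕ} (h1 : key (f₁ ++ s) = key (s ++ selW r a)) (h2 : key (f₂ ++ s) = key (s ++ selW r b))
    (h3 : key ([0] ++ s) = key (s ++ (gPow 2 ++ selW r c))) {x : S.Vec} (hx : Comp S r x) (h0 : x ≠ 0) :
    ∃ y, Comp S r y ∧ y ≠ 0 ∧ wa S s y = y := by
  have hsx : Comp S r (wa S s x) := by
    have := hx.transport (Or.inr rfl) hs.1 h1 h2 h3
    rwa [← hr] at this
  obtain ⟨hg, hgg⟩ := hx.conj_gg hs.1 h3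
  -- `hg : e (s x) = s (e² x)`, `hgg : e (e (s x)) = s (e⁴ x)`
  have hgg' : wa S [0] (wa S [0] (wa S s x)) = wa S s (wa S [0] x) := by
    rw [hgg, ← wa_append (gPow 2) (gPow 2)]
    exact congrArg (wa S s) (wa_congr (by decide +kernel) x)
  have h3x : ∀ v : S.Vec, wa S [0] (wa S [0] (wa S [0] v)) = v := fun v => by
    rw [← wa_append, ← wa_append]
    exact (wa_congr (w' := []) (by decide +kernel) v).trans (wa_nil v)
  rcases comp_cases hs hnb hx h0 hsx with e | e | e | e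
  · exact absurd (wa_inj s (e.trans (wa_zero s).symm)) h0
  · exact ⟨x, hx, h0, e⟩
  · have hy : Comp S r (wa S [0, 0] x) := hx.ggx ▸ hx.add (hx.gx hs.1)
    refine ⟨_, hy, fun e0 => h0 (wa_inj _ (e0.trans (wa_zero _).symm)), ?_⟩
    have : wa S s (wa S (gPow 2) x) = wa S [0] (wa S [0] x) := by rw [← hg, e]
    exact this.trans (by rw [← wa_append]; rfl)
  · refine ⟨_, hx.gx hs.1, fun e0 => h0 (wa_inj _ (e0.trans (wa_zero _).symm)), ?_⟩
    rw [← hgg', e, show ([0, 0] : List ℕ) = [0] ++ [0] from rfl, wa_append, h3x]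

theorem stab_chk :
    (key ([1] ++ [3, 4, 3, 3]) = key ([3, 4, 3, 3] ++ selW repA [0]) ∧
      key ([0, 2, 2] ++ [3, 4, 3, 3]) = key ([3, 4, 3, 3] ++ selW repA [1, 1]) ∧
      key ([0] ++ [3, 4, 3, 3]) = key ([3, 4, 3, 3] ++ (gPow 1 ++ selW repA [1, 1])) ∧
      key ([3, 4, 3, 3] ++ [3, 4, 3, 3]) = key []) ∧
    (key ([1] ++ [3, 3, 4, 3]) = key ([3, 3, 4, 3] ++ selW repA [0]) ∧
      key ([0, 2, 2] ++ [3, 3, 4, 3]) = key ([3, 3, 4, 3] ++ selW repA [0, 0, 1, 1]) ∧
      key ([0] ++ [3, 3, 4, 3]) = key ([3, 3, 4, 3] ++ (gPow 1 ++ selW repA [0, 0, 1])) ∧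
      key ([3, 3, 4, 3] ++ [3, 3, 4, 3]) = key []) ∧
    (key ([1, 2] ++ [4]) = key ([4] ++ selW repB [1]) ∧
      key ([0, 2] ++ [4]) = key ([4] ++ selW repB [0]) ∧
      key ([0] ++ [4]) = key ([4] ++ (gPow 1 ++ selW repB [0, 1, 1])) ∧
      key ([4] ++ [4]) = key []) ∧
    (key ([1, 2] ++ [4, 3, 4, 3]) = key ([4, 3, 4, 3] ++ selW repB [0, 0]) ∧
      key ([0, 2] ++ [4, 3, 4, 3]) = key ([4, 3, 4, 3] ++ selW repB [1]) ∧
      key ([0] ++ [4, 3, 4, 3]) = key ([4, 3, 4, 3] ++ (gPow 2 ++ selW repB [1]))) ∧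
    fixA = repA ++ [[3, 4, 3, 3], [3, 3, 4, 3]] ∧ fixB = repB ++ [[4], [4, 3, 4, 3]] := by
  decide +kernel

theorem exists_fixA [Finite G] {x : S.Vec} (hx : Comp S repA x) (h0 : x ≠ 0) :
    ∀ w ∈ fixA, wa S w x = x := by
  obtain ⟨⟨a1, a2, a3, a4⟩, ⟨b1, b2, b3, b4⟩, -, -, hf, -⟩ := stab_chk
  intro w hw
  rw [hf] at hw
  simp only [List.mem_append, List.mem_cons, List.not_mem_nil, or_false] at hw
  rcases hw with h | rfl | rfl
  · exact hx.fix w h
  · exact stab_plus sepA_ok (by norm_num) rfl a1 a2 a3 a4 hx h0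
  · exact stab_plus sepA_ok (by norm_num) rfl b1 b2 b3 b4 hx h0

theorem exists_fixB [Finite G] {x : S.Vec} (hx : Comp S repB x) (h0 : x ≠ 0) :
    ∃ y, Comp S repB y ∧ y ≠ 0 ∧ ∀ w ∈ fixB, wa S w y = y := by
  obtain ⟨-, -, ⟨a1, a2, a3, a4⟩, ⟨b1, b2, b3⟩, -, hf⟩ := stab_chk
  obtain ⟨y, hy, hy0, hys⟩ := stab_minus sepB_ok (by norm_num) rfl b1 b2 b3 hx h0
  refine ⟨y, hy, hy0, fun w hw => ?_⟩
  rw [hf] at hw
  simp only [List.mem_append, List.mem_cons, List.not_mem_nil, or_false] at hw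
  rcases hw with h | rfl | rfl
  · exact hy.fix w h
  · exact stab_plus sepB_ok (by norm_num) rfl a1 a2 a3 a4 hy hy0
  · exact hys

/-! ### The last generator -/

/-- Relations satisfied by the last generator. -/
def xRels : List (List ℕ) := [[5, 5], [5, 4, 5, 4], [5, 0, 5, 0, 5, 0, 5, 0, 5, 0, 5, 0],
  [5, 2, 3, 5, 2, 3, 5, 2, 3, 5, 2, 3, 5, 2, 3]]

/-- The columns of a candidate. -/
def xCols (Ms ts : List (List ℕ)) (nb c0 c1 : ℕ) (tail : List ℕ) : List ℕ :=
  (List.range (2 * nb)).map (fun n => mev Ms (ts.getD (n / 2) []) (bif Nat.beq (n % 2) 0 then c0 else c1)) ++ tail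

/-- The vectors fixed by some words. -/
def fixedVecs (Ms : List (List ℕ)) (st : List (List ℕ)) : List ℕ :=
  (List.range 256).filter fun v => st.all fun w => Nat.beq (mev Ms w v) v

theorem xRels_chk : ∀ r ∈ xRels, key r = key [] ∧ ∀ k ∈ r, k < 6 := by decide +kernel

/-- The stabilisers used. -/
def st0A : List (List ℕ) := [[3, 4, 3, 3], [3, 3, 4, 3]]
/-- The stabilisers used. -/
def st1A : List (List ℕ) := [[4, 3, 4], [3, 4, 3, 3]]
/-- The stabilisers used. -/
def st0B : List (List ℕ) := [[4], [4, 3, 4, 3]]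
/-- The stabilisers used. -/
def st1B : List (List ℕ) := [[4], [3, 4, 3, 3, 4, 3]]

theorem xA_chk : ∀ c0 ∈ fixedVecs matsA st0A, ∀ c1 ∈ fixedVecs matsA st1A,
    (∀ r ∈ xRels, ∀ j < 8,
      mev (matsA.take 5 ++ [xCols matsA trsA 4 c0 c1 []]) r (2 ^ j) = 2 ^ j) →
    xCols matsA trsA 4 c0 c1 [] = matsA.getD 5 [] := by decide +kernel

theorem xB_chk : ∀ c0 ∈ fixedVecs matsB st0B, ∀ c1 ∈ fixedVecs matsB st1B,
    (∀ r ∈ xRels, ∀ j < 8,
      mev (matsB.take 5 ++ [xCols matsB trsB 3 c0 c1 [64, 128]]) r (2 ^ j) = 2 ^ j) →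
    xCols matsB trsB 3 c0 c1 [64, 128] = matsB.getD 5 [] := by decide +kernel

/-- The data for finding the matrix of the last generator. -/
structure XData (Ms ts fx st0 st1 : List (List ℕ)) (nb : ℕ) (tail : List ℕ) : Prop where
  len : Ms.length = 6 ∧ nb ≤ 4 ∧ tail.length + 2 * nb = 8 ∧ ∀ v ∈ tail, v < 256
  lt : ∀ M ∈ Ms, ∀ v ∈ M, v < 256
  ts5 : ∀ i < nb, (∀ k ∈ ts.getD i [], k < 5) ∧ key ([5] ++ ts.getD i []) = key (ts.getD i [] ++ [5])
  st : ∀ s ∈ st0 ++ st1, (∀ k ∈ s, k < 5) ∧ key ([5] ++ s) = key (s ++ [5])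
  st0_fix : ∀ s ∈ st0, s ∈ fx
  st1_fix : ∀ s ∈ st1, ∃ c ∈ [[0, 3, 1, 2], [2, 1], [0, 1, 1, 2], [0, 2, 3, 0, 2, 3]],
    key (s ++ [0]) = key ([0] ++ selW fx c)
  uniq : ∀ c0 ∈ fixedVecs Ms st0, ∀ c1 ∈ fixedVecs Ms st1,
    (∀ r ∈ xRels, ∀ j < 8, mev (Ms.take 5 ++ [xCols Ms ts nb c0 c1 tail]) r (2 ^ j) = 2 ^ j) →
    xCols Ms ts nb c0 c1 tail = Ms.getD 5 []

theorem xdataA : XData matsA trsA fixA st0A st1A 4 [] := by
  refine ⟨?_, ?_, ?_, ?_, ?_, ?_, xA_chk⟩ <;> decide +kernel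

theorem xdataB : XData matsB trsB fixB st0B st1B 3 [64, 128] := by
  refine ⟨?_, ?_, ?_, ?_, ?_, ?_, xB_chk⟩ <;> decide +kernel

/-- The sixth generator has the right matrix. -/
theorem gens_six [Finite G] {e : List S.Vec} {Ms ts fx st0 st1 : List (List ℕ)} {nb : ℕ} {tail : List ℕ}
    (D : XData Ms ts fx st0 st1 nb tail) {x : S.Vec} {rest : List S.Vec}
    (he : e = blockBasis S ts nb x ++ rest) (hlen : e.length = 8)
    (h5 : GensOK S e Ms 5) (hfx : ∀ w ∈ fx, wa S w x = x)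
    (hinj : ∀ n, n < 256 → psi e n = 0 → n = 0) (hsurj : ∀ v, ∃ n, n < 256 ∧ psi e n = v)
    (htail : ∀ i < tail.length, wa S [5] (e.getD (2 * nb + i) 0) = psi e (tail.getD i 0)) :
    GensOK S e Ms 6 := by
  have heq : ∀ a b, a < 256 → b < 256 → psi e a = psi e b → a = b := fun a b ha hb h =>
    Nat.xor_eq_zero_iff.1 (hinj _ (Nat.xor_lt_two_pow (n := 8) ha hb)
      (by rw [psi_xor, h, Shape.add_self']))
  obtain ⟨c0, hc0, e0⟩ := hsurj (wa S [5] x)
  obtain ⟨c1, hc1, e1⟩ := hsurj (wa S [5] (wa S [0] x))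
  have hev := wa_psi h5
  have hm0 : c0 ∈ fixedVecs Ms st0 := by
    refine List.mem_filter.2 ⟨List.mem_range.2 hc0, List.all_eq_true.2 fun s hs => ?_⟩
    obtain ⟨hs5, hsX⟩ := D.st s (List.mem_append_left _ hs)
    rw [Nat.beq_eq]
    refine heq _ _ (mev_lt D.lt s hc0) hc0 ?_
    rw [← hev s hs5, e0, ← wa_append, ← wa_congr hsX, wa_append, hfx s (D.st0_fix s hs)]
  have hm1 : c1 ∈ fixedVecs Ms st1 := by
    refine List.mem_filter.2 ⟨List.mem_range.2 hc1, List.all_eq_true.2 fun s hs => ?_⟩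
    obtain ⟨hs5, hsX⟩ := D.st s (List.mem_append_right _ hs)
    obtain ⟨c, -, hc⟩ := D.st1_fix s hs
    rw [Nat.beq_eq]
    refine heq _ _ (mev_lt D.lt s hc1) hc1 ?_
    rw [← hev s hs5, e1, ← wa_append, ← wa_congr hsX, wa_append, ← wa_append s, wa_congr hc,
      wa_append, wa_selW hfx]
  set cols := xCols Ms ts nb c0 c1 tail with hcols
  set Ms' := Ms.take 5 ++ [cols] with hMs'
  obtain ⟨hlMs, hnb, htl, htlt⟩ := D.len
  have hget : ∀ k < 5, Ms'.getD k [] = Ms.getD k [] := fun k hk => by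
    have h1 : k < (Ms.take 5).length := by rw [List.length_take, hlMs]; omega
    rw [hMs', List.getD_eq_getElem _ _ (by rw [List.length_append]; omega),
      List.getElem_append_left h1, List.getElem_take, List.getD_eq_getElem _ _ (by omega)]
  have hget5 : Ms'.getD 5 [] = cols := by
    have hl : (Ms.take 5).length = 5 := by rw [List.length_take, hlMs]; rfl
    rw [hMs', List.getD_eq_getElem _ _ (by simp [hlMs]),
      List.getElem_append_right (by omega)]
    simp [hl]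
  have hlt' : ∀ M ∈ Ms', ∀ v ∈ M, v < 256 := by
    intro M hM v hv
    rcases List.mem_append.1 hM with h | h
    · exact D.lt M (List.mem_of_mem_take h) v hv
    · rw [List.mem_singleton] at h
      subst h
      rcases List.mem_append.1 hv with h' | h'
      · obtain ⟨n, -, rfl⟩ := List.mem_map.1 h'
        refine mev_lt D.lt _ ?_
        cases Nat.beq (n % 2) 0 <;> assumption
      · exact htlt v h'
  have hclen : cols.length = 8 := by simp [hcols, xCols]; omega
  have h6 : GensOK S e Ms' 6 := by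
    intro k hk n
    by_cases hk5 : k < 5
    · rw [hget k hk5]; exact h5 k hk5 n
    obtain rfl : k = 5 := by omega
    rw [hget5]
    refine psi_app _ e e _ (forall₂_range (d := (0 : S.Vec)) e _ (by rw [hlen, hclen]) fun j hj => ?_) n
    rw [hlen] at hj
    show wa S [5] (e.getD j 0) = psi e (cols.getD j 0)
    by_cases hjb : j < 2 * nb
    · have hcj : cols.getD j 0 =
          mev Ms (ts.getD (j / 2) []) (bif Nat.beq (j % 2) 0 then c0 else c1) := by
        rw [List.getD_eq_getElem _ _ (by omega), List.getElem_of_eq hcols]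
        simp only [xCols]
        rw [List.getElem_append_left (by simpa using hjb)]
        simp
      obtain ⟨ht5, htX⟩ := D.ts5 (j / 2) (by omega)
      rw [hcj, ← hev _ ht5, he, blockBasis_getD ts x rest hjb, bwd, ← he, ← wa_append, ← List.append_assoc,
        wa_append, wa_congr htX, wa_append]
      rcases Nat.mod_two_eq_zero_or_one j with ej | ej <;> rw [ej]
      · rw [show gPow 0 = [] from rfl, wa_nil, ← e0]; rfl
      · rw [show gPow 1 = [0] from rfl, ← e1]; rfl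
    · have hcj : cols.getD j 0 = tail.getD (j - 2 * nb) 0 := by
        rw [List.getD_eq_getElem _ _ (by omega), List.getElem_of_eq hcols,
          List.getD_eq_getElem _ _ (by omega)]
        simp only [xCols]
        rw [List.getElem_append_right (by simp; omega)]
        simp
      have := htail (j - 2 * nb) (by omega)
      rw [show 2 * nb + (j - 2 * nb) = j by omega] at this
      rw [this, hcj]
  have hrel : ∀ r ∈ xRels, ∀ j < 8, mev Ms' r (2 ^ j) = 2 ^ j := by
    intro r hr j hj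
    obtain ⟨hk, hlt⟩ := xRels_chk r hr
    have hj256 : 2 ^ j < 256 :=
      lt_of_lt_of_le (Nat.pow_lt_pow_right (by norm_num) hj) (le_refl (2 ^ 8))
    refine heq _ _ (mev_lt hlt' r hj256) hj256 ?_
    rw [← wa_psi h6 r hlt, wa_congr hk, wa_nil]
  have hX := D.uniq c0 hm0 c1 hm1 hrel
  intro k hk n
  rcases Nat.lt_or_ge k 5 with h | h
  · exact h5 k h n
  · obtain rfl : k = 5 := by omega
    have := h6 5 hk n
    rw [hget5] at this
    rwa [show cols = Ms.getD 5 [] from hX] at this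

end CfsgLib.USixRec
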