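import Cfsg.Agent.FischerTypes.U62Involution

/-!
# No four-space of non-degenerate products in a plane

For a totally isotropic plane of the six-dimensional unitary space over the field with four elements, the
products of transvections at its points form Hermitian forms in three variables.  The determinant is cubic
over the field with two elements, so it cannot be one at all fifteen nonzero points of a four-space.
-/

set_option autoImplicit false
set_option linter.unusedSectionVars false

namespace CfsgLib.USixRec

open CfsgLib.RepBounds.Unit CfsgLib.U62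

/-- Four bits. -/
abbrev B4 := Bool × Bool × Bool × Bool

/-- The sum of the selected entries. -/
def lsum {M : Type*} [AddCommMonoid M] (a : Fin 4 → M) (x : B4) : M :=
  (if x.1 then a 0 else 0) + (if x.2.1 then a 1 else 0) + (if x.2.2.1 then a 2 else 0) +
    (if x.2.2.2 then a 3 else 0)

/-- The product of the selected entries. -/
def lprod {M : Type*} [Monoid M] (a : Fin 4 → M) (x : B4) : M :=
  (if x.1 then a 0 else 1) * (if x.2.1 then a 1 else 1) * (if x.2.2.1 then a 2 else 1) *
    (if x.2.2.2 then a 3 else 1)

/-- A product of three linear forms has sum zero over a four-space in characteristic two. -/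
theorem sum_three_linear {F : Type*} [CommRing F] (h2 : (2 : F) = 0) (a b c : Fin 4 → F) :
    ∑ x : B4, lsum a x * lsum b x * lsum c x = 0 := by
  simp only [lsum, Fintype.sum_prod_type, Fintype.sum_bool, Bool.false_eq_true, if_true, if_false, add_zero,
    zero_add, mul_zero]
  ring_nf
  simp [h2, show (4 : F) = 0 by linear_combination (2 : F) * h2, show (8 : F) = 0 by linear_combination (4 : F) * h2]

variable {F : Type} [Field F] [Fintype F] (C : ConjField F) (hC : C.q = 2)

local notation "V6" => (I6 → F)

/-- The vector by which `g` moves `x`. -/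
def mv (g : suG C I6) (x : V6) : V6 := app C g x + x

/-- Moves only into the perp of `P` and fixes that perp. -/
structure InPlane (P : Set V6) (g : suG C I6) : Prop where
  into : ∀ x, ∀ p ∈ P, herm C (mv C g x) p = 0
  fix : ∀ y, (∀ p ∈ P, herm C y p = 0) → app C g y = y

variable {C}

include hC

theorem inPlane_one (P : Set V6) : InPlane C P 1 :=
  ⟨fun x p _ => by rw [mv, app_one, vec_add_self C hC, herm_zero_left], fun y _ => app_one C y⟩

theorem inPlane_tv {P : Set V6} (hP : ∀ p ∈ P, ∀ q ∈ P, herm C p q = 0) {p : V6} (hp : p ∈ P) :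
    InPlane C P (tv C p) := by
  refine ⟨fun x q hq => ?_, fun y hy => by rw [app_tv C hC (hP p hp p hp), hy p hp, zero_smul, add_zero]⟩
  rw [mv, app_tv C hC (hP p hp p hp), add_comm x, add_assoc, vec_add_self C hC, add_zero, herm_smul_left,
    hP p hp q hq, mul_zero]

theorem mv_mul {P : Set V6} {g h : suG C I6} (hg : InPlane C P g) (hh : InPlane C P h) (x : V6) :
    mv C (g * h) x = mv C g x + mv C h x := by
  have e : app C g (mv C h x) = mv C h x := hg.fix _ (hh.into x)
  rw [mv, app_add] at e
  show app C (g * h) x + x = (app C g x + x) + (app C h x + x)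
  rw [app_mul]
  calc app C g (app C h x) + x = (app C g (app C h x) + app C g x) + (app C g x + x) := by
        rw [add_assoc, ← add_assoc (app C g x) (app C g x), vec_add_self C hC, zero_add]
    _ = (app C g x + x) + (app C h x + x) := by rw [e, add_comm]

theorem inPlane_mul {P : Set V6} {g h : suG C I6} (hg : InPlane C P g) (hh : InPlane C P h) :
    InPlane C P (g * h) :=
  ⟨fun x p hp => by rw [mv_mul hC hg hh, herm_add_left, hg.into x p hp, hh.into x p hp, add_zero],
    fun y hy => by rw [app_mul, hh.fix y hy, hg.fix y hy]⟩

theorem inPlane_sq {P : Set V6} {g : suG C I6} (hg : InPlane C P g) : g * g = 1 := by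
  refine suG_ext C fun x => ?_
  have h := mv_mul hC hg hg x
  rw [vec_add_self C hC, mv] at h
  rw [app_one]
  calc app C (g * g) x = (app C (g * g) x + x) + x := by rw [add_assoc, vec_add_self C hC, add_zero]
    _ = x := by rw [h, zero_add]

/-- Images are mutually orthogonal. -/
theorem herm_mv {P : Set V6} {g h : suG C I6} (hg : InPlane C P g) (hh : InPlane C P h) (x y : V6) :
    herm C (mv C g x) (mv C h y) = 0 := by
  rw [mv, herm_moved C (inPlane_sq hC hg)]
  show herm C x (app C g (mv C h y) + mv C h y) = 0
  rw [hg.fix _ (hh.into y), vec_add_self C hC, herm_zero_right]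

omit hC in
/-- Dual vectors of independent vectors. -/
theorem exists_dual {m : ℕ} {v : Fin m → V6} (hli : LinearIndependent F v) (i : Fin m) :
    ∃ u : V6, ∀ j, herm C u (v j) = if j = i then 1 else 0 := by
  let L : V6 →ₗ[F] (Fin m → F) :=
    { toFun := fun x i => herm C x (v i)
      map_add' := fun x y => funext fun i => herm_add_left C x y _
      map_smul' := fun a x => funext fun i => herm_smul_left C a x _ }
  have htop : LinearMap.range L = ⊤ := by
    by_contra hne
    obtain ⟨f, hf0, hf⟩ := Submodule.exists_dual_map_eq_bot_of_lt_top (lt_top_iff_ne_top.2 hne) inferInstance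
    apply hf0
    have hz : ∀ x, herm C x (∑ i, C.σ (f (Pi.single i 1)) • v i) = 0 := fun x => by
      have h1 : f (L x) = 0 := by
        have h2 : f (L x) ∈ (LinearMap.range L).map f := Submodule.mem_map_of_mem (LinearMap.mem_range_self L x)
        rwa [hf, Submodule.mem_bot] at h2
      rw [show herm C x (∑ i, C.σ (f (Pi.single i 1)) • v i) =
        ∑ i, f (Pi.single i 1) * herm C x (v i) by
          refine (map_sum (AddMonoidHom.mk' (herm C x) (herm_add_right C x)) _ _).trans ?_
          exact Finset.sum_congr rfl fun i _ => by
            rw [AddMonoidHom.mk'_apply, herm_smul_right, C.invol]]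
      rw [pi_eq_sum_univ' (L x), map_sum] at h1
      rw [← h1]
      exact Finset.sum_congr rfl fun i _ => by rw [map_smul, smul_eq_mul, mul_comm]; rfl
    have h0 : ∑ i, C.σ (f (Pi.single i 1)) • v i = 0 := by
      by_contra h0
      obtain ⟨y, hy⟩ := exists_herm_eq C h0 1
      exact one_ne_zero (hy.symm.trans (hz y))
    have h1 := Fintype.linearIndependent_iff.1 hli _ h0
    refine LinearMap.pi_ext fun i a => ?_
    rw [show (Pi.single i a : Fin m → F) = a • Pi.single i 1 by rw [← Pi.single_smul, smul_eq_mul, mul_one],
      map_smul, (map_eq_zero C.σ).1 (h1 i), smul_zero, LinearMap.zero_apply]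
  obtain ⟨u, hu⟩ : (fun j => if j = i then (1 : F) else 0) ∈ LinearMap.range L := htop ▸ Submodule.mem_top
  exact ⟨u, fun j => congrFun hu j⟩

theorem mv_triple {v : Fin 3 → V6} (hv : ∀ i j, herm C (v i) (v j) = 0) (x : V6) :
    mv C (tv C (v 0) * tv C (v 1) * tv C (v 2)) x = ∑ k, herm C x (v k) • v k := by
  rw [mv, app_mul, app_mul, app_tv C hC (hv 2 2), app_tv C hC (hv 1 1), app_tv C hC (hv 0 0),
    Fin.sum_univ_three]
  simp only [herm_add_left, herm_smul_left, hv, mul_zero, add_zero]
  calc x + herm C x (v 2) • v 2 + herm C x (v 1) • v 1 + herm C x (v 0) • v 0 + x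
      = (x + x) + (herm C x (v 0) • v 0 + herm C x (v 1) • v 1 + herm C x (v 2) • v 2) := by abel
    _ = _ := by rw [vec_add_self C hC, zero_add]

/-- There are no four elements of the plane group all whose products are non-degenerate. -/
theorem no_four {P : Set V6} (g : Fin 4 → suG C I6) (hg : ∀ i, InPlane C P (g i))
    (hrep : ∀ x : B4, x ≠ (false, false, false, false) → ∃ v : Fin 3 → V6,
      (∀ i j, herm C (v i) (v j) = 0) ∧ LinearIndependent F v ∧
        lprod g x = tv C (v 0) * tv C (v 1) * tv C (v 2)) : False := by
  classical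
  have h2 : (2 : F) = 0 := two_eq_zero C hC
  have hx : ∀ x : B4, InPlane C P (lprod g x) := fun x => by
    unfold lprod
    refine inPlane_mul hC (inPlane_mul hC (inPlane_mul hC ?_ ?_) ?_) ?_ <;> split <;>
      first | exact hg _ | exact inPlane_one hC P
  obtain ⟨b, hb, hbli, hbg⟩ := hrep (true, false, false, false) (by simp)
  choose f hf using fun i => exists_dual (C := C) hbli i
  -- the images of all elements lie in the span of `b`
  have hspan : ∀ x : B4, ∀ u, mv C (lprod g x) u ∈ Submodule.span F (Set.range b) := by
    intro x u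
    by_contra hout
    refine not_four_orth C (v := Fin.cons (mv C (lprod g x) u) b) ?_ (linearIndependent_finCons.2 ⟨hbli, hout⟩)
    have hbi : ∀ k, b k = mv C (lprod g (true, false, false, false)) (f k) := fun k => by
      rw [hbg, mv_triple hC hb, Finset.sum_eq_single k (fun j _ hj => by rw [hf, if_neg hj, zero_smul])
        (fun h => absurd (Finset.mem_univ k) h), hf, if_pos rfl, one_smul]
    intro i j
    refine Fin.cases ?_ (fun k => ?_) i <;> refine Fin.cases ?_ (fun l => ?_) j <;>
      simp only [Fin.cons_zero, Fin.cons_succ]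
    · exact herm_mv hC (hx x) (hx x) u u
    · rw [hbi l]; exact herm_mv hC (hx x) (hx _) _ _
    · rw [hbi k]; exact herm_mv hC (hx _) (hx x) _ _
    · exact hb k l
  let Φ : suG C I6 → Matrix (Fin 3) (Fin 3) F := fun h => Matrix.of fun i j => herm C (mv C h (f i)) (f j)
  -- the determinant is one at nonzero points
  have hdet : ∀ x : B4, (Φ (lprod g x)).det = if x = (false, false, false, false) then 0 else 1 := by
    intro x
    split_ifs with h0
    · subst h0
      refine Matrix.det_eq_zero_of_row_eq_zero 0 fun j => ?_
      show herm C (mv C (lprod g (false, false, false, false)) (f 0)) (f j) = 0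
      simp [lprod, mv, app_one, vec_add_self C hC, herm_zero_left]
    obtain ⟨v, hv, hli, hvg⟩ := hrep x h0
    choose u hu using fun i => exists_dual (C := C) hli i
    set Q : Matrix (Fin 3) (Fin 3) F := Matrix.of fun k j => herm C (v k) (f j) with hQ
    have e : Φ (lprod g x) = (Q.map C.σ).transpose * Q := by
      ext i j
      show herm C (mv C (lprod g x) (f i)) (f j) = _
      rw [hvg, mv_triple hC hv, Matrix.mul_apply, Fin.sum_univ_three, Fin.sum_univ_three]
      simp only [herm_add_left, herm_smul_left, Matrix.transpose_apply, Matrix.map_apply, hQ, Matrix.of_apply,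
        conj_herm]
    have hQ0 : Q.det ≠ 0 := by
      intro hd
      obtain ⟨c, hc0, hc⟩ := Matrix.exists_vecMul_eq_zero_iff.2 hd
      apply hc0
      have hcv : ∑ k, c k • v k ∈ Submodule.span F (Set.range b) :=
        Submodule.sum_mem _ fun k _ => Submodule.smul_mem _ _ (by
          have := hspan x (u k)
          rwa [hvg, mv_triple hC hv, Finset.sum_eq_single k (fun j _ hj => by rw [hu, if_neg hj, zero_smul])
            (fun h => absurd (Finset.mem_univ k) h), hu, if_pos rfl, one_smul] at this)
      obtain ⟨a, ha⟩ := (Submodule.mem_span_range_iff_exists_fun F).1 hcv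
      have ha0 : ∀ j, a j = 0 := fun j => by
        have h := congrFun hc j
        rw [Matrix.vecMul, dotProduct, Fin.sum_univ_three] at h
        have h' := congrArg (fun z => herm C z (f j)) ha
        simp only [Fin.sum_univ_three, herm_add_left, herm_smul_left] at h'
        rw [show c 0 * herm C (v 0) (f j) + c 1 * herm C (v 1) (f j) + c 2 * herm C (v 2) (f j) = 0 from h] at h'
        rw [← conj_herm C (f j) (b 0), ← conj_herm C (f j) (b 1), ← conj_herm C (f j) (b 2), hf, hf, hf] at h'
        fin_cases j <;> simpa using h'
      have h0' : ∑ k, c k • v k = 0 := by rw [← ha]; simp [ha0]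
      exact funext (Fintype.linearIndependent_iff.1 hli _ h0')
    rw [e, Matrix.det_mul, Matrix.det_transpose,
      show Q.map C.σ = (C.σ : F →+* F).mapMatrix Q from rfl, ← RingHom.map_det, mul_comm]
    exact norm_eq_one C hC hQ0
  -- the entries are linear
  have hlin : ∀ x : B4, ∀ i j, Φ (lprod g x) i j = lsum (fun k => Φ (g k) i j) x := by
    intro x i j
    have one : mv C (1 : suG C I6) (f i) = 0 := by rw [mv, app_one, vec_add_self C hC]
    have hif : ∀ (c : Bool) k, InPlane C P (if c then g k else 1) ∧
        herm C (mv C (if c then g k else 1) (f i)) (f j) = (if c then Φ (g k) i j else 0) := fun c k => by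
      cases c
      · exact ⟨inPlane_one hC P, by simp [one, herm_zero_left]⟩
      · exact ⟨hg k, rfl⟩
    have h01 := inPlane_mul hC (hif x.1 0).1 (hif x.2.1 1).1
    show herm C (mv C (lprod g x) (f i)) (f j) = _
    rw [lprod, mv_mul hC (inPlane_mul hC h01 (hif x.2.2.1 2).1) (hif x.2.2.2 3).1,
      mv_mul hC h01 (hif x.2.2.1 2).1, mv_mul hC (hif x.1 0).1 (hif x.2.1 1).1, herm_add_left, herm_add_left,
      herm_add_left, (hif _ 0).2, (hif _ 1).2, (hif _ 2).2, (hif _ 3).2, lsum]
  have hsum : ∑ x : B4, (Φ (lprod g x)).det = 0 := by
    simp only [Matrix.det_fin_three, hlin, Finset.sum_add_distrib, Finset.sum_sub_distrib,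
      sum_three_linear h2, sub_zero, add_zero]
  simp only [hdet] at hsum
  rw [Finset.sum_ite, Finset.sum_const_zero, zero_add, Finset.sum_const, nsmul_one,
    show (Finset.univ.filter fun x : B4 => ¬ x = (false, false, false, false)).card = 15 by decide] at hsum
  exact one_ne_zero (by push_cast at hsum; linear_combination hsum - (7 : F) * h2)

end CfsgLib.USixRec
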