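import Cfsg.Agent.SporFischer.Connected
import Cfsg.Agent.FischerThm.Uni.Model
import Cfsg.Agent.USixRec.Plane

/-!
# A component of type `U₆(2)` containing the centralizers of its members is everything

A member `x` outside the component gives for every pair in a maximal commuting set a third member, `x`
commuting with the product of the three.  Inside a totally isotropic plane such products would generate
a four-space of non-degenerate Hermitian forms in three variables.
-/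

set_option autoImplicit false
set_option linter.unusedSectionVars false
set_option linter.style.haveILetI false

namespace CfsgLib.USixRec

open Cfsg CfsgLib.RepBounds.Unit CfsgLib.U62 CfsgLib.SporFischer CfsgLib.FischerTypes
open CfsgLib.FischerThm (IsUniT uniD)

/-- Coordinates of a component of type `U₆(2)`. -/
theorem exists_param {G : Type*} [Group G] {K : Set G} {H : Subgroup G} (hKH : K ⊆ H)
    (hU : IsUniT {x : ↥H | (x : G) ∈ K} 6) :
    ∃ (F : Type) (_ : Field F) (_ : Fintype F) (C : ConjField F) (_ : C.q = 2) (ψ : suG C I6 →* G),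
      (∀ v, herm C v v = 0 → v ≠ 0 → ψ (tv C v) ∈ K) ∧
      (∀ a ∈ K, ∃ v, herm C v v = 0 ∧ v ≠ 0 ∧ ψ (tv C v) = a) ∧
      (∀ v w, herm C v v = 0 → herm C w w = 0 → w ≠ 0 → ψ (tv C v) = ψ (tv C w) →
        ∃ a : F, a ≠ 0 ∧ w = a • v) ∧
      (∀ v w, herm C v v = 0 → herm C w w = 0 → (Commute (ψ (tv C v)) (ψ (tv C w)) ↔ herm C v w = 0)) ∧
      (∀ h ∈ H, ∃ g, ψ g = h) ∧ ∀ g, ψ g = 1 → g ∈ Subgroup.center (suG C I6) := by
  obtain ⟨F, iF, iT, hF, e, he⟩ := hU
  obtain ⟨C, hC⟩ := exists_conjField (F := F) 2 (by rw [hF]; norm_num)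
  have hn : Fintype.card I6 = 6 := by simp
  haveI : Nontrivial I6 := Fintype.one_lt_card_iff_nontrivial.1 (by rw [hn]; norm_num)
  set π : suG C I6 →* ↥H := e.symm.toMonoidHom.comp (FischerThm.Uni.pr C hC hn) with hπ
  have hπv : ∀ v, e (π (tv C v)) = FischerThm.Uni.pt C hC hn v := fun v => e.apply_symm_apply _
  refine ⟨F, iF, iT, C, hC, H.subtype.comp π, fun v hv hv0 => ?_, fun a ha => ?_, fun v w hv hw hw0 h => ?_,
    fun v w hv hw => ?_, fun h hh => ?_, fun g hg => ?_⟩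
  · have h1 : e (π (tv C v)) ∈ uniD 6 F := by
      rw [hπv]; exact (FischerThm.Uni.mem_uniD_iff C hC hn _).2 ⟨v, hv, hv0, rfl⟩
    rw [← he] at h1
    obtain ⟨y, hy, hye⟩ := h1
    have h2 : (y : G) ∈ K := hy
    rw [e.injective hye] at h2
    exact h2
  · have h1 : e ⟨a, hKH ha⟩ ∈ uniD 6 F := he ▸ ⟨_, ha, rfl⟩
    obtain ⟨v, hv, hv0, hve⟩ := (FischerThm.Uni.mem_uniD_iff C hC hn _).1 h1
    rw [← hπv] at hve
    exact ⟨v, hv, hv0, (congrArg Subtype.val (e.injective hve)).symm⟩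
  · refine FischerThm.Uni.eq_smul_of_pt_eq C hC hn hv hw hw0 ?_
    rw [← hπv, ← hπv]
    exact congrArg e (Subtype.ext h)
  · rw [← FischerThm.Uni.commute_pt_iff C hC hn hv hw, ← hπv, ← hπv]
    exact ⟨fun h => (show Commute (π (tv C v)) (π (tv C w)) from Subtype.ext h.eq).map e.toMonoidHom,
      fun h => by
        have h' := h.map e.symm.toMonoidHom
        simp only [MulEquiv.coe_toMonoidHom, e.symm_apply_apply] at h'
        exact h'.map H.subtype⟩
  · obtain ⟨g, hg⟩ := FischerThm.Uni.pr_surjective C hC hn (e ⟨h, hh⟩)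
    exact ⟨g, by show (((e.symm (FischerThm.Uni.pr C hC hn g)) : ↥H) : G) = h; rw [hg, e.symm_apply_apply]⟩
  · rw [← FischerThm.Uni.ker_pr C hC hn, MonoidHom.mem_ker]
    have h1 : e.symm (FischerThm.Uni.pr C hC hn g) = 1 := Subtype.ext hg
    simpa using congrArg e h1

variable {G : Type*} [Group G] [Finite G] {D K : Set G} {H : Subgroup G} {d : G} {n : ℕ}
  (S : CompCore D K H d n)
include S

/-- No member lies outside a component of type `U₆(2)`. -/
theorem subset_K_of_unitary (hn : 17 ≤ n) (hU : IsUniT {x : ↥H | (x : G) ∈ K} 6) : D ⊆ K := by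
  classical
  intro x hx
  by_contra hxK
  obtain ⟨θ, M, hθ, -, -, hMK, hdM, hMc, hcard, hcl⟩ := S.exists_closed_clique hx hxK
  obtain ⟨F, _, _, C, hC, ψ, hψK, hψsurj, hψeq, hψcomm, -, -⟩ := exists_param S.subH hU
  choose! vec hvec hvec0 hψvec using hψsurj
  let P : Set (I6 → F) := vec '' (M : Set G)
  have hP : ∀ p ∈ P, ∀ q ∈ P, herm C p q = 0 := by
    rintro _ ⟨a, ha, rfl⟩ _ ⟨b, hb, rfl⟩
    rw [← hψcomm _ _ (hvec a (hMK ha)) (hvec b (hMK hb)), hψvec a (hMK ha), hψvec b (hMK hb)]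
    exact hMc a ha b hb
  let Good : suG C I6 → Prop := fun g => InPlane C P g ∧ Commute x (ψ g)
  have hone : Good 1 := ⟨inPlane_one hC P, by rw [map_one]; exact Commute.one_right _⟩
  have hmul : ∀ g h, Good g → Good h → Good (g * h) := fun g h hg hh =>
    ⟨inPlane_mul hC hg.1 hh.1, by rw [map_mul]; exact hg.2.mul_right hh.2⟩
  -- nontrivial good elements are products at three independent points
  have hthree : ∀ g, Good g → g ≠ 1 → ∃ v : Fin 3 → I6 → F,
      (∀ i j, herm C (v i) (v j) = 0) ∧ LinearIndependent F v ∧ g = tv C (v 0) * tv C (v 1) * tv C (v 2) := by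
    rintro g ⟨hgP, hgx⟩ hg1
    rcases involution_cases C hC (inPlane_sq hC hgP) with h | ⟨v, hv, hv0, h⟩ |
      ⟨v, w, hv, hw, hwv, hv0, hne, h⟩ | h
    · exact absurd h hg1
    · exact absurd (S.mem_K_of_commute (hψK v hv hv0) hx (h ▸ hgx).symm) hxK
    · have hw0 : w ≠ 0 := fun h0 => hne 0 (by rw [h0, zero_smul])
      refine absurd (S.mem_K_of_commute_pair (hψK v hv hv0) (hψK w hw hw0) (fun he => ?_)
        ((hψcomm v w hv hw).2 (by rw [← conj_herm, hwv, map_zero])) hx ?_) hxK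
      · obtain ⟨a, -, ha⟩ := hψeq v w hv hw hw0 he
        exact hne a ha
      · rw [← map_mul, ← h]; exact hgx
    · exact h
  -- the elements at the pairs through `d`
  have hdK : d ∈ K := S.mem_d
  let w : G → suG C I6 := fun b => tv C (vec d) * tv C (vec b) * tv C (vec (θ d b))
  have hb : ∀ b ∈ M.erase d, b ∈ K ∧ b ≠ d ∧ Commute d b ∧ θ d b ∈ (M : Set G) := fun b hb => by
    obtain ⟨hbd, hbM⟩ := Finset.mem_erase.1 hb
    exact ⟨hMK hbM, hbd, hMc d hdM b hbM, hcl d hdM b hbM (Ne.symm hbd)⟩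
  have hψw : ∀ b ∈ M.erase d, ψ (w b) = d * b * θ d b := fun b hbm => by
    obtain ⟨hbK, -, -, ht⟩ := hb b hbm
    simp only [w, map_mul, hψvec d hdK, hψvec b hbK, hψvec _ (hMK ht)]
  have hwG : ∀ b ∈ M.erase d, Good (w b) := fun b hbm => by
    obtain ⟨hbK, hbd, hdb, ht⟩ := hb b hbm
    refine ⟨inPlane_mul hC (inPlane_mul hC (inPlane_tv hC hP ⟨d, hdM, rfl⟩)
      (inPlane_tv hC hP ⟨b, (Finset.mem_erase.1 hbm).2, rfl⟩)) (inPlane_tv hC hP ⟨_, ht, rfl⟩), ?_⟩
    rw [hψw b hbm]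
    exact (hθ d hdK b hbK (Ne.symm hbd) hdb).2.2.2.2.2
  have hw1 : ∀ b ∈ M.erase d, w b ≠ 1 := fun b hbm h1 => by
    obtain ⟨hbK, hbd, hdb, ht⟩ := hb b hbm
    have h2 := hψw b hbm
    rw [h1, map_one] at h2
    refine S.pair_not_mem hdK hbK (Ne.symm hbd) hdb ?_
    rw [eq_inv_of_mul_eq_one_left h2.symm, S.inv' (S.sub (hMK ht))]
    exact hMK ht
  have hfib : ∀ z ∈ (M.erase d).image w, ((M.erase d).filter fun b => w b = z).card ≤ 2 := fun z hz => by
    obtain ⟨b, hbm, rfl⟩ := Finset.mem_image.1 hz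
    refine (Finset.card_le_card (t := {b, θ d b}) fun c hc => ?_).trans Finset.card_le_two
    obtain ⟨hcm, hcw⟩ := Finset.mem_filter.1 hc
    obtain ⟨hbK, hbd, hdb, ht⟩ := hb b hbm
    obtain ⟨hcK, hcd, hdc, htc⟩ := hb c hcm
    obtain ⟨htK, -, hbt, -, hct, -⟩ := hθ d hdK b hbK (Ne.symm hbd) hdb
    obtain ⟨htcK, -, hcc, -, hcct, -⟩ := hθ d hdK c hcK (Ne.symm hcd) hdc
    have h2 := congrArg ψ hcw
    rw [hψw b hbm, hψw c hcm, mul_assoc, mul_assoc] at h2
    rcases S.pairU _ hcK _ htcK _ hbK _ htK (Ne.symm hcc) hcct.symm (Ne.symm hbt) hct.symm (mul_left_cancel h2) with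
      ⟨e, -⟩ | ⟨e, -⟩ <;> simp [e]
  set T : Finset (suG C I6) := insert 1 ((M.erase d).image w) with hT
  have hTcard : 9 ≤ T.card := by
    have h1 := Finset.card_le_mul_card_image (M.erase d) 2 hfib
    rw [Finset.card_erase_of_mem hdM, hcard] at h1
    rw [hT, Finset.card_insert_of_notMem fun h => by
      obtain ⟨b, hbm, hb1⟩ := Finset.mem_image.1 h
      exact hw1 b hbm hb1]
    omega
  have hTG : ∀ g ∈ T, Good g := fun g hg => by
    rcases Finset.mem_insert.1 hg with rfl | hg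
    · exact hone
    · obtain ⟨b, hbm, rfl⟩ := Finset.mem_image.1 hg; exact hwG b hbm
  -- four independent ones
  have pick : ∀ A : Finset (suG C I6), A.card ≤ 8 → ∃ g ∈ T, g ∉ A := fun A hA => by
    obtain ⟨g, hg, hgA⟩ := Finset.exists_mem_notMem_of_card_lt_card (s := A) (t := T) (by omega)
    exact ⟨g, hg, hgA⟩
  let grow : Finset (suG C I6) → suG C I6 → Finset (suG C I6) := fun A g => A ∪ A.image (fun a => a * g)
  have hgrow : ∀ A g, (grow A g).card ≤ 2 * A.card := fun A g => by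
    refine (Finset.card_union_le _ _).trans ?_
    have := Finset.card_image_le (s := A) (f := fun a => a * g)
    omega
  obtain ⟨g₀, hg₀, h₀⟩ := pick {1} (by simp)
  obtain ⟨g₁, hg₁, h₁⟩ := pick (grow {1} g₀) ((hgrow _ _).trans (by simp))
  obtain ⟨g₂, hg₂, h₂⟩ := pick (grow (grow {1} g₀) g₁) (by
    have e1 := hgrow {1} g₀; have e2 := hgrow (grow {1} g₀) g₁
    rw [Finset.card_singleton] at e1; omega)
  obtain ⟨g₃, hg₃, h₃⟩ := pick (grow (grow (grow {1} g₀) g₁) g₂) (by
    have e1 := hgrow {1} g₀; have e2 := hgrow (grow {1} g₀) g₁; have e3 := hgrow (grow (grow {1} g₀) g₁) g₂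
    rw [Finset.card_singleton] at e1; omega)
  have hsq : ∀ g ∈ T, g * g = 1 := fun g hg => inPlane_sq hC (hTG g hg).1
  have hgood : ∀ (c : Bool) g, g ∈ T → Good (if c then g else 1) := fun c g hg => by
    cases c
    · exact hone
    · exact hTG g hg
  refine no_four hC (P := P) ![g₀, g₁, g₂, g₃] (fun i => by
    fin_cases i
    exacts [(hTG _ hg₀).1, (hTG _ hg₁).1, (hTG _ hg₂).1, (hTG _ hg₃).1]) fun y hy => ?_
  have hyG : Good (lprod ![g₀, g₁, g₂, g₃] y) :=
    hmul _ _ (hmul _ _ (hmul _ _ (hgood _ _ hg₀) (hgood _ _ hg₁)) (hgood _ _ hg₂)) (hgood _ _ hg₃)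
  refine hthree _ hyG fun h1 => ?_
  have hcancel : ∀ {a g : suG C I6}, g ∈ T → a * g = 1 → g = a := fun {a g} hg h =>
    ((eq_inv_of_mul_eq_one_left h).trans (inv_eq_of_mul_eq_one_right (hsq g hg))).symm
  obtain ⟨y₀, y₁, y₂, y₃⟩ := y
  cases y₃
  · cases y₂
    · cases y₁
      · cases y₀
        · exact hy rfl
        · refine h₀ (Finset.mem_singleton.2 ?_)
          simpa [lprod] using h1
      · refine h₁ ?_
        have h' : (if y₀ then g₀ else 1) * g₁ = 1 := by simpa [lprod] using h1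
        rw [hcancel hg₁ h']
        cases y₀ <;> simp [grow]
    · refine h₂ ?_
      have h' : (if y₀ then g₀ else 1) * (if y₁ then g₁ else 1) * g₂ = 1 := by simpa [lprod] using h1
      rw [hcancel hg₂ h']
      cases y₀ <;> cases y₁ <;> simp [grow]
  · refine h₃ ?_
    have h' : (if y₀ then g₀ else 1) * (if y₁ then g₁ else 1) * (if y₂ then g₂ else 1) * g₃ = 1 := by
      simpa [lprod] using h1
    rw [hcancel hg₃ h']
    cases y₀ <;> cases y₁ <;> cases y₂ <;> simp [grow, mul_assoc]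

/-- The component is the whole class. -/
theorem eq_class_of_unitary (hn : 17 ≤ n) (hU : IsUniT {x : ↥H | (x : G) ∈ K} 6) : D = K :=
  Set.Subset.antisymm (subset_K_of_unitary S hn hU) S.sub

/-- The subgroup of the component is the whole group. -/
theorem eq_top_of_unitary (hn : 17 ≤ n) (hU : IsUniT {x : ↥H | (x : G) ∈ K} 6) : H = ⊤ :=
  eq_top_iff.2 fun g _ => S.control S.mem_d (subset_K_of_unitary S hn hU (S.closed g d (S.sub S.mem_d)))

end CfsgLib.USixRec
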