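import Cfsg.Agent.USixRec.Group

/-!
# The 2-subgroups of `PSp₄(3)` of order at least 32
-/

set_option autoImplicit false
set_option maxRecDepth 100000

namespace CfsgLib.USixRec

open CfsgLib.SpFourThree70

/-- The chosen Sylow 2-subgroup, as canonical codes. -/
def sylAll : List ℕ := 0 :: sylElts

/-- The three generators. -/
def sylGens : List ℕ := [48, 96, 576]

/-- The bit of a character at a generator. -/
def sBit (s i : ℕ) : Bool := Nat.beq (s / 2 ^ i % 2) 1

/-- Values of a character along the tree. -/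
def chiList (s : ℕ) : List Bool :=
  sylPar.foldl (fun acc p => acc ++ [acc.getD p.1 false != sBit s p.2]) [false]

/-- The kernel of a character. -/
def maxCodes (s : ℕ) : List ℕ :=
  (List.range 64).filterMap fun k => bif (chiList s).getD k false then none else some (sylAll.getD k 0)

/-- The commutator of two codes. -/
def commC (a b : ℕ) : ℕ := canon (mul (mul a b) (mul (inv a) (inv b)))

theorem syl_chk : sylAll.length = 64 ∧
    (∀ a ∈ sylAll, a < 1152 ∧ isCanon a = true ∧ inS a = true) ∧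
    codes.all (fun n => !(inS n && isCanon n) || sylAll.contains n) = true ∧
    (∀ g ∈ sylGens, g < 1152 ∧ inS g = true) ∧
    (∀ k < 63, (sylPar.getD k (0, 0)).1 ≤ k ∧ (sylPar.getD k (0, 0)).2 < 3 ∧
      eqc (mul (sylAll.getD (sylPar.getD k (0, 0)).1 0) (sylGens.getD (sylPar.getD k (0, 0)).2 0))
        (sylAll.getD (k + 1) 0) = true) := by
  refine ⟨?_, ?_, ?_, ?_, ?_⟩ <;> decide +kernel

theorem chi_chk : ∀ s < 8, (chiList s).getD 0 false = false ∧ ∀ k < 63, (chiList s).getD (k + 1) false =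
    ((chiList s).getD (sylPar.getD k (0, 0)).1 false != sBit s (sylPar.getD k (0, 0)).2) := by
  decide +kernel

theorem bits_chk : ∀ a b c : Bool,
    sBit ((if a then 1 else 0) + (if b then 2 else 0) + (if c then 4 else 0)) 0 = a ∧
    sBit ((if a then 1 else 0) + (if b then 2 else 0) + (if c then 4 else 0)) 1 = b ∧
    sBit ((if a then 1 else 0) + (if b then 2 else 0) + (if c then 4 else 0)) 2 = c := by
  decide +kernel

theorem centre_chk : ∀ s < 8, s ≠ 0 →
    ((maxCodes s).filter fun a => (maxCodes s).all fun b => com a b).length ≤ 4 := by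
  decide +kernel

theorem derived_chk : ∀ s < 8, s ≠ 0 →
    ((maxCodes s).all fun a => (maxCodes s).all fun b => commC a b == 0 || commC a b == 1) = true ∨
      ∃ a ∈ maxCodes s, ∃ b ∈ maxCodes s, ∃ c ∈ maxCodes s, ∃ e ∈ maxCodes s,
        commC a b ≠ 0 ∧ commC c e ≠ 0 ∧ commC a b ≠ commC c e := by
  decide +kernel

theorem exists_sylAll {x : P} (hx : x ∈ modelP.S) : ∃ k < 64, modelP.Φ (sylAll.getD k 0) = x := by
  obtain ⟨n, hn, hs, rfl⟩ := hx
  obtain ⟨he, hlt, hc⟩ := canon_spec hn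
  have h := chk_all syl_chk.2.2.1 hlt
  rw [inS_canon hs, hc] at h
  simp only [Bool.and_self, Bool.not_true, Bool.false_or, List.contains_iff_mem] at h
  obtain ⟨k, hk, hke⟩ := List.getElem_of_mem h
  refine ⟨k, syl_chk.1 ▸ hk, ?_⟩
  rw [List.getD_eq_getElem _ _ hk, hke]
  exact ((modelP.eq_iff n _ hn hlt).2 he).symm

theorem sylAll_lt (k : ℕ) : sylAll.getD k 0 < 1152 := by
  by_cases hk : k < sylAll.length
  · rw [List.getD_eq_getElem _ _ hk]; exact (syl_chk.2.1 _ (List.getElem_mem hk)).1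
  · rw [List.getD_eq_default _ _ (not_lt.1 hk)]; norm_num

theorem sylAll_mem_S (k : ℕ) : modelP.Φ (sylAll.getD k 0) ∈ modelP.S := by
  refine (modelP.mem_S_iff (sylAll_lt k)).2 ?_
  by_cases hk : k < sylAll.length
  · rw [List.getD_eq_getElem _ _ hk]; exact (syl_chk.2.1 _ (List.getElem_mem hk)).2.2
  · rw [List.getD_eq_default _ _ (not_lt.1 hk)]; decide +kernel

/-- A subgroup of index two of the Sylow subgroup is one of the seven. -/
theorem exists_max {A : Subgroup P} (hA : A ≤ modelP.S) (hc : Nat.card A = 32) :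
    ∃ s < 8, s ≠ 0 ∧ ∀ x, x ∈ A ↔ ∃ n ∈ maxCodes s, modelP.Φ n = x := by
  classical
  have hidx : (A.subgroupOf modelP.S).index = 2 := by
    have := (A.subgroupOf modelP.S).index_mul_card
    rw [Nat.card_congr (Subgroup.subgroupOfEquivOfLe hA).toEquiv, hc, modelP.card_S] at this
    omega
  set χ : P → Bool := fun x => decide (x ∉ A) with hχ
  have hmul : ∀ x ∈ modelP.S, ∀ y ∈ modelP.S, χ (x * y) = (χ x != χ y) := by
    intro x hx y hy
    have h := Subgroup.mul_mem_iff_of_index_two hidx (a := ⟨x, hx⟩) (b := ⟨y, hy⟩)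
    simp only [Subgroup.mem_subgroupOf, Subgroup.coe_mul] at h
    by_cases h1 : x ∈ A <;> by_cases h2 : y ∈ A <;> simp [hχ, h1, h2, h]
  obtain ⟨s, hs, hbit⟩ : ∃ s < 8, ∀ i < 3, sBit s i = χ (modelP.Φ (sylGens.getD i 0)) := by
    obtain ⟨e0, e1, e2⟩ := bits_chk (χ (modelP.Φ (sylGens.getD 0 0))) (χ (modelP.Φ (sylGens.getD 1 0)))
      (χ (modelP.Φ (sylGens.getD 2 0)))
    refine ⟨_, ?_, fun i hi => by interval_cases i <;> assumption⟩
    split_ifs <;> norm_num
  have hgen : ∀ i < 3, sylGens.getD i 0 < 1152 ∧ inS (sylGens.getD i 0) = true := fun i hi =>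
    syl_chk.2.2.2.1 _ (by
      rw [List.getD_eq_getElem _ _ (show i < sylGens.length from hi)]
      exact List.getElem_mem _)
  have hchi : ∀ k < 64, (chiList s).getD k false = χ (modelP.Φ (sylAll.getD k 0)) := by
    intro k
    induction k using Nat.strong_induction_on with
    | _ k ih =>
      intro hk
      cases k with
      | zero =>
        rw [(chi_chk s hs).1, show sylAll.getD 0 0 = 0 from rfl, modelP.one]
        simp [hχ, A.one_mem]
      | succ k =>
        obtain ⟨hp, hl, he⟩ := syl_chk.2.2.2.2 k (by omega)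
        obtain ⟨hgl, hgs⟩ := hgen _ hl
        rw [(chi_chk s hs).2 k (by omega), ih _ (by omega) (by omega), hbit _ hl,
          ← hmul _ (sylAll_mem_S _) _ ((modelP.mem_S_iff hgl).2 hgs),
          ← modelP.mul_eq _ _ (sylAll_lt _) hgl,
          (modelP.eq_iff _ _ (mul_lt (sylAll_lt _) _) (sylAll_lt _)).2 he]
  have hs0 : s ≠ 0 := by
    rintro rfl
    have hall : modelP.S ≤ A := fun x hx => by
      obtain ⟨k, hk, rfl⟩ := exists_sylAll hx
      have h0 : (chiList 0).getD k false = false :=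
        (show ∀ k < 64, (chiList 0).getD k false = false by decide +kernel) k hk
      rw [hchi k hk] at h0
      simpa [hχ] using h0
    have := Subgroup.card_le_of_le hall
    rw [hc, modelP.card_S] at this
    norm_num at this
  refine ⟨s, hs, hs0, fun x => ⟨fun hx => ?_, ?_⟩⟩
  · obtain ⟨k, hk, rfl⟩ := exists_sylAll (hA hx)
    refine ⟨_, List.mem_filterMap.2 ⟨k, List.mem_range.2 hk, ?_⟩, rfl⟩
    rw [hchi k hk, show χ (modelP.Φ (sylAll.getD k 0)) = false from decide_eq_false (not_not_intro hx)]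
    rfl
  · rintro ⟨n, hn, rfl⟩
    obtain ⟨k, hk, hkn⟩ := List.mem_filterMap.1 hn
    have hk64 := List.mem_range.1 hk
    rw [hchi k hk64] at hkn
    cases h : χ (modelP.Φ (sylAll.getD k 0))
    · rw [h] at hkn
      simp only [cond_false, Option.some.injEq] at hkn
      rw [← hkn]
      simpa [hχ] using h
    · rw [h] at hkn
      simp at hkn

theorem maxCodes_lt {s n : ℕ} (hn : n ∈ maxCodes s) : n < 1152 := by
  obtain ⟨k, -, hk⟩ := List.mem_filterMap.1 hn
  revert hk
  cases (chiList s).getD k false <;> simp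
  rintro rfl
  exact sylAll_lt k

theorem Φ_commC {a b : ℕ} (ha : a < 1152) (hb : b < 1152) :
    modelP.Φ (commC a b) = modelP.Φ a * modelP.Φ b * (modelP.Φ a)⁻¹ * (modelP.Φ b)⁻¹ := by
  have hlt := mul_lt (mul_lt ha b) (mul (inv a) (inv b))
  rw [commC, ← (modelP.eq_iff _ _ hlt (canon_spec hlt).2.1).2 (canon_spec hlt).1,
    modelP.mul_eq _ _ (mul_lt ha b) (mul_lt (inv_lt a) _), modelP.mul_eq _ _ ha hb,
    modelP.mul_eq _ _ (inv_lt a) (inv_lt b), modelP.map_inv ha, modelP.map_inv hb, mul_assoc _ (modelP.Φ a)⁻¹]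

theorem commC_canon {a b : ℕ} (ha : a < 1152) : commC a b < 1152 ∧ isCanon (commC a b) = true :=
  ⟨(canon_spec (mul_lt (mul_lt ha b) _)).2.1, (canon_spec (mul_lt (mul_lt ha b) _)).2.2⟩

theorem card_two {Q : Subgroup P} (hQ : IsPGroup 2 Q) : Nat.card Q ≤ 64 := by
  obtain ⟨k, hk⟩ := modelP.exists_conj_le_S hQ
  rw [← modelP.card_S, ← Subgroup.card_map_of_injective (K := Q)
    (f := (MulAut.conj k).toMonoidHom) (MulAut.conj k).injective]
  refine Subgroup.card_le_of_le ?_
  rintro _ ⟨x, hx, rfl⟩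
  exact hk x hx

/-- The centre of a 2-subgroup of order at least 32. -/
theorem card_centre_le {Q : Subgroup P} (hQ : IsPGroup 2 Q) (h32 : 32 ≤ Nat.card Q) {Z : Subgroup P}
    (hZ : Z ≤ Q) (hc : ∀ x ∈ Z, ∀ y ∈ Q, x * y = y * x) :
    Nat.card Z ≤ 4 ∧ (33 ≤ Nat.card Q → Nat.card Z ≤ 2) := by
  classical
  obtain ⟨k, hk⟩ := modelP.exists_conj_le_S hQ
  set f := (MulAut.conj k).toMonoidHom
  have hf : Function.Injective f := (MulAut.conj k).injective
  have hle : Q.map f ≤ modelP.S := by rintro _ ⟨x, hx, rfl⟩; exact hk x hx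
  have hcardQ : Nat.card (Q.map f) = Nat.card Q := Subgroup.card_map_of_injective hf
  have hcardZ : Nat.card (Z.map f) = Nat.card Z := Subgroup.card_map_of_injective hf
  have hc' : ∀ x ∈ Z.map f, ∀ y ∈ Q.map f, x * y = y * x := by
    rintro _ ⟨x, hx, rfl⟩ _ ⟨y, hy, rfl⟩
    rw [← map_mul, hc x hx y hy, map_mul]
  obtain ⟨j, hj⟩ := hQ.exists_card_eq
  have h64 := card_two hQ
  have hcases : Nat.card Q = 32 ∨ Nat.card Q = 64 := by
    rw [hj] at h32 h64 ⊢
    have h5 : 5 ≤ j := (Nat.pow_le_pow_iff_right (le_refl 2)).1 (by simpa using h32)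
    have h6 : j ≤ 6 := (Nat.pow_le_pow_iff_right (le_refl 2)).1 (by simpa using h64)
    interval_cases j <;> norm_num
  rcases hcases with hQc | hQc
  · refine ⟨?_, fun h => by omega⟩
    obtain ⟨s, hs, hs0, hmem⟩ := exists_max hle (hcardQ.trans hQc)
    set L := (maxCodes s).filter fun a => (maxCodes s).all fun b => com a b
    have hsub : ((Z.map f : Subgroup P) : Set P) ⊆ ↑(L.toFinset.image modelP.Φ) := by
      intro x hx
      obtain ⟨n, hn, rfl⟩ := (hmem x).1 (Subgroup.map_mono hZ hx)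
      simp only [Finset.coe_image, Set.mem_image, Finset.mem_coe, List.mem_toFinset]
      refine ⟨n, List.mem_filter.2 ⟨hn, List.all_eq_true.2 fun m hm => ?_⟩, rfl⟩
      exact (modelP.comm_iff (maxCodes_lt hn) (maxCodes_lt hm)).1 (hc' _ hx _ ((hmem _).2 ⟨m, hm, rfl⟩))
    have := Set.ncard_le_ncard hsub (Finset.finite_toSet _)
    rw [Set.ncard_coe_finset, ← Nat.card_coe_set_eq] at this
    change Nat.card (Z.map f) ≤ _ at this
    rw [hcardZ] at this
    exact this.trans (Finset.card_image_le.trans ((List.toFinset_card_le L).trans (centre_chk s hs hs0)))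
  · have hS : Q.map f = modelP.S :=
      Subgroup.eq_of_le_of_card_ge hle (by rw [modelP.card_S, hcardQ, hQc])
    have hsub : ((Z.map f : Subgroup P) : Set P) ⊆ {1, modelP.t} := by
      intro x hx
      rcases modelP.centre_S (hle (Subgroup.map_mono hZ hx)) fun y hy => hc' x hx y (hS ▸ hy) with h | h <;>
        simp [h]
    have h2 := Set.ncard_le_ncard hsub (Set.toFinite _)
    rw [← Nat.card_coe_set_eq] at h2
    change Nat.card (Z.map f) ≤ _ at h2
    rw [hcardZ] at h2
    have h3 : ({1, modelP.t} : Set P).ncard ≤ 2 := (Set.ncard_insert_le _ _).trans (by simp)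
    exact ⟨by omega, fun _ => by omega⟩

/-- A subgroup of order 32 with commutators in a subgroup of order two. -/
theorem isConj_of_derived {Q : Subgroup P} (hc : Nat.card Q = 32) {c : P} (hc1 : c ≠ 1)
    (hd : ∀ x ∈ Q, ∀ y ∈ Q, x * y * x⁻¹ * y⁻¹ = 1 ∨ x * y * x⁻¹ * y⁻¹ = c) : IsConj (wP wt) c := by
  classical
  have hQ : IsPGroup 2 Q := IsPGroup.of_card (n := 5) (by rw [hc]; norm_num)
  obtain ⟨k, hk⟩ := modelP.exists_conj_le_S hQ
  set f := (MulAut.conj k).toMonoidHom
  have hle : Q.map f ≤ modelP.S := by rintro _ ⟨x, hx, rfl⟩; exact hk x hx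
  obtain ⟨s, hs, hs0, hmem⟩ := exists_max hle
    ((Subgroup.card_map_of_injective (MulAut.conj k).injective).trans hc)
  have hval : ∀ a ∈ maxCodes s, ∀ b ∈ maxCodes s,
      modelP.Φ (commC a b) = 1 ∨ modelP.Φ (commC a b) = f c := by
    intro a ha b hb
    obtain ⟨x, hx, hxa⟩ := (hmem _).2 ⟨a, ha, rfl⟩
    obtain ⟨y, hy, hyb⟩ := (hmem _).2 ⟨b, hb, rfl⟩
    rw [Φ_commC (maxCodes_lt ha) (maxCodes_lt hb), ← hxa, ← hyb, ← map_inv, ← map_inv, ← map_mul,
      ← map_mul, ← map_mul]
    rcases hd x hx y hy with e | e <;> rw [e]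
    · exact Or.inl (map_one f)
    · exact Or.inr rfl
  have hne : ∀ {a b}, a ∈ maxCodes s → commC a b ≠ 0 → modelP.Φ (commC a b) ≠ 1 := by
    intro a b ha h e
    have hlt := commC_canon (b := b) (maxCodes_lt ha)
    exact h (eq_of_eqc hlt.1 hlt.2 (by decide +kernel) ((modelP.eq_one_iff hlt.1).1 e))
  rcases derived_chk s hs hs0 with h | ⟨a, ha, b, hb, a', ha', b', hb', h1, h2, h3⟩
  · -- some commutator is not trivial
    have hnab : ∃ a ∈ maxCodes s, ∃ b ∈ maxCodes s, commC a b ≠ 0 := by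
      by_contra! hab
      have hcomm : ∀ x ∈ Q.map f, ∀ y ∈ Q.map f, x * y = y * x := by
        intro x hx y hy
        obtain ⟨a, ha, rfl⟩ := (hmem x).1 hx
        obtain ⟨b, hb, rfl⟩ := (hmem y).1 hy
        have := Φ_commC (maxCodes_lt ha) (maxCodes_lt hb)
        rw [hab a ha b hb, modelP.one] at this
        exact mul_inv_eq_iff_eq_mul.1 (mul_inv_eq_one.1 this.symm)
      have h4 := (card_centre_le (hQ.map f) (by
        rw [Subgroup.card_map_of_injective (MulAut.conj k).injective, hc]) le_rfl hcomm).1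
      rw [Subgroup.card_map_of_injective (MulAut.conj k).injective, hc] at h4
      norm_num at h4
    obtain ⟨a, ha, b, hb, hab⟩ := hnab
    have h01 := List.all_eq_true.1 (List.all_eq_true.1 h a ha) b hb
    simp only [Bool.or_eq_true, beq_iff_eq] at h01
    have hfc : modelP.t = f c := by
      rw [← (hval a ha b hb).resolve_left (hne ha hab), h01.resolve_left hab]
      rfl
    rw [← t_eq, hfc]
    exact (isConj_iff.2 ⟨k, rfl⟩).symm
  · exfalso
    have e1 := (hval a ha b hb).resolve_left (hne ha h1)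
    have e2 := (hval a' ha' b' hb').resolve_left (hne ha' h2)
    have hl := commC_canon (b := b) (maxCodes_lt ha)
    have hl' := commC_canon (b := b') (maxCodes_lt ha')
    exact h3 (eq_of_eqc hl.1 hl.2 hl'.2 ((modelP.eq_iff _ _ hl.1 hl'.1).1 (e1.trans e2.symm)))

end CfsgLib.USixRec
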