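import Cfsg.Agent.USixRec.Model
import Cfsg.Agent.USixRec.DataSing

/-!
# Singular vectors of the three modules and the singular subspaces through them

For each representative `v`, the singular vectors `u ⊥ v` whose orbit under the stabiliser spans with
`v` a totally singular subspace are few, except for the natural module, where that span contains `ω v`.
-/

set_option autoImplicit false
set_option maxRecDepth 100000
set_option synthInstance.maxSize 100000

namespace CfsgLib.USixRec

open CfsgLib.ExtraNine (app spanList spanList_induction)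

/-- The data of the singular vectors. -/
def singOrb (K : Kind) : List (ℕ × ℕ × List ℕ) :=
  bif K.mats == matsA then orbA else bif K.c == 0 then orbP else orbM

/-- The stabiliser words. -/
def singStb (K : Kind) : List (ℕ × List (List ℕ)) :=
  bif K.mats == matsA then stbA else bif K.c == 0 then stbP else stbM

/-- Scalar multiplication by a primitive cube root of one on the natural module. -/
def wMat : List ℕ := [2, 3, 8, 12, 32, 48, 128, 192]

/-- Two orbit words with non-orthogonal images. -/
def singWit (K : Kind) : List (ℕ × List (ℕ × List ℕ × List ℕ)) :=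
  bif K.mats == matsA then witA else bif K.c == 0 then witP else witM

/-- The remaining vectors. -/
def singKept (K : Kind) : List (ℕ × List ℕ) :=
  bif K.mats == matsA then keptA else bif K.c == 0 then keptP else keptM

/-- The stabiliser words at the `i`-th representative. -/
def stAt (K : Kind) (i : ℕ) : List (List ℕ) := ((singStb K).getD i (0, [])).2

/-- The `i`-th representative. -/
def repAt (K : Kind) (i : ℕ) : ℕ := ((singStb K).getD i (0, [])).1

/-- A product of stabiliser words from indices. -/
def stWord (K : Kind) (i : ℕ) (l : List ℕ) : List ℕ := l.flatMap fun j => (stAt K i).getD j []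

theorem orb_chk : ∀ K ∈ [kA, kP, kM],
    (∀ p ∈ singOrb K, K.ev p.2.2 p.1 = p.2.1 ∧ (∀ k ∈ p.2.2, k < 6) ∧ p.1 < 256 ∧
      ∃ i < (singStb K).length, repAt K i = p.1) ∧
    ((List.range 256).all fun n => decide (n = 0 ∨ qF K.c n = 1) ||
      ((singOrb K).map fun p => p.2.1).contains n) = true ∧
    (∀ i < (singStb K).length, ∀ w ∈ stAt K i, K.ev w (repAt K i) = repAt K i ∧ ∀ k ∈ w, k < 6) := by
  decide +kernel

theorem wit_chk : ∀ K ∈ [kA, kP, kM], ∀ i < (singStb K).length,
    ∀ e ∈ ((singWit K).getD i (0, [])).2,
      bF (K.ev (stWord K i e.2.1) e.1) (K.ev (stWord K i e.2.2) e.1) = 1 := by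
  decide +kernel

theorem cover_chk : ∀ K ∈ [kA, kP, kM], ∀ i < (singStb K).length,
    ((List.range 256).all fun u => !(decide (qF K.c u = 0 ∧ bF u (repAt K i) = 0)) ||
      ((singKept K).getD i (0, [])).2.contains u ||
      (((singWit K).getD i (0, [])).2.map fun e => e.1).contains u) = true := by
  decide +kernel

theorem kept_chk : (∀ K ∈ [kP, kM], ∀ i < (singStb K).length,
    ((singKept K).getD i (0, [])).2.length < 8) ∧ (singStb kA).length = 1 ∧ repAt kA 0 = 5 ∧
    ∀ u ∈ ((singKept kA).getD 0 (0, [])).2, u = 0 ∨ u = 5 ∨ u = 10 ∨ u = 15 ∨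
      ∃ e ∈ spanA, e.1 = u ∧ ((e.2.1.map fun l => kA.ev (stWord kA 0 l) u).foldl Nat.xor 0 =
        bif Nat.beq e.2.2 0 then 10 else 15) := by
  decide +kernel

theorem wMat_chk : (∀ k < 6, ∀ n < 256, app (matsA.getD k []) (app wMat n) = app wMat (app (matsA.getD k []) n)) ∧
    app wMat 5 = 10 ∧ (∀ n < 256, app wMat n < 256) ∧ app wMat 10 = 15 := by decide +kernel

/-- Multiplication by the cube root of one commutes with every word. -/
theorem ev_wMat : ∀ w : List ℕ, (∀ k ∈ w, k < 6) → ∀ n < 256, kA.ev w (app wMat n) = app wMat (kA.ev w n)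
  | [], _, _, _ => rfl
  | k :: w, hw, n, hn => by
    show app (matsA.getD k []) (mev matsA w (app wMat n)) = app wMat (app (matsA.getD k []) (mev matsA w n))
    have ih := ev_wMat w (fun j hj => hw j (List.mem_cons_of_mem _ hj)) n hn
    rw [show mev matsA w (app wMat n) = app wMat (mev matsA w n) from ih]
    exact wMat_chk.1 k (hw k List.mem_cons_self) _ (mev_lt (mats_chk matsA (by simp)) w hn)

end CfsgLib.USixRec
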