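import Cfsg.Agent.USixRec.FrameExist
import Cfsg.Agent.USixRec.Pairs
import Cfsg.Agent.USixRec.Sing

/-!
# No other conjugate of the central involution lies in `J`

For a conjugate `s ≠ z` inside `Q` the image of `Q ∩ gQg⁻¹` is a singular subspace through `s̄` of
order at least eight, invariant under the stabiliser of `s̄`; the certificates leave room for such a
subspace only on the natural module, where it contains `ω s̄`, and then a transvection of the second
extraspecial group is not linear.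
-/

set_option autoImplicit false
set_option maxRecDepth 100000
set_option linter.style.haveILetI false

open CfsgLib.LargeExtraspecial CfsgLib.SpFourThree70

namespace CfsgLib.USixRec

open CfsgLib.ExtraNine (app)

universe u

/-! ### Coordinates -/

namespace Frame

variable {G : Type u} [Group G] {S : Shape G} (F : Frame S)

theorem K_mem : F.K ∈ [kA, kP, kM] := by
  rcases F.kind with h | h | h <;> simp [h]

theorem mats_mem : F.K.mats ∈ [matsA, matsB] := by
  rcases F.kind with h | h | h <;> simp [h, kA, kP, kM]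

theorem ev_lt (w : List ℕ) {n : ℕ} (hn : n < 256) : F.K.ev w n < 256 :=
  mev_lt (mats_chk _ F.mats_mem) w hn

theorem act_psi {w : List ℕ} (hw : ∀ k ∈ w, k < 6) (n : ℕ) :
    S.act (wP w) (psi F.e n) = psi F.e (F.K.ev w n) :=
  wa_psi F.ok w hw n

theorem exists_ev (σ : P) : ∃ w : List ℕ, (∀ k ∈ w, k < 6) ∧ wP w = σ ∧
    ∀ n, S.act σ (psi F.e n) = psi F.e (F.K.ev w n) := by
  obtain ⟨w, hw, rfl⟩ := exists_word σ
  exact ⟨w, hw, rfl, F.act_psi hw⟩

theorem heq {a b : ℕ} (ha : a < 256) (hb : b < 256) (h : psi F.e a = psi F.e b) : a = b := by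
  have h0 : a ^^^ b = 0 := F.inj _ (Nat.xor_lt_two_pow (n := 8) ha hb) (by
    rw [psi_xor, h, Shape.add_self'])
  exact Nat.xor_eq_zero_iff.1 h0

theorem B_psi {a b : ℕ} (ha : a < 256) (hb : b < 256) : S.B (psi F.e a) (psi F.e b) = bF a b := by
  rw [Shape.B, ← psi_xor, F.q_psi _ (Nat.xor_lt_two_pow (n := 8) ha hb), F.q_psi a ha, F.q_psi b hb,
    qF_xor]
  generalize qF F.K.c a = x
  generalize qF F.K.c b = y
  generalize bF a b = c
  revert x y c
  decide

end Frame

/-! ### Certificates -/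

theorem stWord_eq (K : Kind) (i : ℕ) (l : List ℕ) : stWord K i l = selW (stAt K i) l := rfl

theorem stWord_lt {K : Kind} {i : ℕ} (h : ∀ w ∈ stAt K i, ∀ k ∈ w, k < 6) (l : List ℕ) :
    ∀ k ∈ stWord K i l, k < 6 := by
  intro k hk
  obtain ⟨j, -, hj⟩ := List.mem_flatMap.1 hk
  by_cases hlt : j < (stAt K i).length
  · rw [List.getD_eq_getElem _ _ hlt] at hj
    exact h _ (List.getElem_mem hlt) k hj
  · rw [List.getD_eq_default _ _ (not_lt.1 hlt)] at hj
    exact absurd hj List.not_mem_nil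

theorem rep_chk : ∀ K ∈ [kA, kP, kM], ∀ i < (singStb K).length, repAt K i < 256 := by decide +kernel

theorem small_chk : app wMat 5 = 10 ∧ (15 : ℕ) = 5 ^^^ 10 ∧ (10 : ℕ) = 5 ^^^ 15 := by decide +kernel

namespace Pair

variable {G : Type u} [Group G] {S : Shape G} [Finite G] (p : Pair S)

theorem isPGroup_A : IsPGroup 2 ↥p.A := fun a => ⟨1, by
  apply Subtype.ext
  simpa [sq] using p.A_sq a a.2⟩

theorem card_A_le : Nat.card p.A ≤ 16 := by
  obtain ⟨j, hj⟩ := p.isPGroup_A.exists_card_eq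
  by_contra h
  rw [hj] at h
  have h5 : 2 ^ 5 ≤ 2 ^ j := Nat.pow_le_pow_right (by norm_num) <| by
    by_contra h'
    exact h ((Nat.pow_le_pow_right (by norm_num) (show j ≤ 4 by omega)).trans (by norm_num))
  have h4 := (card_centre_le p.isPGroup_A (by rw [hj]; simpa using h5) le_rfl p.A_comm).1
  rw [hj] at h4
  norm_num at h5
  omega

theorem card_Eb_ge : 8 ≤ Nat.card p.Eb := by
  have h1 := p.card_mul
  have h2 := p.card_A_le
  by_contra h
  nlinarith [Nat.mul_le_mul (show Nat.card p.Eb ≤ 7 by omega) h2]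

variable (F : Frame S)

/-- Inside the singular subspace only the remaining vectors occur. -/
theorem mem_kept {i : ℕ} (hi : i < (singStb F.K).length)
    (hs : S.pr p.s = psi F.e (repAt F.K i)) {u : ℕ} (hu : u < 256) (hmem : psi F.e u ∈ p.Eb) :
    u ∈ ((singKept F.K).getD i (0, [])).2 := by
  obtain ⟨n, hn, hns⟩ := F.surj (S.pr p.s)
  have hrep : repAt F.K i < 256 := rep_chk F.K F.K_mem i hi
  have hq : qF F.K.c u = 0 := by rw [← F.q_psi u hu]; exact p.q_Eb hmem
  have hb : bF u (repAt F.K i) = 0 := by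
    rw [← F.B_psi hu hrep, ← hs]
    exact p.B_Eb hmem p.s_mem_Eb
  have hc := List.all_eq_true.1 (cover_chk F.K F.K_mem i hi) u (List.mem_range.2 hu)
  rw [decide_eq_true (⟨hq, hb⟩ : qF F.K.c u = 0 ∧ bF u (repAt F.K i) = 0)] at hc
  simp only [Bool.not_true, Bool.false_or, Bool.or_eq_true, List.contains_iff_mem] at hc
  refine hc.resolve_right fun hw => ?_
  obtain ⟨e, he, rfl⟩ := List.mem_map.1 hw
  have hst := (orb_chk F.K F.K_mem).2.2 i hi
  have hlt := fun l => stWord_lt (fun w hw k hk => (hst w hw).2 k hk) (K := F.K) (i := i) l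
  have hEb : ∀ l, psi F.e (F.K.ev (stWord F.K i l) e.1) ∈ p.Eb := by
    intro l
    rw [← F.act_psi (hlt l)]
    refine p.Eb_act ?_ hmem
    rw [hs]
    exact wa_selW (S := S) (fun w hw => by
      rw [wa, F.act_psi (hst w hw).2, (hst w hw).1]) l
  have h0 := p.B_Eb (hEb e.2.1) (hEb e.2.2)
  rw [F.B_psi (F.ev_lt _ hu) (F.ev_lt _ hu), wit_chk F.K F.K_mem i hi e he] at h0
  exact one_ne_zero h0

/-- A subgroup contains the sum of a list of its elements. -/
theorem foldl_xor_mem : ∀ (l : List ℕ) (acc : ℕ), psi F.e acc ∈ p.Eb → (∀ a ∈ l, psi F.e a ∈ p.Eb) →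
    psi F.e (l.foldl Nat.xor acc) ∈ p.Eb
  | [], _, h, _ => h
  | a :: l, acc, h, hl => by
    refine foldl_xor_mem l _ ?_ fun b hb => hl b (List.mem_cons_of_mem _ hb)
    show psi F.e (acc ^^^ a) ∈ p.Eb
    rw [psi_xor]
    exact add_mem h (hl a List.mem_cons_self)

theorem false_of_rep {i : ℕ} (hi : i < (singStb F.K).length)
    (hs : S.pr p.s = psi F.e (repAt F.K i)) : False := by
  classical
  have hinj : ∀ v : p.Eb, ∃ u ∈ ((singKept F.K).getD i (0, [])).2, psi F.e u = v := fun v => by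
    obtain ⟨u, hu, hv⟩ := F.surj v
    exact ⟨u, p.mem_kept F hi hs hu (hv ▸ v.2), hv⟩
  choose f hf hfv using hinj
  have hfi : Function.Injective f := fun v w e => Subtype.ext (by rw [← hfv v, ← hfv w, e])
  have h8 := p.card_Eb_ge
  have hsub : ∀ L : List ℕ, (∀ v, f v ∈ L) → Nat.card p.Eb ≤ L.length := by
    intro L hL
    refine (Nat.card_le_card_of_injective (fun v => (⟨f v, List.mem_toFinset.2 (hL v)⟩ : L.toFinset))
      fun v w e => hfi (congrArg Subtype.val e)).trans ?_
    rw [Nat.card_eq_finsetCard]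
    exact List.toFinset_card_le L
  by_cases hK : F.K = kA
  swap
  · have := (kept_chk.1 F.K (by rcases F.kind with h | h | h <;> simp [h] at hK ⊢) i hi)
    have := hsub _ hf
    omega
  obtain ⟨hlen, hrep5, hspan⟩ := kept_chk.2
  rw [hK] at hi hs hf
  obtain rfl : i = 0 := by rw [hlen] at hi; omega
  rw [hrep5] at hs
  -- a vector outside the four multiples of the first one
  obtain ⟨v, hv⟩ : ∃ v, f v ∉ [0, 5, 10, 15] := by
    by_contra! h
    have := hsub _ h
    simp at this
    omega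
  obtain ⟨e, he, heu, hfold⟩ : ∃ e ∈ spanA, e.1 = f v ∧
      ((e.2.1.map fun l => kA.ev (stWord kA 0 l) (f v)).foldl Nat.xor 0 =
        bif Nat.beq e.2.2 0 then 10 else 15) := by
    simp only [List.mem_cons, List.not_mem_nil, or_false, not_or] at hv
    rcases hspan _ (hf v) with h | h | h | h | h
    exacts [absurd h hv.1, absurd h hv.2.1, absurd h hv.2.2.1, absurd h hv.2.2.2, h]
  have hst : ∀ w ∈ stAt kA 0, kA.ev w 5 = 5 ∧ ∀ k ∈ w, k < 6 := fun w hw => by
    simpa [hrep5] using (orb_chk kA (by simp)).2.2 0 (by rw [hlen]; norm_num) w hw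
  have hev : ∀ {w : List ℕ}, (∀ k ∈ w, k < 6) → ∀ n, S.act (wP w) (psi F.e n) = psi F.e (kA.ev w n) :=
    fun {w} hw n => by rw [F.act_psi hw, hK]
  have h10 : psi F.e 10 ∈ p.Eb := by
    have hsum := p.foldl_xor_mem F (e.2.1.map fun l => kA.ev (stWord kA 0 l) (f v)) 0
      (by rw [psi_zero]; exact zero_mem _) (by
        intro a ha
        obtain ⟨l, -, rfl⟩ := List.mem_map.1 ha
        rw [← hev (stWord_lt (fun w hw k hk => (hst w hw).2 k hk) l)]
        refine p.Eb_act ?_ (hfv v ▸ v.2)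
        rw [hs]
        exact wa_selW (S := S) (fun w hw => by rw [wa, hev (hst w hw).2, (hst w hw).1]) l)
    rw [hfold] at hsum
    cases hb : Nat.beq e.2.2 0 <;> rw [hb] at hsum <;> simp only [cond_false, cond_true] at hsum
    · rw [small_chk.2.2, psi_xor]
      exact add_mem (hs ▸ p.s_mem_Eb) hsum
    · exact hsum
  -- an element of the second group moving it
  obtain ⟨x, ⟨hxQ, hxT⟩, hx⟩ := h10
  have hsub' := p.data.subP
  have hne : x ≠ 1 ∧ x ≠ p.s ∧ x ≠ S.z ∧ x ≠ p.s * S.z := by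
    refine ⟨?_, ?_, ?_, ?_⟩ <;> intro e' <;> rw [e'] at hx
    · rw [Shape.pr_one] at hx
      exact absurd (F.inj 10 (by norm_num) hx.symm) (by norm_num)
    · exact absurd (F.heq (by norm_num) (by norm_num) (hs.symm.trans hx)) (by norm_num)
    · rw [Shape.pr_z] at hx
      exact absurd (F.inj 10 (by norm_num) hx.symm) (by norm_num)
    · rw [Shape.pr_mul p.s_mem S.sub.z_mem, Shape.pr_z, add_zero] at hx
      exact absurd (F.heq (by norm_num) (by norm_num) (hs.symm.trans hx)) (by norm_num)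
  obtain ⟨j, hj, hjz, hjx⟩ : ∃ j ∈ p.T, j * S.z = S.z * j ∧ j * x ≠ x * j := by
    by_contra! h
    rcases hsub'.mem_double_centralizer p.data.z_mem S.sub.ne_one p.ne.symm hxT h with r | r | r | r
    exacts [hne.1 r, hne.2.1 r, hne.2.2.1 r, hne.2.2.2 r]
  set m : ↥(Subgroup.centralizer ({S.z} : Set G)) := ⟨j, S.mem_C hjz⟩
  have hA : S.ρ m ∈ p.A := p.mem_A.2 ⟨m, hj, rfl⟩
  have hmove : S.act (S.ρ m) (psi F.e 10) = psi F.e 15 := by
    rw [← hx, Shape.act_pr m hxQ]
    show S.pr (j * x * j⁻¹) = _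
    rw [hsub'.conj_of_not_commute hj hxT hjx]
    show S.pr (p.s * x) = _
    rw [Shape.pr_mul p.s_mem hxQ, hs, hx, small_chk.2.1, psi_xor]
  have hfix : S.act (S.ρ m) (psi F.e 5) = psi F.e 5 := by rw [← hs]; exact p.act_A_s hA
  obtain ⟨w, hw, hwσ, hev'⟩ := F.exists_ev (S.ρ m)
  rw [hev', hK] at hfix hmove
  have e5 := F.heq (mev_lt (mats_chk _ (by simp [kA])) w (by norm_num)) (by norm_num) hfix
  have e10 : kA.ev w 10 = 10 := by
    rw [← small_chk.1, ev_wMat w hw 5 (by norm_num)]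
    exact congrArg (app wMat) e5
  rw [e10] at hmove
  exact absurd (F.heq (by norm_num) (by norm_num) hmove) (by norm_num)

end Pair

namespace Shape

variable {G : Type u} [Group G] {S : Shape G} [Finite G]

/-- The involution is the only one of its conjugates in `J`. -/
theorem eq_z_of_mem (F : Frame S) {g : G} (hg : g * S.z * g⁻¹ ∈ S.Q) : g * S.z * g⁻¹ = S.z := by
  by_contra hne
  let p : Pair S := ⟨g, hg, hne⟩
  obtain ⟨n, hn, hns⟩ := F.surj (S.pr p.s)
  have hq : qF F.K.c n = 0 := by rw [← F.q_psi n hn, hns]; exact p.q_s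
  have hn0 : n ≠ 0 := fun h => p.pr_s_ne (by rw [← hns, h, psi_zero])
  obtain ⟨horb, hcov, -⟩ := orb_chk F.K F.K_mem
  have hc := List.all_eq_true.1 hcov n (List.mem_range.2 hn)
  rw [decide_eq_false (show ¬ (n = 0 ∨ qF F.K.c n = 1) from fun h => h.elim hn0 fun h' => by
    rw [hq] at h'; exact zero_ne_one h')] at hc
  simp only [Bool.false_or, List.contains_iff_mem, List.mem_map] at hc
  obtain ⟨e, he, rfl⟩ := hc
  obtain ⟨hev, hw, hlt, i, hi, hrep⟩ := horb e he
  obtain ⟨m, hm⟩ := S.ρ_surj (wP e.2.2)⁻¹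
  refine Pair.false_of_rep (p.conj m) F hi ?_
  rw [p.conj_s m, ← act_pr m p.s_mem, hm, ← hns, ← hev, ← F.act_psi hw, act_inv_act, hrep]

end Shape

end CfsgLib.USixRec
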