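import Cfsg.Agent.SporFischer.Component

/-!
# What the component argument uses about `2^{1+8}.PSp₄(3)` and the conjugates commuting with its centre
-/

set_option autoImplicit false

namespace CfsgLib.USixRec

open Cfsg CfsgLib.FischerTypes CfsgLib.SporFischer

/-- An involution, its centralizer and the 180 conjugates commuting with it. -/
structure LocalU {G : Type*} [Group G] (d : G) : Prop where
  sq : d * d = 1
  ne : d ≠ 1
  perfect : commutator ↥(Subgroup.centralizer ({d} : Set G)) = ⊤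
  gen : Subgroup.centralizer ({d} : Set G) = Subgroup.closure (nbr (conjugatesOf d) d)
  zc : ∀ z ∈ Subgroup.centralizer ({d} : Set G),
    (∀ g ∈ Subgroup.centralizer ({d} : Set G), Commute z g) → z = 1 ∨ z = d
  solv : ∀ N : Subgroup ↥(Subgroup.centralizer ({d} : Set G)), N.Normal → Group.IsSolvable ↥N →
    N = ⊥ ∨ ∃ h : d ∈ Subgroup.centralizer ({d} : Set G), (⟨d, h⟩ : ↥(Subgroup.centralizer ({d} : Set G))) ∈ N
  core : ¬ Cfsg.pCore 2 ↥(Subgroup.centralizer ({d} : Set G)) ≤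
    Subgroup.center ↥(Subgroup.centralizer ({d} : Set G))
  braid : ∀ x ∈ nbr (conjugatesOf d) d, ∀ y ∈ nbr (conjugatesOf d) d, ¬ Commute x y → x * y * x = y * x * y
  hconj : ∀ x ∈ nbr (conjugatesOf d) d, ∀ y ∈ nbr (conjugatesOf d) d,
    ∃ c ∈ Subgroup.centralizer ({d} : Set G), c * x * c⁻¹ = y
  two : ∀ b ∈ nbr (conjugatesOf d) d, ∃ c ∈ nbr (conjugatesOf d) d, c ≠ b ∧ Commute b c
  conn : ∀ b ∈ nbr (conjugatesOf d) d, ∀ c ∈ nbr (conjugatesOf d) d,
    Relation.ReflTransGen (NbrAdj (conjugatesOf d) d) b c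
  noncomm : ∃ x ∈ nbr (conjugatesOf d) d, ∃ y ∈ nbr (conjugatesOf d) d, ¬ Commute x y
  no_odd : ∀ b ∈ nbr (conjugatesOf d) d, ∀ M : Subgroup G, Odd (Nat.card M) →
    M ≤ Subgroup.centralizer ({d, b} : Set G) →
    (∀ g ∈ Subgroup.centralizer ({d, b} : Set G), ∀ l ∈ M, g * l * g⁻¹ ∈ M) → M = ⊥
  valency : (nbr (conjugatesOf d) d).ncard = 180
  step : ∀ v y, v ∈ Geom22.ball (conjugatesOf d) d → y ∈ nbr (conjugatesOf d) v →
    y ∈ Geom22.ball (conjugatesOf d) d

end CfsgLib.USixRec
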