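import Cfsg.Agent.USixRec.LocalStep
import Cfsg.Agent.USixRec.LocalDef

/-!
# The local facts about an involution with centralizer `2^{1+8}.PSp₄(3)`

As soon as one conjugate of `z` other than `z` commutes with it, the interface `LocalU` holds.
-/

set_option autoImplicit false

open CfsgLib.LargeExtraspecial CfsgLib.SpFourThree70 CfsgLib.SporFischer
open scoped commutatorElement

namespace CfsgLib.USixRec

universe u

variable {G : Type u} [Group G] {S : Shape G} [Finite G]

theorem Out.gen (o : Out S) : Subgroup.centralizer ({S.z} : Set G) =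
    Subgroup.closure (nbr (conjugatesOf S.z) S.z) := by
  set C := Subgroup.centralizer ({S.z} : Set G)
  set N := Subgroup.closure (nbr (conjugatesOf S.z) S.z)
  have hle : N ≤ C := (Subgroup.closure_le _).2 fun x hx => S.mem_C hx.2.2.eq.symm
  have hmem : ∀ o' : Out S, o'.tC ∈ N.subgroupOf C := fun o' => Subgroup.subset_closure o'.t_mem_nbr
  have htop : N.subgroupOf C = ⊤ := by
    refine o.top_of_r _ ?_ fun o' y hy => ?_
    · set R := (N.subgroupOf C).map S.ρ
      have htr : ∀ σ, IsConj (wP wt) σ → σ ∈ R := fun σ hσ => by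
        obtain ⟨o', rfl⟩ := o.exists_of_tr hσ
        exact ⟨o'.tC, hmem o', rfl⟩
      set R₀ := Subgroup.closure {σ : P | IsConj (wP wt) σ}
      have hsub : R₀ ≤ R := (Subgroup.closure_le _).2 htr
      have hn : R₀.Normal := ⟨fun x hx a => by
        have h : R₀.map (MulAut.conj a).toMonoidHom ≤ R₀ := by
          rw [MonoidHom.map_closure, Subgroup.closure_le]
          rintro _ ⟨s, hs, rfl⟩
          exact Subgroup.subset_closure (hs.trans (isConj_iff.2 ⟨a, rfl⟩))
        exact h ⟨x, hx, rfl⟩⟩
      refine eq_top_iff.2 (le_trans (le_of_eq ?_) hsub)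
      refine ((bot_or_top_P hn).resolve_left fun h => ?_).symm
      have hmemτ : o.τ ∈ R₀ := Subgroup.subset_closure o.trans.1
      rw [h, Subgroup.mem_bot] at hmemτ
      exact o.τ_ne hmemτ
    · obtain ⟨o'', ho''⟩ := o'.exists_conjQ hy
      refine ⟨o'.tC * o''.tC, mul_mem (hmem o') (hmem o''), ?_⟩
      show o'.t * o''.t = _
      rw [ho'', ← mul_assoc, o'.t_sq, one_mul]
  refine le_antisymm (fun x hx => ?_) hle
  have h : (⟨x, hx⟩ : C) ∈ N.subgroupOf C := htop ▸ Subgroup.mem_top _
  exact h

/-- The interface for the component argument. -/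
theorem Shape.localU (S : Shape G) (o : Out S) : LocalU S.z where
  sq := S.sub.mul_self
  ne := S.sub.ne_one
  perfect := o.perfect
  gen := o.gen
  zc := o.zc
  solv := o.solv
  core := o.core
  braid := fun x hx y hy hxy => by
    obtain ⟨a, rfl⟩ := Out.exists_of_nbr hx
    obtain ⟨b, rfl⟩ := Out.exists_of_nbr hy
    exact Out.braid_of_not_comm a b fun h => hxy (Out.commute_of_τ_comm a b h)
  hconj := fun x hx y hy => by
    obtain ⟨a, rfl⟩ := Out.exists_of_nbr hx
    obtain ⟨b, rfl⟩ := Out.exists_of_nbr hy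
    exact a.conjugate b
  two := fun x hx => by
    obtain ⟨a, rfl⟩ := Out.exists_of_nbr hx
    obtain ⟨b, h1, h2⟩ := a.exists_other
    exact ⟨b.t, b.t_mem_nbr, h1, h2⟩
  conn := fun x hx y hy => by
    obtain ⟨a, rfl⟩ := Out.exists_of_nbr hx
    obtain ⟨b, rfl⟩ := Out.exists_of_nbr hy
    exact a.reachable b
  noncomm := by
    obtain ⟨a, b, h⟩ := o.exists_noncommuting
    exact ⟨a.t, a.t_mem_nbr, b.t, b.t_mem_nbr, h⟩
  no_odd := fun x hx M hodd hM hn => by
    obtain ⟨a, rfl⟩ := Out.exists_of_nbr hx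
    exact a.no_odd hodd hM hn
  valency := o.valency
  step := Out.step

end CfsgLib.USixRec
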