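import Cfsg.Agent.USixRec.OutCert
import Cfsg.Agent.USixRec.DataLocal

/-!
# Certificates on pairs of transvections
-/

set_option autoImplicit false
set_option maxRecDepth 100000
set_option synthInstance.maxSize 100000
set_option synthInstance.maxHeartbeats 400000

namespace CfsgLib.USixRec

open CfsgLib.ExtraNine (app spanList)

/-- The vectors `p + τ p` of the `j`-th transvection on the natural module. -/
def imgW (j p : ℕ) : ℕ := kA.ev (trWord j) p ^^^ p

theorem zero_W_chk : key (trWord 0) = key wt ∧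
    (∀ p < 256, kA.ev wt p ^^^ p = imgW 0 p) := by decide +kernel

theorem class_chk : ∀ j < 45, j = 0 ∨ j ∈ adjL.map (fun e => e.1) ∨
    (j ∈ nonL.map (fun e => e.1) ∧
      ∃ i < 8, kA.ev (trWord j ++ wt) (2 ^ i) ≠ kA.ev (wt ++ trWord j) (2 ^ i)) := by
  decide +kernel

theorem adj_chk : ∀ e ∈ adjL, e.1 < 45 ∧ (∃ i < 8, kA.ev (trWord e.1) (2 ^ i) ≠ kA.ev wt (2 ^ i)) ∧
    key (trWord e.1 ++ wt) = key (wt ++ trWord e.1) ∧
    (∀ k ∈ e.2, k < 6) ∧ key (e.2 ++ wt) = key (wt ++ e.2) ∧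
    key (e.2 ++ trWord e.1) = key (trWord e.1 ++ e.2) ∧
    (∀ a ∈ datAT.2.1, a = 0 ∨ kA.ev e.2 a ≠ a) ∧
    ((List.range 256).all fun p => decide (kA.ev wt (imgW e.1 p) = imgW e.1 p) &&
      (!datAT.2.1.contains (imgW e.1 p) || imgW e.1 p == 0)) = true := by
  decide +kernel

theorem non_chk : ∀ e ∈ nonL, e.1 < 45 ∧ e.2.1 < 45 ∧
    key (wt ++ trWord e.1 ++ wt) = key (trWord e.2.1) ∧
    key (trWord e.1 ++ wt ++ trWord e.1) = key (trWord e.2.1) ∧
    ((List.range 256).all fun p => !decide (kA.ev wt (imgW e.2.1 p) = imgW e.2.1 p ∧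
      kA.ev (trWord e.1) (imgW e.2.1 p) = imgW e.2.1 p) || imgW e.2.1 p == 0) = true := by
  decide +kernel

theorem common_chk : ∀ e ∈ nonL, e.2.2.length = 3 ∧ e.2.2.Nodup ∧
    ∀ a ∈ e.2.2, a < 45 ∧ a ∈ adjL.map (fun e => e.1) ∧
      key (trWord a ++ trWord e.1) = key (trWord e.1 ++ trWord a) ∧
      ∀ b ∈ e.2.2, a = b ∨ ∃ i < 8, kA.ev (trWord a ++ trWord b) (2 ^ i) ≠ kA.ev (trWord b ++ trWord a) (2 ^ i) := by
  decide +kernel

theorem par_chk : ∀ j < 45, parL.getD j 0 < 45 ∧ parL.getD (parL.getD j 0) 0 ∈ [0, 14, 19, 25, 26, 28, 32, 37, 38, 39, 40, 43, 44] ∧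
    key (trWord j ++ trWord (parL.getD j 0)) = key (trWord (parL.getD j 0) ++ trWord j) ∧
    parL.getD (parL.getD (parL.getD j 0) 0) 0 = 0 := by
  decide +kernel

theorem span_chk : (∀ e ∈ spanL, e.1 < 45 ∧ ∃ p < 256, imgW e.1 p = e.2) ∧
    (List.range 256).all (fun n => (spanList (spanL.map fun e => e.2)).contains n) = true ∧
    ∃ a ∈ spanL.map (fun e => e.2), ∃ b ∈ spanL.map (fun e => e.2), bF a b = 1 := by
  decide +kernel

end CfsgLib.USixRec
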