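import Cfsg.Agent.USixRec.LocalGroup
import Cfsg.Agent.USixRec.DataEv
import Cfsg.Agent.SporFischer.Connected

/-!
# The conjugates of `z` commuting with `z`

They form 45 sets of four, one over each transvection; two are adjacent when their images commute, so
the graph is connected.
-/

set_option autoImplicit false
set_option maxRecDepth 100000
set_option linter.style.haveILetI false

open CfsgLib.LargeExtraspecial CfsgLib.SpFourThree70 CfsgLib.SporFischer

namespace CfsgLib.USixRec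

open CfsgLib.ExtraNine (app spanList)

universe u

theorem evL_chk : evL.length = 45 ∧ evL.Nodup ∧
    ∀ j < 45, ((List.range 8).map fun i => kA.ev (trWord j) (2 ^ i)) = evL.getD j [] := by
  decide +kernel

theorem imgT_chk : datAT.2.1.length = 4 ∧ datAT.2.1.Nodup := by decide +kernel

theorem trWord_inj {G : Type u} [Group G] [Finite G] {S : Shape G} (F : Frame S) (hK : F.K = kA)
    {i j : ℕ} (hi : i < 45) (hj : j < 45) (h : wP (trWord i) = wP (trWord j)) : i = j := by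
  have hl : ∀ n < 256, kA.ev (trWord i) n = kA.ev (trWord j) n := fun n hn => by
    by_contra hne
    exact Out.ne_of_ev F hK (trWord_lt i hi) (trWord_lt j hj) hn hne h
  have he : evL.getD i [] = evL.getD j [] := by
    rw [← evL_chk.2.2 i hi, ← evL_chk.2.2 j hj]
    exact List.map_congr_left fun k hk => hl _ (Out.two_pow_lt (List.mem_range.1 hk))
  rw [List.getD_eq_getElem _ _ (evL_chk.1.symm ▸ hi), List.getD_eq_getElem _ _ (evL_chk.1.symm ▸ hj)] at he
  exact (List.Nodup.getElem_inj_iff evL_chk.2.1).1 he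

namespace Out

variable {G : Type u} [Group G] {S : Shape G}

theorem t_mem_nbr (o : Out S) : o.t ∈ nbr (conjugatesOf S.z) S.z :=
  ⟨isConj_iff.2 ⟨o.g, rfl⟩, fun h => o.notMem (by rw [← t, h]; exact S.sub.z_mem),
    (show Commute o.t S.z from o.t_comm).symm⟩

variable [Finite G]

theorem exists_of_mem {x : G} (hc : IsConj S.z x) (hne : x ≠ S.z) (hcomm : Commute S.z x) :
    ∃ o : Out S, o.t = x := by
  obtain ⟨g, rfl⟩ := isConj_iff.1 hc
  obtain ⟨F⟩ := exists_frame S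
  exact ⟨⟨g, hcomm.symm.eq, fun h => hne (Shape.eq_z_of_mem F h)⟩, rfl⟩

theorem exists_of_nbr {x : G} (hx : x ∈ nbr (conjugatesOf S.z) S.z) : ∃ o : Out S, o.t = x :=
  exists_of_mem hx.1 hx.2.1 hx.2.2

theorem τ_eq_of_t_eq {o o' : Out S} (h : o.t = o'.t) : o.τ = o'.τ :=
  congrArg S.ρ (Subtype.ext h)

theorem τ_eq_of_mem {o o' : Out S} (h : o.t * o'.t ∈ S.Q) : o.τ = o'.τ := by
  have h1 : o.τ * o'.τ = 1 := by rw [τ, τ, ← map_mul]; exact (S.ρ_ker _).2 h
  rw [eq_inv_of_mul_eq_one_left h1, inv_eq_of_mul_eq_one_right o'.τ_sq]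

variable (o : Out S)

/-- The four values of `[t, ·]`. -/
theorem exists_four : ∃ f : Fin 4 → G, (∀ i, f i ∈ S.Q) ∧ Function.Injective (fun i => o.r (f i)) ∧
    ∀ y ∈ S.Q, ∃ i, o.r y = o.r (f i) := by
  obtain ⟨F⟩ := exists_frame S
  have hK := o.kind_eq F
  obtain ⟨n, hn⟩ := o.exists_normal o.trans.1
  set a := o.conjBy n
  obtain ⟨hlen, hnd⟩ := imgT_chk
  have hget : ∀ i : Fin 4, datAT.2.1.getD i 0 ∈ datAT.2.1 := fun i => by
    rw [List.getD_eq_getElem _ _ (by rw [hlen]; exact i.2)]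
    exact List.getElem_mem _
  have hW : ∀ i : Fin 4, ∃ y ∈ S.Q, S.pr (a.r y) = psi F.e (datAT.2.1.getD i 0) := fun i => by
    obtain ⟨-, -, p, hp, hpa⟩ := fixAT.2.2.2.1 _ (hget i)
    obtain ⟨y, hy, hyp⟩ := Shape.pr_surj (S := S) (psi F.e p)
    refine ⟨y, hy, ?_⟩
    rw [a.pr_r hy, hyp, a.act_ev F wt_lt hn.symm, ← psi_xor, hK, hpa]
  choose y hy hyr using hW
  have hback : ∀ i, a.r (y i) = (n : G) * o.r ((n : G)⁻¹ * y i * n) * (n : G)⁻¹ := fun i => by
    rw [← o.conjBy_r n]; congr 1; group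
  refine ⟨fun i => (n : G)⁻¹ * y i * n, fun i => by
    simpa using S.conj_mem' n⁻¹ (hy i), fun i j h => ?_, fun x hx => ?_⟩
  · simp only at h
    have h' : a.r (y i) = a.r (y j) := by rw [hback, hback, h]
    have h2 := congrArg S.pr h'
    rw [hyr, hyr] at h2
    have h3 := F.heq (fixAT.2.2.2.1 _ (hget i)).1 (fixAT.2.2.2.1 _ (hget j)).1 h2
    rw [List.getD_eq_getElem _ _ (by rw [hlen]; exact i.2), List.getD_eq_getElem _ _ (by rw [hlen]; exact j.2),
      List.Nodup.getElem_inj_iff hnd] at h3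
    exact Fin.ext h3
  · have hx' := S.conj_mem' n hx
    obtain ⟨p, hp, hpr⟩ := a.exists_imgW F hK (j := 0) (by norm_num)
      ((wP_eq zero_W_chk.1).trans hn.symm) hx'
    have hmem : imgW 0 p ∈ datAT.2.1 := by
      rw [← zero_W_chk.2 p hp]; exact fixAT.2.2.2.2.1 p hp
    obtain ⟨i, hi, hie⟩ := List.getElem_of_mem hmem
    refine ⟨⟨i, hlen ▸ hi⟩, ?_⟩
    have h := a.r_inj hx' (hy ⟨i, hlen ▸ hi⟩) (by
      rw [hpr, hyr]; simp only [List.getD_eq_getElem _ _ hi, hie])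
    rw [o.conjBy_r n, hback] at h
    exact mul_left_cancel (mul_right_cancel h)

theorem exists_r_ne_one : ∃ y ∈ S.Q, o.r y ≠ 1 := by
  obtain ⟨f, hf, hinj, -⟩ := o.exists_four
  by_contra! h
  exact absurd (hinj (show o.r (f 0) = o.r (f 1) by rw [h _ (hf 0), h _ (hf 1)])) (by decide)

/-- Any conjugate in the coset is again one of them. -/
theorem exists_conjQ {y : G} (hy : y ∈ S.Q) : ∃ o' : Out S, o'.t = o.t * o.r y :=
  ⟨o.conjBy ⟨y, S.Q_le hy⟩, by rw [conjBy_t, t_mul_r]⟩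

theorem conjugate (o' : Out S) : ∃ c ∈ Subgroup.centralizer ({S.z} : Set G), c * o.t * c⁻¹ = o'.t := by
  obtain ⟨σ, hσ⟩ := isConj_iff.1 (o.trans.1.symm.trans o'.trans.1)
  obtain ⟨m, hm⟩ := S.ρ_surj σ
  obtain ⟨y, hy, e⟩ := (o.conjBy m).exists_r_of_τ_eq (o' := o') (by rw [conjBy_τ, hm, hσ])
  refine ⟨y * m, mul_mem (S.Q_le hy) m.2, ?_⟩
  rw [e, t_mul_r, conjBy_t]; group

theorem exists_other : ∃ o' : Out S, o'.t ≠ o.t ∧ Commute o.t o'.t := by
  obtain ⟨y, hy, hr⟩ := o.exists_r_ne_one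
  obtain ⟨o', ho'⟩ := o.exists_conjQ hy
  refine ⟨o', fun h => hr (mul_left_cancel (a := o.t) (by rw [mul_one, ← ho', h])), ?_⟩
  show o.t * o'.t = o'.t * o.t
  rw [ho', mul_assoc, o.commute_r hy]

include o in
theorem exists_noncommuting : ∃ o₁ o₂ : Out S, ¬ Commute o₁.t o₂.t := by
  obtain ⟨F⟩ := exists_frame S
  obtain ⟨-, i, hi, hne⟩ := ((class_chk 1 (by norm_num)).resolve_left (by norm_num)).resolve_left
    (by decide)
  obtain ⟨o₁, h₁⟩ := o.exists_of_tr (isConj_trWord (i := 1) (by norm_num))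
  obtain ⟨o₂, h₂⟩ := o.exists_of_tr (IsConj.refl (wP wt))
  refine ⟨o₁, o₂, fun h => ?_⟩
  refine ne_of_ev F (o.kind_eq F) (fun k hk => (List.mem_append.1 hk).elim (trWord_lt 1 (by norm_num) k) (wt_lt k))
    (fun k hk => (List.mem_append.1 hk).elim (wt_lt k) (trWord_lt 1 (by norm_num) k)) (two_pow_lt hi) hne ?_
  rw [wP_append, wP_append, ← h₁, ← h₂, τ, τ, ← map_mul, ← map_mul]
  exact congrArg S.ρ (Subtype.ext h.eq)

end Out

/-- A property of transvections passed on along commuting ones holds for all. -/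
theorem class_induction (p : P → Prop)
    (hstep : ∀ σ σ' : P, IsConj (wP wt) σ → IsConj (wP wt) σ' → σ * σ' = σ' * σ → p σ → p σ')
    {σ₀ : P} (h₀ : IsConj (wP wt) σ₀) (hp₀ : p σ₀) {σ : P} (h : IsConj (wP wt) σ) : p σ := by
  have hpar : ∀ j < 45, parL.getD j 0 < 45 ∧
      wP (trWord j) * wP (trWord (parL.getD j 0)) = wP (trWord (parL.getD j 0)) * wP (trWord j) :=
    fun j hj => ⟨(par_chk j hj).1, by rw [← wP_append, ← wP_append, wP_eq (par_chk j hj).2.2.1]⟩
  have hiff : ∀ j < 45, (p (wP (trWord j)) ↔ p (wP (trWord (parL.getD j 0)))) := fun j hj =>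
    have h1 := hpar j hj
    ⟨hstep _ _ (isConj_trWord hj) (isConj_trWord h1.1) h1.2,
      hstep _ _ (isConj_trWord h1.1) (isConj_trWord hj) h1.2.symm⟩
  have hall : ∀ j < 45, (p (wP (trWord j)) ↔ p (wP (trWord 0))) := by
    intro j hj
    have h1 := (par_chk j hj).1
    have h2 := (par_chk _ h1).1
    rw [hiff j hj, hiff _ h1, hiff _ h2, (par_chk j hj).2.2.2]
  obtain ⟨i, hi, rfl⟩ := exists_trWord h₀
  obtain ⟨j, hj, rfl⟩ := exists_trWord h
  exact (hall j hj).2 ((hall i hi).1 hp₀)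

namespace Out

variable {G : Type u} [Group G] {S : Shape G} [Finite G]

theorem reachable (o o' : Out S) :
    Relation.ReflTransGen (NbrAdj (conjugatesOf S.z) S.z) o.t o'.t := by
  refine class_induction (fun σ => ∀ b : Out S, b.τ = σ →
    Relation.ReflTransGen (NbrAdj (conjugatesOf S.z) S.z) o.t b.t) ?_ o.trans.1 ?_ o'.trans.1 o' rfl
  · intro σ σ' hσ _ hc hp b hb
    obtain ⟨a, ha⟩ := o.exists_of_tr hσ
    exact (hp a ha).tail ⟨a.t_mem_nbr, b.t_mem_nbr, commute_of_τ_comm a b (by rw [ha, hb, hc])⟩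
  · intro b hb
    exact Relation.ReflTransGen.single ⟨o.t_mem_nbr, b.t_mem_nbr, o.commute_of_τ_eq hb⟩

theorem valency (o₀ : Out S) : (nbr (conjugatesOf S.z) S.z).ncard = 180 := by
  classical
  obtain ⟨F⟩ := exists_frame S
  have hK := o₀.kind_eq F
  choose oj hoj using fun j : Fin 45 => o₀.exists_of_tr (isConj_trWord j.2)
  choose f hf hfinj hfsurj using fun j => (oj j).exists_four
  let g : Fin 45 × Fin 4 → G := fun q => (oj q.1).t * (oj q.1).r (f q.1 q.2)
  have hrange : nbr (conjugatesOf S.z) S.z = Set.range g := by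
    refine Set.Subset.antisymm ?_ ?_
    · intro x hx
      obtain ⟨o, rfl⟩ := exists_of_nbr hx
      obtain ⟨j, hj, hjτ⟩ := exists_trWord o.trans.1
      obtain ⟨y, hy, e⟩ := (oj ⟨j, hj⟩).exists_r_of_τ_eq (o' := o) (hjτ.trans (hoj ⟨j, hj⟩).symm)
      obtain ⟨k, hk⟩ := hfsurj ⟨j, hj⟩ y hy
      exact ⟨(⟨j, hj⟩, k), by rw [e, hk]⟩
    · rintro _ ⟨⟨j, k⟩, rfl⟩
      obtain ⟨o', ho'⟩ := (oj j).exists_conjQ (hf j k)
      show _ * _ ∈ _
      rw [← ho']
      exact o'.t_mem_nbr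
  have hinj : Function.Injective g := by
    rintro ⟨j, k⟩ ⟨j', k'⟩ h
    have hτ : ∀ j k, ∀ b : Out S, b.t = g (j, k) → b.τ = wP (trWord (j : Fin 45)) := by
      intro j k b hb
      rw [← hoj j]
      refine (tC_eq_div (oj j) b ⟨_, S.Q_le ((oj j).r_mem (hf j k))⟩ hb.symm).trans ?_
      rw [(S.ρ_ker _).2 ((oj j).r_mem (hf j k)), mul_one]
    obtain ⟨b, hb⟩ := (oj j).exists_conjQ (hf j k)
    have h1 := (hτ j k b hb).symm.trans (hτ j' k' b (hb.trans h))
    obtain rfl : j = j' := Fin.ext (trWord_inj F hK j.2 j'.2 h1)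
    exact Prod.ext rfl (hfinj j (mul_left_cancel h))
  rw [hrange, Set.ncard_range_of_injective hinj, Nat.card_prod, Nat.card_fin, Nat.card_fin]

end Out

end CfsgLib.USixRec
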