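import Cfsg.Agent.USixRec.LocalPairs
import Cfsg.Agent.Solvable.Fitting

/-!
# The centralizer of `z`

It is generated by the conjugates of `z` it contains, it is perfect, its centre is `⟨z⟩`, its solvable
normal subgroups lie in `Q`, and the centralizer of two commuting members has no normal subgroup of
odd order.
-/

set_option autoImplicit false
set_option maxRecDepth 100000
set_option linter.style.haveILetI false

open CfsgLib.LargeExtraspecial CfsgLib.SpFourThree70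

namespace CfsgLib.USixRec

open CfsgLib.ExtraNine (app spanList spanList_induction)
open scoped commutatorElement

universe u

theorem bot_or_top_P {N : Subgroup P} (hN : N.Normal) : N = ⊥ ∨ N = ⊤ :=
  @IsSimpleGroup.eq_bot_or_eq_top_of_normal P _ isSimpleGroup_P _ hN

namespace Shape

variable {G : Type u} [Group G] [Finite G] {S : Shape G}

theorem exists_noncomm (F : Frame S) (hK : F.K = kA) : ∃ x y : P, x * y ≠ y * x := by
  obtain ⟨-, i, hi, hne⟩ := ((class_chk 1 (by norm_num)).resolve_left (by norm_num)).resolve_left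
    (by decide)
  refine ⟨wP (trWord 1), wP wt, ?_⟩
  rw [← wP_append, ← wP_append]
  exact Out.ne_of_ev F hK (fun k hk => (List.mem_append.1 hk).elim (trWord_lt 1 (by norm_num) k) (wt_lt k))
    (fun k hk => (List.mem_append.1 hk).elim (wt_lt k) (trWord_lt 1 (by norm_num) k))
    (Out.two_pow_lt hi) hne

end Shape

namespace Out

variable {G : Type u} [Group G] {S : Shape G} [Finite G]

theorem center_P (o : Out S) : Subgroup.center P = ⊥ := by
  obtain ⟨F⟩ := exists_frame S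
  obtain ⟨x, y, h⟩ := Shape.exists_noncomm F (o.kind_eq F)
  refine (bot_or_top_P inferInstance).resolve_right fun h' => h ?_
  exact (Subgroup.mem_center_iff.1 (h' ▸ Subgroup.mem_top x) y).symm

theorem commutator_P (o : Out S) : commutator P = ⊤ := by
  obtain ⟨F⟩ := exists_frame S
  obtain ⟨x, y, h⟩ := Shape.exists_noncomm F (o.kind_eq F)
  refine (bot_or_top_P inferInstance).resolve_left fun h' => h ?_
  have hm : ⁅x, y⁆ ∈ commutator P :=
    Subgroup.commutator_mem_commutator (Subgroup.mem_top x) (Subgroup.mem_top y)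
  rw [h', Subgroup.mem_bot, commutatorElement_eq_one_iff_mul_comm] at hm
  exact hm

theorem not_solvable_P (o : Out S) : ¬ Group.IsSolvable P := by
  obtain ⟨F⟩ := exists_frame S
  obtain ⟨x, y, h⟩ := Shape.exists_noncomm F (o.kind_eq F)
  haveI := isSimpleGroup_P
  exact fun hs => h (IsSimpleGroup.comm_iff_isSolvable.2 hs x y)

omit [Finite G] in
/-- Every conjugate of the image occurs. -/
theorem exists_τ_eq (o : Out S) {σ : P} (h : IsConj o.τ σ) : ∃ o' : Out S, o'.τ = σ := by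
  obtain ⟨c, hc⟩ := isConj_iff.1 h
  obtain ⟨m, hm⟩ := S.ρ_surj c
  exact ⟨o.conjBy m, by rw [conjBy_τ, hm, hc]⟩

theorem exists_of_tr (o : Out S) {σ : P} (h : IsConj (wP wt) σ) : ∃ o' : Out S, o'.τ = σ :=
  o.exists_τ_eq (o.trans.1.symm.trans h)

/-- A subgroup of `C(z)` over the whole quotient with all `[t, y]` is everything. -/
theorem top_of_r (o₀ : Out S) (N : Subgroup ↥(Subgroup.centralizer ({S.z} : Set G)))
    (hρ : N.map S.ρ = ⊤)
    (hr : ∀ (o : Out S), ∀ y ∈ S.Q, ∃ n ∈ N, (n : G) = o.r y) : N = ⊤ := by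
  classical
  obtain ⟨F⟩ := exists_frame S
  have hK := o₀.kind_eq F
  let p : ℕ → Prop := fun n => ∃ m ∈ N, (m : G) ∈ S.Q ∧ S.pr (m : G) = psi F.e n
  have h0 : p 0 := ⟨1, one_mem _, one_mem _, by simp [psi_zero]⟩
  have hadd : ∀ a b, p a → p b → p (a ^^^ b) := by
    rintro a b ⟨m, hm, hmQ, hma⟩ ⟨m', hm', hmQ', hmb⟩
    refine ⟨m * m', mul_mem hm hm', mul_mem hmQ hmQ', ?_⟩
    show S.pr ((m : G) * m') = _
    rw [Shape.pr_mul hmQ hmQ', hma, hmb, psi_xor]
  obtain ⟨hs1, hs2, a, ha, b, hb, hab⟩ := span_chk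
  have hgen : ∀ v ∈ spanL.map (fun e => e.2), p v := by
    intro v hv
    obtain ⟨e, he, rfl⟩ := List.mem_map.1 hv
    obtain ⟨hj, q, hq, hqe⟩ := hs1 e he
    obtain ⟨o, ho⟩ := o₀.exists_of_tr (isConj_trWord hj)
    obtain ⟨y, hy, hyq⟩ := Shape.pr_surj (S := S) (psi F.e q)
    obtain ⟨n, hn, hne⟩ := hr o y hy
    refine ⟨n, hn, hne ▸ o.r_mem hy, ?_⟩
    rw [hne, o.pr_r hy, hyq, o.act_ev F (trWord_lt _ hj) ho.symm, ← psi_xor, hK, ← hqe, imgW]
  have hall : ∀ n < 256, p n := fun n hn =>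
    spanList_induction p h0 hadd _ hgen n (by
      simpa using List.all_eq_true.1 hs2 n (List.mem_range.2 hn))
  have hlt : ∀ v ∈ spanL.map (fun e => e.2), v < 256 := by decide +kernel
  obtain ⟨m, hm, hmQ, hma⟩ := hgen a ha
  obtain ⟨m', hm', hmQ', hmb⟩ := hgen b hb
  have hz : (⟨S.z, S.Q_le S.sub.z_mem⟩ : ↥(Subgroup.centralizer ({S.z} : Set G))) ∈ N := by
    have hcomm : (m : G) * m' * (m : G)⁻¹ * (m' : G)⁻¹ = S.z := by
      refine (S.sub.comm_eq hmQ hmQ').resolve_left fun e => ?_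
      have := (Shape.B_eq_zero_iff hmQ hmQ').2 (mul_inv_eq_iff_eq_mul.1 (mul_inv_eq_one.1 e))
      rw [hma, hmb, F.B_psi (hlt a ha) (hlt b hb), hab] at this
      exact one_ne_zero this
    rw [show (⟨S.z, S.Q_le S.sub.z_mem⟩ : ↥(Subgroup.centralizer ({S.z} : Set G))) =
      m * m' * m⁻¹ * m'⁻¹ from Subtype.ext hcomm.symm]
    exact mul_mem (mul_mem (mul_mem hm hm') (inv_mem hm)) (inv_mem hm')
  have hQ : ∀ x : ↥(Subgroup.centralizer ({S.z} : Set G)), (x : G) ∈ S.Q → x ∈ N := by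
    intro x hx
    obtain ⟨n, hn, hxn⟩ := F.surj (S.pr (x : G))
    obtain ⟨k, hk, hkQ, hkn⟩ := hall n hn
    rcases (Shape.pr_eq_iff hx hkQ).1 (hxn.symm.trans hkn.symm) with e | e
    · rwa [show x = k from Subtype.ext e]
    · rw [show x = ⟨S.z, S.Q_le S.sub.z_mem⟩ * k from Subtype.ext e]
      exact mul_mem hz hk
  refine eq_top_iff.2 fun x _ => ?_
  obtain ⟨n, hn, hne⟩ : S.ρ x ∈ N.map S.ρ := hρ ▸ Subgroup.mem_top _
  have hx : n⁻¹ * x ∈ N := hQ _ ((S.ρ_ker _).1 (by rw [map_mul, map_inv, hne, inv_mul_cancel]))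
  simpa using mul_mem hn hx

theorem perfect (o : Out S) : commutator ↥(Subgroup.centralizer ({S.z} : Set G)) = ⊤ := by
  refine o.top_of_r _ ?_ fun o' y hy => ?_
  · rw [commutator_def, Subgroup.map_commutator, Subgroup.map_top_of_surjective _ S.ρ_surj,
      ← commutator_def, o.commutator_P]
  · exact ⟨⁅o'.tC, (⟨y, S.Q_le hy⟩ : ↥(Subgroup.centralizer ({S.z} : Set G)))⁆,
      Subgroup.commutator_mem_commutator (Subgroup.mem_top _) (Subgroup.mem_top _), rfl⟩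

theorem zc (o : Out S) : ∀ x ∈ Subgroup.centralizer ({S.z} : Set G),
    (∀ g ∈ Subgroup.centralizer ({S.z} : Set G), Commute x g) → x = 1 ∨ x = S.z := by
  intro x hx hc
  have h1 : S.ρ ⟨x, hx⟩ ∈ Subgroup.center P := Subgroup.mem_center_iff.2 fun q => by
    obtain ⟨g, rfl⟩ := S.ρ_surj q
    rw [← map_mul, ← map_mul]
    exact congrArg S.ρ (Subtype.ext (hc g g.2).eq.symm)
  rw [o.center_P, Subgroup.mem_bot] at h1
  exact S.sub.mem_of_commutes fun q hq => (hc q (S.Q_le hq)).eq.symm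

theorem solv (o : Out S) (N : Subgroup ↥(Subgroup.centralizer ({S.z} : Set G))) (hN : N.Normal)
    (hs : Group.IsSolvable ↥N) :
    N = ⊥ ∨ ∃ h : S.z ∈ Subgroup.centralizer ({S.z} : Set G),
      (⟨S.z, h⟩ : ↥(Subgroup.centralizer ({S.z} : Set G))) ∈ N := by
  refine or_iff_not_imp_left.2 fun hne => ⟨S.Q_le S.sub.z_mem, ?_⟩
  have hbot : N.map S.ρ = ⊥ := by
    refine (bot_or_top_P (hN.map S.ρ S.ρ_surj)).resolve_right fun h => o.not_solvable_P ?_
    haveI := hs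
    refine Group.isSolvable_of_surjective (f := S.ρ.comp N.subtype) fun q => ?_
    obtain ⟨x, hx, rfl⟩ : q ∈ N.map S.ρ := h ▸ Subgroup.mem_top q
    exact ⟨⟨x, hx⟩, rfl⟩
  obtain ⟨⟨n, hn⟩, hn1⟩ := Subgroup.ne_bot_iff_exists_ne_one.1 hne
  have hnQ : (n : G) ∈ S.Q := (S.ρ_ker n).1 (Subgroup.mem_bot.1 (hbot ▸ Subgroup.mem_map_of_mem _ hn))
  have hn1' : (n : G) ≠ 1 := fun e => hn1 (Subtype.ext (Subtype.ext e))
  by_cases hnz : (n : G) = S.z
  · rwa [show (⟨S.z, _⟩ : ↥(Subgroup.centralizer ({S.z} : Set G))) = n from Subtype.ext hnz.symm]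
  obtain ⟨q, hq, hqn⟩ := S.sub.exists_not_commute hn1' hnz
  have hqz : q * n * q⁻¹ * (n : G)⁻¹ = S.z := (S.sub.comm_eq hq hnQ).resolve_left fun e =>
    hqn (mul_inv_eq_iff_eq_mul.1 (mul_inv_eq_one.1 e))
  rw [show (⟨S.z, _⟩ : ↥(Subgroup.centralizer ({S.z} : Set G))) =
    ⟨q, S.Q_le hq⟩ * n * ⟨q, S.Q_le hq⟩⁻¹ * n⁻¹ from Subtype.ext hqz.symm]
  exact mul_mem (hN.conj_mem n hn _) (inv_mem hn)

theorem core (_o : Out S) : ¬ Cfsg.pCore 2 ↥(Subgroup.centralizer ({S.z} : Set G)) ≤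
    Subgroup.center ↥(Subgroup.centralizer ({S.z} : Set G)) := by
  intro h
  set C := Subgroup.centralizer ({S.z} : Set G)
  haveI : (S.Q.subgroupOf C).Normal := ⟨fun x hx m => S.conj_mem' m hx⟩
  have hp : IsPGroup 2 (S.Q.subgroupOf C) :=
    (IsPGroup.of_card (p := 2) (n := 9) (by rw [S.card_Q]; norm_num : Nat.card S.Q = 2 ^ 9)).of_equiv
      (Subgroup.subgroupOfEquivOfLe fun _ hx => S.Q_le hx).symm
  obtain ⟨F⟩ := exists_frame S
  obtain ⟨x, hx, hxn⟩ := Shape.pr_surj (S := S) (psi F.e 1)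
  obtain ⟨q, hq, hqx⟩ := S.sub.exists_not_commute (s := x) (fun e => by
      rw [e, Shape.pr_one] at hxn
      exact absurd (F.inj 1 (by norm_num) hxn.symm) (by norm_num)) (fun e => by
      rw [e, Shape.pr_z] at hxn
      exact absurd (F.inj 1 (by norm_num) hxn.symm) (by norm_num))
  have hc := h ((CfsgLib.Solvable.le_pCore hp) (show (⟨x, S.Q_le hx⟩ : C) ∈ S.Q.subgroupOf C from hx))
  exact hqx (congrArg Subtype.val (Subgroup.mem_center_iff.1 hc ⟨q, S.Q_le hq⟩))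

theorem no_odd (o : Out S) {M : Subgroup G} (hodd : Odd (Nat.card M))
    (hM : M ≤ Subgroup.centralizer ({S.z, o.t} : Set G))
    (hn : ∀ g ∈ Subgroup.centralizer ({S.z, o.t} : Set G), ∀ l ∈ M, g * l * g⁻¹ ∈ M) : M = ⊥ := by
  set C := Subgroup.centralizer ({S.z} : Set G)
  have hMC : M ≤ C := hM.trans (Subgroup.centralizer_le (Set.singleton_subset_iff.2 (Or.inl rfl)))
  obtain ⟨k, hk⟩ := isConj_iff.1 o.trans.1
  set f := (MulAut.conj k⁻¹).toMonoidHom.comp (S.ρ.comp (M.subgroupOf C).subtype) with hf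
  have hR : f.range = ⊥ := by
    refine eq_bot_of_odd_normal ?_ ?_ ?_
    · exact hodd.of_dvd_nat ((Subgroup.card_range_dvd f).trans
        (Nat.card_congr (Subgroup.subgroupOfEquivOfLe hMC).toEquiv).dvd)
    · rintro _ ⟨⟨x, hx⟩, rfl⟩
      have hc : S.ρ x * o.τ = o.τ * S.ρ x := by
        rw [τ, ← map_mul, ← map_mul]
        exact congrArg S.ρ (Subtype.ext
          (Subgroup.mem_centralizer_iff.1 (hM hx) o.t (Or.inr rfl)).symm)
      rw [← hk] at hc
      show k⁻¹ * S.ρ x * k⁻¹⁻¹ * wP wt = wP wt * (k⁻¹ * S.ρ x * k⁻¹⁻¹)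
      calc k⁻¹ * S.ρ x * k⁻¹⁻¹ * wP wt = k⁻¹ * (S.ρ x * (k * wP wt * k⁻¹)) * k := by group
        _ = k⁻¹ * (k * wP wt * k⁻¹ * S.ρ x) * k := by rw [hc]
        _ = _ := by group
    · rintro y hy _ ⟨⟨x, hx⟩, rfl⟩
      have hσ : k * y * k⁻¹ * o.τ = o.τ * (k * y * k⁻¹) := by
        rw [← hk]
        calc k * y * k⁻¹ * (k * wP wt * k⁻¹) = k * (y * wP wt) * k⁻¹ := by group
          _ = k * (wP wt * y) * k⁻¹ := by rw [hy]
          _ = _ := by group
      obtain ⟨m, hm, hmt⟩ := o.exists_lift hσ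
      have hmem : (m : G) ∈ Subgroup.centralizer ({S.z, o.t} : Set G) :=
        Subgroup.mem_centralizer_iff.2 (by
          rintro _ (rfl | rfl)
          exacts [(S.comm_C m).symm, hmt.symm])
      refine ⟨⟨m * x * m⁻¹, hn m hmem x hx⟩, ?_⟩
      show k⁻¹ * S.ρ (m * x * m⁻¹) * k⁻¹⁻¹ = y * (k⁻¹ * S.ρ x * k⁻¹⁻¹) * y⁻¹
      rw [map_mul, map_mul, map_inv, hm]
      group
  refine (Subgroup.eq_bot_iff_forall _).2 fun x hx => ?_
  have h1 : S.ρ ⟨x, hMC hx⟩ = 1 := by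
    have h' : f ⟨⟨x, hMC hx⟩, hx⟩ = 1 :=
      Subgroup.mem_bot.1 (hR ▸ (⟨_, rfl⟩ : f ⟨⟨x, hMC hx⟩, hx⟩ ∈ f.range))
    exact (MulEquiv.map_eq_one_iff (MulAut.conj k⁻¹)).1 h'
  have hxQ : x ∈ S.Q := (S.ρ_ker _).1 h1
  have hd1 : orderOf x ∣ 2 ^ 9 := by
    rw [show (2 : ℕ) ^ 9 = Nat.card S.Q by rw [S.card_Q]; norm_num]
    exact Subgroup.orderOf_dvd_natCard _ hxQ
  have hd2 : Odd (orderOf x) := hodd.of_dvd_nat (Subgroup.orderOf_dvd_natCard _ hx)
  exact orderOf_eq_one_iff.1 (Nat.eq_one_of_dvd_coprimes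
    (Nat.Coprime.pow_left 9 (Nat.coprime_two_left.2 hd2)) hd1 dvd_rfl)

end Out

end CfsgLib.USixRec
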