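import Cfsg.Agent.USixRec.Outside
import Cfsg.Agent.USixRec.LocalCert

/-!
# Pairs of conjugates of `z` in `C(z)`

Two of them commute when their images do and braid otherwise; the elements `[t, y]` of two different
commuting ones are different.
-/

set_option autoImplicit false
set_option maxRecDepth 100000
set_option linter.style.haveILetI false

open CfsgLib.LargeExtraspecial CfsgLib.SpFourThree70

namespace CfsgLib.USixRec

open CfsgLib.ExtraNine (app spanList)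

universe u

theorem trWord_lt : ∀ j < 45, ∀ k ∈ trWord j, k < 6 := by decide +kernel

namespace Out

variable {G : Type u} [Group G] {S : Shape G}

theorem tC_eq_div (o o' : Out S) (x : ↥(Subgroup.centralizer ({S.z} : Set G)))
    (h : o.t * x = o'.t) : o'.τ = o.τ * S.ρ x := by
  rw [τ, τ, ← map_mul]
  exact congrArg S.ρ (Subtype.ext h.symm)

variable [Finite G] (o : Out S)

theorem r_eq_one_of_pr {y : G} (hy : y ∈ S.Q) (h : S.pr (o.r y) = 0) : o.r y = 1 := by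
  rw [o.pr_r hy, add_eq_zero_iff_eq_neg, Shape.neg_eq'] at h
  rw [r, show o.t * y = y * o.t from (o.trans.2 y hy h).symm]
  group

theorem r_inj {y y' : G} (hy : y ∈ S.Q) (hy' : y' ∈ S.Q) (h : S.pr (o.r y) = S.pr (o.r y')) :
    o.r y = o.r y' := by
  have hmem : y' * (y'⁻¹ * y) = y := mul_inv_cancel_left y' y
  have hd : y'⁻¹ * y ∈ S.Q := mul_mem (inv_mem hy') hy
  have hfix : o.r (y'⁻¹ * y) = 1 := by
    refine o.r_eq_one_of_pr hd ?_
    rw [o.pr_r hy, o.pr_r hy'] at h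
    rw [o.pr_r hd, Shape.pr_mul (inv_mem hy') hy, Shape.pr_inv hy', map_add,
      show S.act o.τ (S.pr y') + S.act o.τ (S.pr y) + (S.pr y' + S.pr y) =
        (S.act o.τ (S.pr y') + S.pr y') + (S.act o.τ (S.pr y) + S.pr y) by abel, h, Shape.add_self']
  have := o.r_mul_of_commute (y := y') (y' := y'⁻¹ * y) (by rw [hfix]; simp)
  rwa [hmem, hfix, mul_one] at this

theorem r_sq {y : G} (hy : y ∈ S.Q) : o.r y * o.r y = 1 := by
  by_cases h : o.r y = 1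
  · rw [h, one_mul]
  · have := o.K_sq (o.z_mul_r_mem hy h)
    rwa [show S.z * o.r y * (S.z * o.r y) = S.z * (o.r y * S.z) * o.r y by group,
      S.sub.z_comm (o.r_mem hy), ← mul_assoc S.z, S.sub.mul_self, one_mul] at this

theorem commute_r {y : G} (hy : y ∈ S.Q) : o.t * o.r y = o.r y * o.t := by
  have h := o.t_conj_r y
  rw [inv_eq_of_mul_eq_one_right (o.r_sq hy)] at h
  exact mul_inv_eq_iff_eq_mul.1 h

theorem exists_r_of_τ_eq {o' : Out S} (h : o'.τ = o.τ) : ∃ y ∈ S.Q, o'.t = o.t * o.r y := by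
  have hx : o.t⁻¹ * o'.t ∈ S.Q := (S.ρ_ker (o.tC⁻¹ * o'.tC)).1 (by
    rw [map_mul, map_inv]
    exact (congrArg (o.τ⁻¹ * ·) h).trans (inv_mul_cancel _))
  obtain ⟨y, hy, e⟩ := o.exists_conj_of_coset hx (by rw [mul_inv_cancel_left]; exact o'.isConj_t)
  refine ⟨y, hy, ?_⟩
  rw [o.t_mul_r, ← e, mul_inv_cancel_left]

theorem commute_of_τ_eq {o' : Out S} (h : o'.τ = o.τ) : o.t * o'.t = o'.t * o.t := by
  obtain ⟨y, hy, e⟩ := o.exists_r_of_τ_eq h
  rw [e, mul_assoc, o.commute_r hy]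

/-- An element over a fixed vector centralizes `t`. -/
theorem comm_of_fixed {x : G} (hx : x ∈ S.Q) (h : S.act o.τ (S.pr x) = S.pr x) :
    x * o.t = o.t * x :=
  o.trans.2 x hx h

variable (F : Frame S)

/-- The vector of `[t, y]` in coordinates. -/
theorem exists_imgW (hK : F.K = kA) {j : ℕ} (hj : j < 45) (hτ : wP (trWord j) = o.τ) {y : G}
    (hy : y ∈ S.Q) : ∃ p < 256, S.pr (o.r y) = psi F.e (imgW j p) := by
  obtain ⟨p, hp, hyp⟩ := F.surj (S.pr y)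
  refine ⟨p, hp, ?_⟩
  rw [o.pr_r hy, ← hyp, o.act_ev F (trWord_lt j hj) hτ, imgW, psi_xor, hK]

theorem ne_of_ev (hK : F.K = kA) {a b : List ℕ} (ha : ∀ k ∈ a, k < 6) (hb : ∀ k ∈ b, k < 6) {n : ℕ}
    (hn : n < 256) (h : kA.ev a n ≠ kA.ev b n) : wP a ≠ wP b := fun e => h <| by
  refine F.heq (mev_lt (mats_chk _ (by simp [kA])) _ hn) (mev_lt (mats_chk _ (by simp [kA])) _ hn) ?_
  have h1 := F.act_psi ha n
  rw [e, F.act_psi hb n, hK] at h1
  exact h1.symm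

omit [Finite G] in
theorem two_pow_lt {i : ℕ} (hi : i < 8) : 2 ^ i < 256 := by
  interval_cases i <;> norm_num

/-- The cases for the position of a transvection relative to the standard one. -/
theorem tr_cases (hK : F.K = kA) {x : P} (hx : IsConj (wP wt) x) :
    x = wP wt ∨ (∃ e ∈ adjL, x = wP (trWord e.1) ∧ x ≠ wP wt ∧ x * wP wt = wP wt * x) ∨
      (∃ e ∈ nonL, x = wP (trWord e.1) ∧ x * wP wt ≠ wP wt * x) := by
  obtain ⟨j, hj, rfl⟩ := exists_trWord hx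
  rcases class_chk j hj with rfl | h | ⟨h, i, hi, hne⟩
  · exact Or.inl (wP_eq zero_W_chk.1)
  · obtain ⟨e, he, rfl⟩ := List.mem_map.1 h
    obtain ⟨-, ⟨i, hi, hne⟩, hcom, -⟩ := adj_chk e he
    refine Or.inr (Or.inl ⟨e, he, rfl, ne_of_ev F hK (trWord_lt _ hj) wt_lt (two_pow_lt hi) hne, ?_⟩)
    rw [← wP_append, ← wP_append, wP_eq hcom]
  · obtain ⟨e, he, rfl⟩ := List.mem_map.1 h
    refine Or.inr (Or.inr ⟨e, he, rfl, ?_⟩)
    rw [← wP_append, ← wP_append]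
    exact ne_of_ev F hK (fun k hk => (List.mem_append.1 hk).elim (trWord_lt _ hj k) (wt_lt k))
      (fun k hk => (List.mem_append.1 hk).elim (wt_lt k) (trWord_lt _ hj k)) (two_pow_lt hi) hne

/-- An element of `C(z)` carrying two conjugates to normal position. -/
theorem exists_normal_pair (hK : F.K = kA) (o₁ o₂ : Out S) :
    ∃ n : ↥(Subgroup.centralizer ({S.z} : Set G)), (o₂.conjBy n).τ = wP wt ∧
      ((o₁.conjBy n).τ = wP wt ∧ o₁.τ = o₂.τ ∨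
        (∃ e ∈ adjL, (o₁.conjBy n).τ = wP (trWord e.1) ∧ o₁.τ ≠ o₂.τ ∧ o₁.τ * o₂.τ = o₂.τ * o₁.τ) ∨
        (∃ e ∈ nonL, (o₁.conjBy n).τ = wP (trWord e.1) ∧ o₁.τ * o₂.τ ≠ o₂.τ * o₁.τ)) := by
  obtain ⟨n, hn⟩ := o₂.exists_normal o₂.trans.1
  refine ⟨n, hn, ?_⟩
  have hn' := hn
  rw [o₂.conjBy_τ] at hn'
  rcases tr_cases F hK (o₁.conjBy n).trans.1 with h | ⟨e, he, h, hne, hc⟩ | ⟨e, he, h, hc⟩
  · refine Or.inl ⟨h, ?_⟩
    rw [← hn', o₁.conjBy_τ] at h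
    exact mul_left_cancel (mul_right_cancel h)
  · refine Or.inr (Or.inl ⟨e, he, h, fun h' => hne ?_, ?_⟩)
    · rw [← hn', o₁.conjBy_τ, h']
    · rw [← hn', o₁.conjBy_τ] at hc
      refine mul_left_cancel (a := S.ρ n) (mul_right_cancel (b := (S.ρ n)⁻¹) ?_)
      calc S.ρ n * (o₁.τ * o₂.τ) * (S.ρ n)⁻¹
          = S.ρ n * o₁.τ * (S.ρ n)⁻¹ * (S.ρ n * o₂.τ * (S.ρ n)⁻¹) := by group
        _ = S.ρ n * o₂.τ * (S.ρ n)⁻¹ * (S.ρ n * o₁.τ * (S.ρ n)⁻¹) := hc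
        _ = _ := by group
  · refine Or.inr (Or.inr ⟨e, he, h, fun h' => hc ?_⟩)
    rw [← hn', o₁.conjBy_τ]
    calc S.ρ n * o₁.τ * (S.ρ n)⁻¹ * (S.ρ n * o₂.τ * (S.ρ n)⁻¹)
        = S.ρ n * (o₁.τ * o₂.τ) * (S.ρ n)⁻¹ := by group
      _ = S.ρ n * (o₂.τ * o₁.τ) * (S.ρ n)⁻¹ := by rw [h']
      _ = _ := by group

theorem adj_img {e : ℕ × List ℕ} (he : e ∈ adjL) {p : ℕ} (hp : p < 256) :
    kA.ev wt (imgW e.1 p) = imgW e.1 p ∧ (imgW e.1 p ∈ datAT.2.1 → imgW e.1 p = 0) := by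
  have h := List.all_eq_true.1 (adj_chk e he).2.2.2.2.2.2.2 p (List.mem_range.2 hp)
  simp only [Bool.and_eq_true, decide_eq_true_eq, Bool.or_eq_true, Bool.not_eq_true',
    List.contains_eq_mem, decide_eq_false_iff_not, beq_iff_eq] at h
  exact ⟨h.1, fun hm => h.2.resolve_left (fun h' => h' hm)⟩

/-- Conjugates with commuting images commute. -/
theorem commute_of_τ_comm (o₁ o₂ : Out S) (h : o₁.τ * o₂.τ = o₂.τ * o₁.τ) :
    o₁.t * o₂.t = o₂.t * o₁.t := by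
  obtain ⟨F⟩ := exists_frame S
  have hK := o₁.kind_eq F
  obtain ⟨n, hn₂, hn₁ | ⟨e, he, he₁, -⟩ | ⟨e, -, -, hne⟩⟩ := exists_normal_pair F hK o₁ o₂
  · exact o₁.commute_of_τ_eq hn₁.2.symm
  swap
  · exact absurd h hne
  suffices H : (o₁.conjBy n).t * (o₂.conjBy n).t = (o₂.conjBy n).t * (o₁.conjBy n).t by
    rw [conjBy_t, conjBy_t] at H
    refine mul_left_cancel (a := (n : G)) (mul_right_cancel (b := (n : G)⁻¹) ?_)
    calc (n : G) * (o₁.t * o₂.t) * (n : G)⁻¹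
        = (n : G) * o₁.t * (n : G)⁻¹ * ((n : G) * o₂.t * (n : G)⁻¹) := by group
      _ = (n : G) * o₂.t * (n : G)⁻¹ * ((n : G) * o₁.t * (n : G)⁻¹) := H
      _ = _ := by group
  generalize o₁.conjBy n = a at he₁
  generalize o₂.conjBy n = b at hn₂
  obtain ⟨hj, -, hcom, hπ, hπ0, hπ1, hfpf, -⟩ := adj_chk e he
  have hττ : a.τ * b.τ = b.τ * a.τ := by rw [he₁, hn₂, ← wP_append, ← wP_append, wP_eq hcom]
  -- an element centralizing `b.t` over the word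
  obtain ⟨m, hm, hmb⟩ := b.exists_lift (σ := wP e.2) (by rw [hn₂, ← wP_append, ← wP_append, wP_eq hπ0])
  have hx : a.t⁻¹ * ((m : G) * a.t * (m : G)⁻¹) ∈ S.Q :=
    (S.ρ_ker (a.tC⁻¹ * (m * a.tC * m⁻¹))).1 <| by
      rw [map_mul, map_mul, map_mul, map_inv, map_inv, hm]
      show a.τ⁻¹ * (wP e.2 * a.τ * (wP e.2)⁻¹) = 1
      rw [he₁, show wP e.2 * wP (trWord e.1) = wP (trWord e.1) * wP e.2 by
        rw [← wP_append, ← wP_append, wP_eq hπ1]]
      group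
  obtain ⟨y, hy, hey⟩ := a.exists_conj_of_coset hx
    (by rw [mul_inv_cancel_left]; exact a.isConj_t.trans (isConj_iff.2 ⟨_, rfl⟩))
  rw [mul_inv_cancel_left, ← a.t_mul_r y] at hey
  obtain ⟨p, hp, hrp⟩ := a.exists_imgW F hK hj he₁.symm hy
  have hrb : a.r y * b.t = b.t * a.r y := by
    refine b.comm_of_fixed (a.r_mem hy) ?_
    rw [hrp, b.act_ev F wt_lt hn₂.symm, hK, (adj_img he hp).1]
  -- the translation
  have hu : b.t⁻¹ * (a.t * b.t * a.t⁻¹) ∈ S.Q :=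
    (S.ρ_ker (b.tC⁻¹ * (a.tC * b.tC * a.tC⁻¹))).1 <| by
      rw [map_mul, map_mul, map_mul, map_inv, map_inv]
      show b.τ⁻¹ * (a.τ * b.τ * a.τ⁻¹) = 1
      rw [hττ]; group
  obtain ⟨y₀, hy₀, hey₀⟩ := b.exists_conj_of_coset hu
    (by rw [mul_inv_cancel_left]; exact b.isConj_t.trans (isConj_iff.2 ⟨_, rfl⟩))
  rw [mul_inv_cancel_left, ← b.t_mul_r y₀] at hey₀
  have hfixr : (m : G) * b.r y₀ * (m : G)⁻¹ = b.r y₀ := by
    refine mul_left_cancel (a := b.t) ?_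
    calc b.t * ((m : G) * b.r y₀ * (m : G)⁻¹)
        = ((m : G) * b.t) * b.r y₀ * (m : G)⁻¹ := by rw [hmb]; group
      _ = (m : G) * (a.t * b.t * a.t⁻¹) * (m : G)⁻¹ := by rw [hey₀]; group
      _ = ((m : G) * a.t * (m : G)⁻¹) * ((m : G) * b.t * (m : G)⁻¹) *
            ((m : G) * a.t * (m : G)⁻¹)⁻¹ := by group
      _ = a.t * (a.r y * b.t * (a.r y)⁻¹) * a.t⁻¹ := by
            rw [hey, hmb, mul_inv_cancel_right]; group
      _ = a.t * b.t * a.t⁻¹ := by rw [hrb, mul_inv_cancel_right]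
      _ = b.t * b.r y₀ := hey₀
  obtain ⟨q, hq, hbq⟩ := b.exists_imgW F hK (j := 0) (by norm_num)
    ((wP_eq zero_W_chk.1).trans hn₂.symm) hy₀
  have hq0 : imgW 0 q ∈ datAT.2.1 := by
    rw [← zero_W_chk.2 q hq]; exact fixAT.2.2.2.2.1 q hq
  have hwev : kA.ev e.2 (imgW 0 q) = imgW 0 q := by
    have h1 : S.act (wP e.2) (S.pr (b.r y₀)) = S.pr (b.r y₀) := by
      rw [← hm, Shape.act_pr m (b.r_mem hy₀), hfixr]
    rw [hbq, F.act_psi hπ, hK] at h1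
    have hlt := (fixAT.2.2.2.1 _ hq0).1
    exact F.heq (mev_lt (mats_chk _ (by simp [kA])) _ hlt) hlt h1
  have h0 : imgW 0 q = 0 := (hfpf _ hq0).resolve_right fun h => h hwev
  have hr1 := b.r_eq_one_of_pr hy₀ (by rw [hbq, h0, psi_zero])
  rw [hr1, mul_one] at hey₀
  exact mul_inv_eq_iff_eq_mul.1 hey₀

/-- Conjugates with noncommuting images braid. -/
theorem braid_of_not_comm (o₁ o₂ : Out S) (h : o₁.τ * o₂.τ ≠ o₂.τ * o₁.τ) :
    o₁.t * o₂.t * o₁.t = o₂.t * o₁.t * o₂.t := by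
  obtain ⟨F⟩ := exists_frame S
  have hK := o₁.kind_eq F
  obtain ⟨n, hn₂, hn₁ | ⟨e, -, -, -, hc⟩ | ⟨e, he, he₁, -⟩⟩ := exists_normal_pair F hK o₁ o₂
  · exact absurd (by rw [hn₁.2]) h
  · exact absurd hc h
  suffices H : (o₁.conjBy n).t * (o₂.conjBy n).t * (o₁.conjBy n).t =
      (o₂.conjBy n).t * (o₁.conjBy n).t * (o₂.conjBy n).t by
    rw [conjBy_t, conjBy_t] at H
    refine mul_left_cancel (a := (n : G)) (mul_right_cancel (b := (n : G)⁻¹) ?_)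
    calc (n : G) * (o₁.t * o₂.t * o₁.t) * (n : G)⁻¹
        = (n : G) * o₁.t * (n : G)⁻¹ * ((n : G) * o₂.t * (n : G)⁻¹) * ((n : G) * o₁.t * (n : G)⁻¹) := by group
      _ = (n : G) * o₂.t * (n : G)⁻¹ * ((n : G) * o₁.t * (n : G)⁻¹) * ((n : G) * o₂.t * (n : G)⁻¹) := H
      _ = _ := by group
  generalize o₁.conjBy n = a at he₁
  generalize o₂.conjBy n = b at hn₂
  obtain ⟨hj, hk, hk₁, hk₂, hfix⟩ := non_chk e he
  -- the two images of the third transvection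
  let c := b.conjBy a.tC
  let c' := a.conjBy b.tC
  have hc : c.t = a.t * b.t * a.t := by rw [conjBy_t]; exact congrArg (_ * ·) a.t_inv
  have hc' : c'.t = b.t * a.t * b.t := by rw [conjBy_t]; exact congrArg (_ * ·) b.t_inv
  have hcτ : c.τ = wP (trWord e.2.1) := by
    rw [conjBy_τ]
    show a.τ * b.τ * a.τ⁻¹ = _
    rw [he₁, hn₂, inv_eq_of_mul_eq_one_right (he₁ ▸ a.τ_sq), ← wP_append, ← wP_append, wP_eq hk₂]
  have hcτ' : c'.τ = wP (trWord e.2.1) := by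
    rw [conjBy_τ]
    show b.τ * a.τ * b.τ⁻¹ = _
    rw [he₁, hn₂, inv_eq_of_mul_eq_one_right (hn₂ ▸ b.τ_sq), ← wP_append, ← wP_append, wP_eq hk₁]
  obtain ⟨y, hy, e'⟩ := c.exists_r_of_τ_eq (hcτ'.trans hcτ.symm)
  rw [hc, hc'] at e'
  have hr2 : c.r y = a.t * b.t * a.t * (b.t * a.t * b.t) := by
    rw [e', ← mul_assoc, show a.t * b.t * a.t * (a.t * b.t * a.t) =
      a.t * b.t * (a.t * a.t) * b.t * a.t by group, a.t_sq, mul_one, mul_assoc a.t b.t b.t, b.t_sq,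
      mul_one, a.t_sq, one_mul]
  have hinv : (c.r y)⁻¹ = b.t * a.t * b.t * (a.t * b.t * a.t) := by
    rw [hr2]; simp only [mul_inv_rev, a.t_inv, b.t_inv]; group
  rw [inv_eq_of_mul_eq_one_right (c.r_sq hy)] at hinv
  have hca : c.r y * a.t = a.t * c.r y := by
    have : a.t * c.r y * a.t = c.r y := by
      conv_rhs => rw [hinv]
      rw [hr2, show a.t * (a.t * b.t * a.t * (b.t * a.t * b.t)) * a.t =
        a.t * a.t * (b.t * a.t * b.t * (a.t * b.t * a.t)) by group, a.t_sq, one_mul]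
    calc c.r y * a.t = a.t * c.r y * a.t * a.t := by rw [this]
      _ = a.t * c.r y := by rw [mul_assoc, a.t_sq, mul_one]
  have hcb : c.r y * b.t = b.t * c.r y := by
    have : b.t * c.r y * b.t = c.r y := by
      conv_rhs => rw [hinv]
      rw [hr2, show b.t * (a.t * b.t * a.t * (b.t * a.t * b.t)) * b.t =
        b.t * a.t * b.t * a.t * b.t * a.t * (b.t * b.t) by group, b.t_sq, mul_one]
      group
    calc c.r y * b.t = b.t * c.r y * b.t * b.t := by rw [this]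
      _ = b.t * c.r y := by rw [mul_assoc, b.t_sq, mul_one]
  obtain ⟨p, hp, hrp⟩ := c.exists_imgW F hK hk hcτ.symm hy
  have hfix' : ∀ {o : Out S} {w : List ℕ}, (∀ k ∈ w, k < 6) → o.τ = wP w → c.r y * o.t = o.t * c.r y →
      kA.ev w (imgW e.2.1 p) = imgW e.2.1 p := by
    intro o w hw ho hcomm
    have hlt : imgW e.2.1 p < 256 :=
      Nat.xor_lt_two_pow (n := 8) (mev_lt (mats_chk _ (by simp [kA])) _ hp) hp
    refine F.heq (mev_lt (mats_chk _ (by simp [kA])) _ hlt) hlt ?_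
    rw [← hK, ← o.act_ev F hw ho.symm, ← hrp, ← o.conj_pr (c.r_mem hy)]
    congr 1
    rw [← hcomm, mul_inv_cancel_right]
  have h := List.all_eq_true.1 hfix p (List.mem_range.2 hp)
  rw [decide_eq_true (⟨hfix' wt_lt hn₂ hcb, hfix' (trWord_lt _ hj) he₁ hca⟩ :
    kA.ev wt (imgW e.2.1 p) = imgW e.2.1 p ∧ kA.ev (trWord e.1) (imgW e.2.1 p) = imgW e.2.1 p)] at h
  simp only [Bool.not_true, Bool.false_or, beq_iff_eq] at h
  rw [c.r_eq_one_of_pr hy (by rw [hrp, h, psi_zero]), mul_one] at e'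
  exact e'.symm

/-- Different commuting ones have disjoint sets `[t, y]`. -/
theorem r_disjoint (o₁ o₂ : Out S) (h : o₁.τ * o₂.τ = o₂.τ * o₁.τ) (hne : o₁.τ ≠ o₂.τ) {y y' : G}
    (hy : y ∈ S.Q) (hy' : y' ∈ S.Q) (he : S.pr (o₁.r y) = S.pr (o₂.r y')) : o₁.r y = 1 := by
  obtain ⟨F⟩ := exists_frame S
  have hK := o₁.kind_eq F
  obtain ⟨n, hn₂, hn₁ | ⟨e, hemem, he₁, -⟩ | ⟨e, -, -, hc⟩⟩ := exists_normal_pair F hK o₁ o₂
  · exact absurd hn₁.2 hne
  swap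
  · exact absurd h hc
  have he' : S.pr ((o₁.conjBy n).r ((n : G) * y * (n : G)⁻¹)) =
      S.pr ((o₂.conjBy n).r ((n : G) * y' * (n : G)⁻¹)) := by
    rw [o₁.conjBy_r n, o₂.conjBy_r n, ← Shape.act_pr n (o₁.r_mem hy), ← Shape.act_pr n (o₂.r_mem hy'), he]
  obtain ⟨p, hp, hp'⟩ := (o₁.conjBy n).exists_imgW F hK (adj_chk e hemem).1 he₁.symm (S.conj_mem' n hy)
  obtain ⟨q, hq, hq'⟩ := (o₂.conjBy n).exists_imgW F hK (j := 0) (by norm_num)
    ((wP_eq zero_W_chk.1).trans hn₂.symm) (S.conj_mem' n hy')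
  have hlt : ∀ (j : ℕ) {p : ℕ}, p < 256 → imgW j p < 256 := fun j p hp =>
    Nat.xor_lt_two_pow (n := 8) (mev_lt (mats_chk _ (by simp [kA])) _ hp) hp
  have hpq : imgW e.1 p = imgW 0 q := F.heq (hlt _ hp) (hlt _ hq) (hp'.symm.trans (he'.trans hq'))
  have h0 : imgW e.1 p = 0 := (adj_img hemem hp).2
    (by rw [hpq, ← zero_W_chk.2 q hq]; exact fixAT.2.2.2.2.1 q hq)
  have := (o₁.conjBy n).r_eq_one_of_pr (S.conj_mem' n hy) (by rw [hp', h0, psi_zero])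
  rw [o₁.conjBy_r n] at this
  simpa using this

end Out

end CfsgLib.USixRec
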