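import Cfsg.Agent.USixRec.LocalGraph
import Cfsg.Agent.FischerTypes.M22Clique

/-!
# Nothing is further than distance two

Let `d` and `v` be at distance two with common neighbour `a`. Seen from `a` their images are two
noncommuting transvections, with three commuting ones, so twelve conjugates commute with `d`, `a` and
`v`; seen from `d` they lie over all twelve transvections commuting with the image of `a`. By
connectedness every transvection at `d` has a conjugate over it commuting with `v`, and the same from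
`v` finishes the step.
-/

set_option autoImplicit false
set_option maxRecDepth 100000
set_option linter.style.haveILetI false

open CfsgLib.LargeExtraspecial CfsgLib.SpFourThree70 CfsgLib.SporFischer

namespace CfsgLib.USixRec

open CfsgLib.ExtraNine (app spanList)

universe u

namespace Shape

variable {G : Type u} [Group G] (S : Shape G) (g : G)

/-- The map from the centralizer of a conjugate back. -/
def conjHom : ↥(Subgroup.centralizer ({g * S.z * g⁻¹} : Set G)) →*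
    ↥(Subgroup.centralizer ({S.z} : Set G)) where
  toFun m := ⟨g⁻¹ * m * g, S.mem_C (by
    have hm := Subgroup.mem_centralizer_singleton_iff.1 m.2
    calc g⁻¹ * m * g * S.z = g⁻¹ * ((m : G) * (g * S.z * g⁻¹)) * g := by group
      _ = g⁻¹ * (g * S.z * g⁻¹ * m) * g := by rw [hm]
      _ = _ := by group)⟩
  map_one' := Subtype.ext (by simp)
  map_mul' a b := Subtype.ext (by simp only [Subgroup.coe_mul]; group)

/-- The configuration at a conjugate. -/
noncomputable def conj : Shape G where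
  z := g * S.z * g⁻¹
  Q := S.Q.map (MulAut.conj g).toMonoidHom
  sub := S.sub.conj g
  card_Q := by rw [Subgroup.card_map_of_injective (MulAut.conj g).injective, S.card_Q]
  ρ := S.ρ.comp (S.conjHom g)
  ρ_surj := fun σ => by
    obtain ⟨m, rfl⟩ := S.ρ_surj σ
    refine ⟨⟨g * m * g⁻¹, Subgroup.mem_centralizer_singleton_iff.2 ?_⟩, congrArg S.ρ (Subtype.ext ?_)⟩
    · calc g * m * g⁻¹ * (g * S.z * g⁻¹) = g * ((m : G) * S.z) * g⁻¹ := by group
        _ = g * (S.z * m) * g⁻¹ := by rw [S.comm_C m]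
        _ = _ := by group
    · show g⁻¹ * (g * m * g⁻¹) * g = (m : G)
      group
  ρ_ker := fun m => by
    rw [MonoidHom.comp_apply, S.ρ_ker]
    show g⁻¹ * (m : G) * g ∈ S.Q ↔ _
    exact ⟨fun h => ⟨_, h, by simp [mul_assoc]⟩, fun ⟨y, hy, e⟩ => by
      rw [← e]; simpa [mul_assoc] using hy⟩
  faithful := fun m hm h => by
    refine ⟨g⁻¹ * m * g, ?_, by simp [mul_assoc]⟩
    refine S.faithful _ (S.conjHom g ⟨m, hm⟩).2 fun e he => ?_
    have heq : e⁻¹ * (g⁻¹ * m * g * e * (g⁻¹ * m * g)⁻¹) =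
        g⁻¹ * ((g * e * g⁻¹)⁻¹ * (m * (g * e * g⁻¹) * m⁻¹)) * g := by group
    rw [heq]
    rcases h _ (show g * e * g⁻¹ ∈ S.Q.map (MulAut.conj g).toMonoidHom from ⟨e, he, rfl⟩) with r | r
    · left; rw [r]; group
    · right; rw [r]; group

theorem conj_z : (S.conj g).z = g * S.z * g⁻¹ := rfl

end Shape

namespace Out

variable {G : Type u} [Group G] {S : Shape G} [Finite G]

theorem exists_common (F : Frame S) (hK : F.K = kA) (o₁ o₂ : Out S)
    (h : o₁.τ * o₂.τ ≠ o₂.τ * o₁.τ) :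
    ∃ c : Fin 3 → Out S, (∀ i, (c i).τ * o₁.τ = o₁.τ * (c i).τ ∧ (c i).τ * o₂.τ = o₂.τ * (c i).τ ∧
      (c i).τ ≠ o₁.τ ∧ (c i).τ ≠ o₂.τ) ∧ ∀ i j, (c i).τ * (c j).τ = (c j).τ * (c i).τ → i = j := by
  obtain ⟨n, hn₂, hn₁ | ⟨e, -, -, -, hc⟩ | ⟨e, he, he₁, -⟩⟩ := exists_normal_pair F hK o₁ o₂
  · exact absurd (by rw [hn₁.2]) h
  · exact absurd hc h
  obtain ⟨hlen, hnd, hmem⟩ := common_chk e he
  have hget : ∀ i : Fin 3, e.2.2.getD i 0 ∈ e.2.2 := fun i => by
    rw [List.getD_eq_getElem _ _ (by rw [hlen]; exact i.2)]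
    exact List.getElem_mem _
  choose c' hc' using fun i : Fin 3 => o₁.exists_of_tr (isConj_trWord (hmem _ (hget i)).1)
  have hτ : ∀ o : Out S, (o.conjBy n⁻¹).τ = (S.ρ n)⁻¹ * o.τ * S.ρ n := fun o => by
    rw [conjBy_τ, map_inv, inv_inv]
  have hsame : ∀ a b : P, a * b = b * a ↔
      ((S.ρ n)⁻¹ * a * S.ρ n) * ((S.ρ n)⁻¹ * b * S.ρ n) = ((S.ρ n)⁻¹ * b * S.ρ n) * ((S.ρ n)⁻¹ * a * S.ρ n) := by
    intro a b
    rw [show ((S.ρ n)⁻¹ * a * S.ρ n) * ((S.ρ n)⁻¹ * b * S.ρ n) = (S.ρ n)⁻¹ * (a * b) * S.ρ n by group,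
      show ((S.ρ n)⁻¹ * b * S.ρ n) * ((S.ρ n)⁻¹ * a * S.ρ n) = (S.ρ n)⁻¹ * (b * a) * S.ρ n by group]
    exact ⟨fun e => by rw [e], fun e => mul_left_cancel (mul_right_cancel e)⟩
  have hback : ∀ o : Out S, (S.ρ n)⁻¹ * (o.conjBy n).τ * S.ρ n = o.τ := fun o => by
    rw [conjBy_τ]; group
  have hwt : ∀ i, (c' i).τ * wP wt = wP wt * (c' i).τ := fun i => by
    obtain ⟨a, ha, hae⟩ := List.mem_map.1 (hmem _ (hget i)).2.1
    rw [hc' i, ← hae, ← wP_append, ← wP_append, wP_eq (adj_chk a ha).2.2.1]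
  have he' : ∀ i, (c' i).τ * wP (trWord e.1) = wP (trWord e.1) * (c' i).τ := fun i => by
    rw [hc' i, ← wP_append, ← wP_append, wP_eq (hmem _ (hget i)).2.2.1]
  refine ⟨fun i => (c' i).conjBy n⁻¹, fun i => ?_, fun i j hij => ?_⟩
  · have h1 : ((c' i).conjBy n⁻¹).τ * o₁.τ = o₁.τ * ((c' i).conjBy n⁻¹).τ := by
      rw [hτ, ← hback o₁, ← hsame, he₁]; exact he' i
    have h2 : ((c' i).conjBy n⁻¹).τ * o₂.τ = o₂.τ * ((c' i).conjBy n⁻¹).τ := by
      rw [hτ, ← hback o₂, ← hsame, hn₂]; exact hwt i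
    exact ⟨h1, h2, fun e => h (e ▸ h2), fun e => h (e ▸ h1).symm⟩
  · simp only [hτ] at hij
    rw [← hsame, hc', hc'] at hij
    obtain ⟨-, -, -, hne⟩ := hmem _ (hget i)
    rcases hne _ (hget j) with e' | ⟨k, hk, hne'⟩
    · rw [List.getD_eq_getElem _ _ (by rw [hlen]; exact i.2), List.getD_eq_getElem _ _ (by rw [hlen]; exact j.2),
        List.Nodup.getElem_inj_iff hnd] at e'
      exact Fin.ext e'
    · refine absurd ?_ (ne_of_ev F hK (fun x hx => (List.mem_append.1 hx).elim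
        (trWord_lt _ (hmem _ (hget i)).1 x) (trWord_lt _ (hmem _ (hget j)).1 x))
        (fun x hx => (List.mem_append.1 hx).elim
        (trWord_lt _ (hmem _ (hget j)).1 x) (trWord_lt _ (hmem _ (hget i)).1 x)) (two_pow_lt hk) hne')
      rwa [wP_append, wP_append]

omit [Finite G] in
theorem adjL_length : (adjL.map fun e => wP (trWord e.1)).length = 12 := by
  rw [List.length_map]; rfl

/-- The images commuting with that of `o`, other than it, are at most twelve. -/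
theorem exists_twelve (o : Out S) : ∃ L : List P, L.length = 12 ∧
    ∀ b : Out S, b.τ * o.τ = o.τ * b.τ → b.τ ≠ o.τ → b.τ ∈ L := by
  obtain ⟨F⟩ := exists_frame S
  obtain ⟨n, hn⟩ := o.exists_normal o.trans.1
  refine ⟨(adjL.map fun e => wP (trWord e.1)).map fun a => (S.ρ n)⁻¹ * a * S.ρ n,
    by rw [List.length_map, adjL_length], fun b hc hne => ?_⟩
  have hn' := hn
  rw [conjBy_τ] at hn'
  rcases tr_cases F (o.kind_eq F) (b.conjBy n).trans.1 with h | ⟨e, he, h, -, -⟩ | ⟨e, -, -, h⟩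
  · refine absurd ?_ hne
    rw [← hn', conjBy_τ] at h
    exact mul_left_cancel (mul_right_cancel h)
  · refine List.mem_map.2 ⟨(b.conjBy n).τ, List.mem_map.2 ⟨e, he, h.symm⟩, ?_⟩
    rw [conjBy_τ]; group
  · refine absurd ?_ h
    rw [← hn', conjBy_τ]
    calc S.ρ n * b.τ * (S.ρ n)⁻¹ * (S.ρ n * o.τ * (S.ρ n)⁻¹)
        = S.ρ n * (b.τ * o.τ) * (S.ρ n)⁻¹ := by group
      _ = S.ρ n * (o.τ * b.τ) * (S.ρ n)⁻¹ := by rw [hc]
      _ = _ := by group

theorem exists_r_of_mem_K (o : Out S) {k : G} (hk : k ∈ o.K) :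
    ∃ y ∈ S.Q, S.pr k = S.pr (o.r y) := by
  obtain ⟨F⟩ := exists_frame S
  obtain ⟨n, hn⟩ := o.exists_normal o.trans.1
  obtain ⟨a, ha, hka⟩ := ((o.conjBy n).normal_facts F hn.symm).2.2.1 _ ((o.conjBy_mem_K n k).2 hk)
  obtain ⟨-, hd⟩ := (exists_datT F).choose_spec
  obtain ⟨-, -, p, hp, hpa⟩ := hd.2.2.2.1 a ha
  obtain ⟨y', hy', hyp⟩ := Shape.pr_surj (S := S) (psi F.e p)
  refine ⟨(n : G)⁻¹ * y' * n, by simpa using S.conj_mem' n⁻¹ hy', ?_⟩
  refine Shape.act_injective (S.ρ n) ?_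
  rw [Shape.act_pr n hk.1, Shape.act_pr n (o.r_mem (by simpa using S.conj_mem' n⁻¹ hy')), ← o.conjBy_r n,
    show (n : G) * ((n : G)⁻¹ * y' * n) * (n : G)⁻¹ = y' by group, hka, (o.conjBy n).pr_r hy',
    hyp, (o.conjBy n).act_ev F wt_lt hn.symm, ← psi_xor, hpa]

/-- The twelve transvections commuting with the image of `o` all have conjugates commuting with `v`. -/
theorem hits (o : Out S) {v : G} (hv : IsConj S.z v) (hov : Commute o.t v) (hzv : ¬ Commute S.z v)
    {σ : P} (hσ : IsConj (wP wt) σ) (hc : σ * o.τ = o.τ * σ) (hne : σ ≠ o.τ) :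
    ∃ b : Out S, b.τ = σ ∧ Commute b.t v := by
  classical
  obtain ⟨g, hg, hgz⟩ : ∃ g, o.g = g ∧ g * S.z * g⁻¹ = o.t := ⟨o.g, rfl, rfl⟩
  set A := S.conj g with hA
  have hAz : A.z = o.t := hgz
  have hTA : o.T = A.Q := by rw [Out.T, hg]; rfl
  have hconjA : ∀ {x : G}, IsConj S.z x → IsConj A.z x := fun {x} hx =>
    (show IsConj S.z A.z from isConj_iff.2 ⟨g, rfl⟩).symm.trans hx
  obtain ⟨od, hod⟩ : ∃ od : Out A, od.t = S.z :=
    exists_of_mem (hconjA (IsConj.refl _)) (hAz ▸ o.t_ne_z.symm) (hAz ▸ o.t_comm)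
  obtain ⟨ov, hov'⟩ : ∃ ov : Out A, ov.t = v := by
    refine exists_of_mem (hconjA hv) (fun h => hzv ?_) (hAz ▸ hov)
    rw [h, hAz]
    exact (show Commute o.t S.z from o.t_comm).symm
  have hnc : od.τ * ov.τ ≠ ov.τ * od.τ := fun h => hzv (by
    have := commute_of_τ_comm od ov h
    rwa [hod, hov'] at this)
  obtain ⟨FA⟩ := exists_frame A
  obtain ⟨c, hc3, hpair⟩ := exists_common FA (od.kind_eq FA) od ov hnc
  choose f hf hfinj _ using fun i => (c i).exists_four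
  choose bA hbA using fun q : Fin 3 × Fin 4 => (c q.1).exists_conjQ (hf q.1 q.2)
  have hbτ : ∀ q, (bA q).τ = (c q.1).τ := fun q => by
    refine ((c q.1).tC_eq_div (bA q) ⟨_, A.Q_le ((c q.1).r_mem (hf q.1 q.2))⟩ (hbA q).symm).trans ?_
    rw [(A.ρ_ker _).2 ((c q.1).r_mem (hf q.1 q.2)), mul_one]
  have hbd : ∀ q, (bA q).t * S.z = S.z * (bA q).t := fun q => by
    have := commute_of_τ_comm (bA q) od (by rw [hbτ]; exact (hc3 q.1).1)
    rwa [hod] at this
  have hbv : ∀ q, Commute (bA q).t v := fun q => by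
    have := commute_of_τ_comm (bA q) ov (by rw [hbτ]; exact (hc3 q.1).2.1)
    rwa [hov'] at this
  have hbS : ∀ q, ∃ b : Out S, b.t = (bA q).t := fun q => by
    refine exists_of_mem ((show IsConj S.z A.z from isConj_iff.2 ⟨g, rfl⟩).trans (bA q).isConj_t)
      (fun h => (hc3 q.1).2.2.1 ?_) (show Commute (bA q).t S.z from hbd q).symm
    rw [← hbτ q]
    exact τ_eq_of_t_eq (h.trans hod.symm)
  choose b hb using hbS
  have hba : ∀ q, (b q).τ * o.τ = o.τ * (b q).τ := fun q => by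
    rw [τ, τ, ← map_mul, ← map_mul]
    refine congrArg S.ρ (Subtype.ext ?_)
    show (b q).t * o.t = o.t * (b q).t
    rw [hb q, ← hAz]
    exact (bA q).t_comm
  have hbne : ∀ q, (b q).τ ≠ o.τ := fun q h => by
    obtain ⟨y, hy, e⟩ := o.exists_r_of_τ_eq h
    rw [hb q] at e
    have hr1 : o.r y ≠ 1 := fun h1 => (bA q).t_ne_z (by rw [e, h1, mul_one, hAz])
    have hk := (o.z_mul_r_mem hy hr1).2
    have hmem : S.z * (bA q).t ∈ A.Q := by
      rw [e, ← mul_assoc, ← o.t_comm, mul_assoc]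
      exact hTA ▸ mul_mem o.t_mem_T hk
    refine (hc3 q.1).2.2.1 ?_
    rw [← hbτ q]
    exact (τ_eq_of_mem (o := od) (o' := bA q) (by rw [hod]; exact hmem)).symm
  have hinj : Function.Injective fun q => (b q).τ := by
    intro q q' h
    simp only at h
    have hcomm := (b q).commute_of_τ_eq (o' := b q') h.symm
    rw [hb q, hb q'] at hcomm
    have h1 : q.1 = q'.1 := hpair _ _ (by
      rw [← hbτ q, ← hbτ q', τ, τ, ← map_mul, ← map_mul]
      exact congrArg A.ρ (Subtype.ext hcomm))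
    obtain ⟨y, hy, e⟩ := (b q).exists_r_of_τ_eq (o' := b q') h.symm
    have h2 : (b q).r y ∈ o.T := by
      have hq' : (bA q).t⁻¹ * (bA q').t ∈ A.Q := by
        rw [hbA, hbA, ← h1, mul_inv_rev, mul_assoc, inv_mul_cancel_left]
        exact mul_mem (inv_mem ((c q.1).r_mem (hf q.1 q.2))) ((c q.1).r_mem (hf q.1 q'.2))
      rw [← hb q, ← hb q', e, inv_mul_cancel_left] at hq'
      exact hTA ▸ hq'
    obtain ⟨y', hy', hpr⟩ := o.exists_r_of_mem_K (k := (b q).r y) ⟨(b q).r_mem hy, h2⟩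
    have hr : (b q).r y = 1 := r_disjoint (b q) o (hba q) (hbne q) hy hy' hpr
    rw [hr, mul_one, hb, hb, hbA, hbA, ← h1] at e
    exact Prod.ext h1 (hfinj q.1 (mul_left_cancel e)).symm
  obtain ⟨L, hL, hmem⟩ := o.exists_twelve
  obtain ⟨os, hos⟩ := o.exists_of_tr hσ
  have hσL : σ ∈ L.toFinset := List.mem_toFinset.2 (hos ▸ hmem os (by rw [hos]; exact hc) (by rw [hos]; exact hne))
  have himg : Finset.univ.image (fun q => (b q).τ) = L.toFinset := by
    refine Finset.eq_of_subset_of_card_le (fun x hx => ?_) ?_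
    · obtain ⟨q, -, rfl⟩ := Finset.mem_image.1 hx
      exact List.mem_toFinset.2 (hmem _ (hba q) (hbne q))
    · rw [Finset.card_image_of_injective _ hinj]
      exact (List.toFinset_card_le L).trans (by simp [hL])
  rw [← himg] at hσL
  obtain ⟨q, -, hq⟩ := Finset.mem_image.1 hσL
  exact ⟨b q, hq, hb q ▸ hbv q⟩

/-- Every transvection has a conjugate over it commuting with `v`. -/
theorem exists_over (o : Out S) {v : G} (hv : IsConj S.z v) (hov : Commute o.t v) (hzv : ¬ Commute S.z v)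
    {σ : P} (hσ : IsConj (wP wt) σ) : ∃ b : Out S, b.τ = σ ∧ Commute b.t v := by
  refine class_induction (fun σ => ∃ b : Out S, b.τ = σ ∧ Commute b.t v) ?_ o.trans.1 ⟨o, rfl, hov⟩ hσ
  rintro σ σ' - hσ' hc ⟨b, rfl, hb⟩
  by_cases h : σ' = b.τ
  · exact ⟨b, h.symm, hb⟩
  · exact b.hits hv hb hzv hσ' hc.symm h

/-- Members at distance at most two are closed under taking neighbours. -/
theorem step (v y : G) (hv : v ∈ Geom22.ball (conjugatesOf S.z) S.z)
    (hy : y ∈ nbr (conjugatesOf S.z) v) : y ∈ Geom22.ball (conjugatesOf S.z) S.z := by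
  refine ⟨hy.1, ?_⟩
  by_cases hdy : Commute S.z y
  · exact Or.inl hdy
  right
  by_cases hdv : Commute S.z v
  · rcases eq_or_ne v S.z with rfl | hne
    · exact absurd hy.2.2 hdy
    · exact ⟨v, ⟨hv.1, hne, hdv⟩, hv.1, fun h => hy.2.1 h.symm, hy.2.2.symm⟩
  obtain ⟨a, haz, hav⟩ := hv.2.resolve_left hdv
  obtain ⟨g, hg⟩ := isConj_iff.1 (show IsConj S.z v from hv.1)
  set V := S.conj g
  have hVz : V.z = v := hg
  have hto : ∀ {x : G}, IsConj S.z x → IsConj V.z x := fun {x} hx =>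
    (show IsConj S.z V.z from isConj_iff.2 ⟨g, rfl⟩).symm.trans hx
  obtain ⟨oa, hoa⟩ : ∃ oa : Out V, oa.t = a :=
    exists_of_mem (hto haz.1) (hVz ▸ hav.2.1) (hVz ▸ hav.2.2)
  obtain ⟨oy, hoy⟩ : ∃ oy : Out V, oy.t = y :=
    exists_of_mem (hto hy.1) (hVz ▸ hy.2.1) (hVz ▸ hy.2.2)
  obtain ⟨b, hb, hbz⟩ := oa.exists_over (v := S.z) (hto (IsConj.refl _))
    (hoa.symm ▸ haz.2.2.symm) (hVz.symm ▸ fun h => hdv h.symm) oy.trans.1
  have hby : Commute b.t y := hoy ▸ b.commute_of_τ_eq (o' := oy) hb.symm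
  refine ⟨b.t, ⟨(show IsConj S.z V.z from isConj_iff.2 ⟨g, rfl⟩).trans b.isConj_t, fun h => ?_,
    hbz.symm⟩, (show IsConj S.z V.z from isConj_iff.2 ⟨g, rfl⟩).trans b.isConj_t, fun h => ?_, hby.symm⟩
  · exact hdy (h ▸ hby)
  · exact hdy (h ▸ hbz).symm

end Out

end CfsgLib.USixRec
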