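import Cfsg.Agent.USixRec.InJ
import Cfsg.Agent.USixRec.OutCert

/-!
# A conjugate of `z` in `C(z)` outside `J`

For `t = g z g⁻¹` commuting with `z` and outside `Q`: the intersection `K` of `Q` with `gQg⁻¹`, the
centralizer `C` of `t` in `Q`, the image of `C` in the quotient of `C(t)`, and the linear form
`[t, ·]` on the fixed space of the image `τ` of `t`.
-/

set_option autoImplicit false
set_option maxRecDepth 100000
set_option linter.style.haveILetI false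

open CfsgLib.LargeExtraspecial CfsgLib.SpFourThree70

namespace CfsgLib.USixRec

open CfsgLib.ExtraNine (app spanList spanList_induction)

universe u

theorem zero_mem_spanList : ∀ l : List ℕ, (0 : ℕ) ∈ spanList l
  | [] => List.mem_singleton_self 0
  | v :: vs => by
    simp only [spanList, List.mem_dedup, List.mem_append]
    exact Or.inl (zero_mem_spanList vs)

theorem mem_spanList : ∀ {l : List ℕ} {b : ℕ}, b ∈ l → b ∈ spanList l
  | v :: vs, b, hb => by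
    simp only [spanList, List.mem_dedup, List.mem_append, List.mem_map]
    rcases List.mem_cons.1 hb with rfl | h
    · exact Or.inr ⟨0, zero_mem_spanList vs, Nat.xor_zero _⟩
    · exact Or.inl (mem_spanList h)

/-- A conjugate of `z` commuting with `z`, outside `Q`. -/
structure Out {G : Type u} [Group G] (S : Shape G) where
  /-- the conjugating element -/
  g : G
  comm : g * S.z * g⁻¹ * S.z = S.z * (g * S.z * g⁻¹)
  notMem : g * S.z * g⁻¹ ∉ S.Q

namespace Out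

variable {G : Type u} [Group G] {S : Shape G} (o : Out S)

/-- The conjugate. -/
def t : G := o.g * S.z * o.g⁻¹

/-- Its extraspecial subgroup. -/
def T : Subgroup G := S.Q.map (MulAut.conj o.g).toMonoidHom

theorem mem_T {x : G} : x ∈ o.T ↔ o.g⁻¹ * x * o.g ∈ S.Q := by
  constructor
  · rintro ⟨y, hy, rfl⟩
    simpa [mul_assoc] using hy
  · exact fun h => ⟨_, h, by simp [mul_assoc]⟩

theorem t_comm : o.t * S.z = S.z * o.t := o.comm

/-- `t` in `C(z)`. -/
def tC : ↥(Subgroup.centralizer ({S.z} : Set G)) := ⟨o.t, S.mem_C o.t_comm⟩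

/-- The image of `t`. -/
def τ : P := S.ρ o.tC

theorem t_sq : o.t * o.t = 1 := by
  rw [t, show o.g * S.z * o.g⁻¹ * (o.g * S.z * o.g⁻¹) = o.g * (S.z * S.z) * o.g⁻¹ by group,
    S.sub.mul_self]
  group

theorem t_inv : o.t⁻¹ = o.t := inv_eq_of_mul_eq_one_right o.t_sq

theorem τ_sq : o.τ * o.τ = 1 := by
  rw [τ, ← map_mul]
  convert map_one S.ρ
  exact Subtype.ext o.t_sq

theorem τ_ne : o.τ ≠ 1 := fun h => o.notMem ((S.ρ_ker o.tC).1 h)

theorem conj_eq_t {a x : G} (ha : a * o.t = o.t * a) (hx : x ∈ o.T) : a * x * a⁻¹ ∈ o.T := by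
  rw [mem_T] at hx ⊢
  have hc : o.g⁻¹ * a * o.g * S.z = S.z * (o.g⁻¹ * a * o.g) := by
    calc o.g⁻¹ * a * o.g * S.z = o.g⁻¹ * (a * o.t) * o.g := by rw [t]; group
      _ = o.g⁻¹ * (o.t * a) * o.g := by rw [ha]
      _ = _ := by rw [t]; group
  have h := S.sub.conj_mem hc hx
  convert h using 1
  group

theorem T_comm {x : G} (hx : x ∈ o.T) : x * o.t = o.t * x := by
  obtain ⟨y, hy, rfl⟩ := hx
  show o.g * y * o.g⁻¹ * (o.g * S.z * o.g⁻¹) = o.g * S.z * o.g⁻¹ * (o.g * y * o.g⁻¹)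
  rw [show o.g * y * o.g⁻¹ * (o.g * S.z * o.g⁻¹) = o.g * (y * S.z) * o.g⁻¹ by group,
    show o.g * S.z * o.g⁻¹ * (o.g * y * o.g⁻¹) = o.g * (S.z * y) * o.g⁻¹ by group, S.sub.z_comm hy]

theorem t_mem_T : o.t ∈ o.T := ⟨S.z, S.sub.z_mem, rfl⟩

/-- The intersection of the two extraspecial subgroups. -/
def K : Subgroup G := S.Q ⊓ o.T

/-- The centralizer of `t` in `Q`. -/
def C : Subgroup G := S.Q ⊓ Subgroup.centralizer ({o.t} : Set G)

theorem mem_C_iff {x : G} : x ∈ o.C ↔ x ∈ S.Q ∧ x * o.t = o.t * x := by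
  rw [C, Subgroup.mem_inf, Subgroup.mem_centralizer_singleton_iff]

theorem K_le_C : o.K ≤ o.C := fun _ hx => o.mem_C_iff.2 ⟨hx.1, o.T_comm hx.2⟩

theorem z_mem_C : S.z ∈ o.C := o.mem_C_iff.2 ⟨S.sub.z_mem, o.t_comm.symm⟩

variable [Finite G]

omit [Finite G] in
theorem t_ne_z : o.t ≠ S.z := fun h => o.notMem (by rw [← t, h]; exact S.sub.z_mem)

/-- `t` is the only conjugate of `z` in its subgroup. -/
theorem eq_t {x : G} (hx : x ∈ o.T) (hc : IsConj S.z x) : x = o.t := by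
  obtain ⟨h, rfl⟩ := isConj_iff.1 hc
  obtain ⟨F⟩ := exists_frame S
  have hm : o.g⁻¹ * h * S.z * (o.g⁻¹ * h)⁻¹ ∈ S.Q := by
    have := o.mem_T.1 hx
    convert this using 1
    group
  have := Shape.eq_z_of_mem F hm
  rw [t, ← congrArg (fun y => o.g * y * o.g⁻¹) this]
  group

theorem z_not_mem : S.z ∉ o.T := fun h => o.t_ne_z (o.eq_t h (IsConj.refl _)).symm

theorem eq_one_of_isConj {u : G} (hu : u ∈ o.T) (hc : IsConj S.z (o.t * u)) : u = 1 :=
  mul_eq_left.1 (o.eq_t (mul_mem o.t_mem_T hu) hc)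

theorem K_comm {k x : G} (hk : k ∈ o.K) (hx : x ∈ o.C) : x * k = k * x := by
  obtain ⟨hxQ, hxt⟩ := o.mem_C_iff.1 hx
  rcases S.sub.comm_eq hxQ hk.1 with e | e
  · exact mul_inv_eq_iff_eq_mul.1 (mul_inv_eq_one.1 e)
  · exact absurd (e ▸ mul_mem (o.conj_eq_t hxt hk.2) (inv_mem hk.2)) o.z_not_mem

/-- The centre of `C`. -/
def Zc : Subgroup G := o.C ⊓ Subgroup.centralizer (o.C : Set G)

theorem K_le_Zc : o.K ≤ o.Zc := fun _ hk =>
  ⟨o.K_le_C hk, Subgroup.mem_centralizer_iff.2 fun _ hx => o.K_comm hk hx⟩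

/-- The map of `C` to the quotient of `C(t)`. -/
def fA : ↥o.C →* P where
  toFun x := S.ρ ⟨o.g⁻¹ * x * o.g, S.mem_C (by
    have hx := (o.mem_C_iff.1 x.2).2
    calc o.g⁻¹ * x * o.g * S.z = o.g⁻¹ * ((x : G) * o.t) * o.g := by rw [t]; group
      _ = o.g⁻¹ * (o.t * x) * o.g := by rw [hx]
      _ = _ := by rw [t]; group)⟩
  map_one' := by
    refine (congrArg S.ρ ?_).trans (map_one S.ρ)
    exact Subtype.ext (show o.g⁻¹ * ((1 : o.C) : G) * o.g = (1 : G) by rw [Subgroup.coe_one]; group)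
  map_mul' x y := by
    rw [← map_mul]
    congr 1
    exact Subtype.ext (by simp only [Subgroup.coe_mul]; group)

omit [Finite G] in
theorem fA_eq_one {x : o.C} : o.fA x = 1 ↔ (x : G) ∈ o.K := by
  show S.ρ _ = 1 ↔ _
  rw [S.ρ_ker, K, Subgroup.mem_inf, mem_T]
  exact ⟨fun h => ⟨(o.mem_C_iff.1 x.2).1, h⟩, And.right⟩

/-- The image of a subgroup of `C`. -/
def im (H : Subgroup G) : Subgroup P := (H.subgroupOf o.C).map o.fA

omit [Finite G] in
theorem card_im {H : Subgroup G} (hH : H ≤ o.C) (hK : o.K ≤ H) :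
    Nat.card (o.im H) * Nat.card o.K = Nat.card H := by
  set f := o.fA.comp (H.subgroupOf o.C).subtype
  have hrange : f.range = o.im H := by
    rw [MonoidHom.range_comp, Subgroup.range_subtype]
    rfl
  have hker : Nat.card f.ker = Nat.card o.K := Nat.card_congr
    { toFun := fun x => ⟨((x : H.subgroupOf o.C) : o.C), o.fA_eq_one.1 (MonoidHom.mem_ker.1 x.2)⟩
      invFun := fun k => ⟨⟨⟨k, o.K_le_C k.2⟩, hK k.2⟩, MonoidHom.mem_ker.2 (o.fA_eq_one.2 k.2)⟩
      left_inv := fun _ => rfl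
      right_inv := fun _ => rfl }
  have h1 := Subgroup.card_eq_card_quotient_mul_card_subgroup f.ker
  rw [hker, Nat.card_congr (QuotientGroup.quotientKerEquivRange f).toEquiv, hrange,
    Nat.card_congr (Subgroup.subgroupOfEquivOfLe hH).toEquiv] at h1
  exact h1.symm

omit [Finite G] in
theorem isPGroup_im (H : Subgroup G) : IsPGroup 2 (o.im H) := by
  have hQ : IsPGroup 2 S.Q := IsPGroup.of_card (n := 9) (by rw [S.card_Q]; norm_num)
  have hC : IsPGroup 2 o.C := hQ.to_le inf_le_left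
  exact (hC.to_subgroup _).map _

omit [Finite G] in
theorem im_mono {H H' : Subgroup G} (h : H ≤ H') : o.im H ≤ o.im H' :=
  Subgroup.map_mono fun _ hx => h hx

/-- The two bounds on the image of `C` with its centre. -/
theorem im_bounds :
    Nat.card (o.im o.C) ≤ 64 ∧ (32 ≤ Nat.card (o.im o.C) → Nat.card (o.im o.Zc) ≤ 4) ∧
      (33 ≤ Nat.card (o.im o.C) → Nat.card (o.im o.Zc) ≤ 2) := by
  have hc : ∀ x ∈ o.im o.Zc, ∀ y ∈ o.im o.C, x * y = y * x := by
    rintro _ ⟨a, ha, rfl⟩ _ ⟨b, hb, rfl⟩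
    rw [← map_mul, ← map_mul]
    congr 1
    exact Subtype.ext (Subgroup.mem_centralizer_iff.1 ha.2 (b : G) hb).symm
  have hp := o.isPGroup_im o.C
  refine ⟨card_two hp, fun h => (card_centre_le hp h (o.im_mono inf_le_left) hc).1, fun h => ?_⟩
  exact (card_centre_le hp (by omega) (o.im_mono inf_le_left) hc).2 h

/-! ### Coordinates -/

variable (F : Frame S)

omit [Finite G] in
theorem conj_mem {x : G} (hx : x ∈ S.Q) : o.t * x * o.t⁻¹ ∈ S.Q := S.conj_mem' o.tC hx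

omit [Finite G] in
theorem conj_pr {x : G} (hx : x ∈ S.Q) : S.pr (o.t * x * o.t⁻¹) = S.act o.τ (S.pr x) :=
  (Shape.act_pr o.tC hx).symm

omit [Finite G] in
theorem act_ev {w : List ℕ} (hw : ∀ k ∈ w, k < 6) (hτ : wP w = o.τ) (n : ℕ) :
    S.act o.τ (psi F.e n) = psi F.e (F.K.ev w n) := hτ ▸ F.act_psi hw n

omit [Finite G] in
theorem fixed_iff {w : List ℕ} (hw : ∀ k ∈ w, k < 6) (hτ : wP w = o.τ) {x : G} (hx : x ∈ S.Q)
    {n : ℕ} (hn : n < 256) (hxn : S.pr x = psi F.e n) :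
    F.K.ev w n = n ↔ o.t * x * o.t⁻¹ = x ∨ o.t * x * o.t⁻¹ = S.z * x := by
  rw [← Shape.pr_eq_iff (o.conj_mem hx) hx, o.conj_pr hx, hxn, o.act_ev F hw hτ]
  exact ⟨congrArg _, F.heq (F.ev_lt w hn) hn⟩

/-- The value of `[t, ·]`. -/
noncomputable def cv (x : G) : ZMod 2 := Shape.zc (o.t * x * o.t⁻¹ * x⁻¹)

omit [Finite G] in
theorem cv_zero_iff {x : G} : o.cv x = 0 ↔ x * o.t = o.t * x := by
  constructor
  · intro h
    exact (mul_inv_eq_iff_eq_mul.1 (mul_inv_eq_one.1 (Shape.zc_eq_zero h))).symm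
  · intro h
    rw [cv, mul_inv_eq_one.2 (mul_inv_eq_iff_eq_mul.2 h.symm), Shape.zc_one]

omit [Finite G] in
theorem cv_mul {x y : G} (hx : x ∈ S.Q) (hxf : o.t * x * o.t⁻¹ = x ∨ o.t * x * o.t⁻¹ = S.z * x)
    (hyf : o.t * y * o.t⁻¹ = y ∨ o.t * y * o.t⁻¹ = S.z * y) : o.cv (x * y) = o.cv x + o.cv y := by
  obtain ⟨c, hc, ex⟩ : ∃ c, (c = 1 ∨ c = S.z) ∧ o.t * x * o.t⁻¹ = c * x := by
    rcases hxf with e | e
    exacts [⟨1, Or.inl rfl, e.trans (one_mul x).symm⟩, ⟨S.z, Or.inr rfl, e⟩]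
  obtain ⟨d, hd, ey⟩ : ∃ d, (d = 1 ∨ d = S.z) ∧ o.t * y * o.t⁻¹ = d * y := by
    rcases hyf with e | e
    exacts [⟨1, Or.inl rfl, e.trans (one_mul y).symm⟩, ⟨S.z, Or.inr rfl, e⟩]
  have hdx : x * d = d * x := by
    rcases hd with rfl | rfl
    exacts [by simp, S.sub.z_comm hx]
  unfold cv
  rw [show o.t * (x * y) * o.t⁻¹ = (o.t * x * o.t⁻¹) * (o.t * y * o.t⁻¹) by group, ex, ey,
    show c * x * (d * y) = c * (x * d) * y by group, hdx,
    show c * (d * x) * y * (x * y)⁻¹ = c * d by group, mul_inv_cancel_right,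
    mul_inv_cancel_right, Shape.zc_mul hc hd]

/-- The element `[t, y]`. -/
def r (y : G) : G := o.t * y * o.t⁻¹ * y⁻¹

omit [Finite G] in
theorem r_mem {y : G} (hy : y ∈ S.Q) : o.r y ∈ S.Q := mul_mem (o.conj_mem hy) (inv_mem hy)

omit [Finite G] in
theorem pr_r {y : G} (hy : y ∈ S.Q) : S.pr (o.r y) = S.act o.τ (S.pr y) + S.pr y := by
  rw [r, Shape.pr_mul (o.conj_mem hy) (inv_mem hy), Shape.pr_inv hy]
  exact congrArg (· + S.pr y) (o.conj_pr hy)

omit [Finite G] in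
theorem t_mul_r (y : G) : o.t * o.r y = y * o.t * y⁻¹ := by
  rw [r, ← mul_assoc, ← mul_assoc, ← mul_assoc, o.t_sq, one_mul, t_inv]

omit [Finite G] in
theorem isConj_t : IsConj S.z o.t := isConj_iff.2 ⟨o.g, rfl⟩

omit [Finite G] in
theorem isConj_t_r (y : G) : IsConj S.z (o.t * o.r y) := by
  rw [o.t_mul_r]
  exact o.isConj_t.trans (isConj_iff.2 ⟨y, rfl⟩)

theorem r_mem_T_iff {y : G} (h : o.r y ∈ o.T) : o.r y = 1 := o.eq_one_of_isConj h (o.isConj_t_r y)

omit [Finite G] in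
theorem t_conj_r (y : G) : o.t * o.r y * o.t⁻¹ = (o.r y)⁻¹ := by
  simp only [r, mul_inv_rev, inv_inv, o.t_inv]
  rw [show o.t * (o.t * y * o.t * y⁻¹) * o.t = (o.t * o.t) * (y * o.t * y⁻¹ * o.t) by group, o.t_sq,
    one_mul]
  group

omit [Finite G] in
theorem cv_r {y : G} (hy : y ∈ S.Q) : o.cv (o.r y) = S.q (S.pr (o.r y)) := by
  rw [Shape.q_pr (o.r_mem hy), cv, o.t_conj_r]
  rcases S.sub.sq_eq (o.r_mem hy) with e | e
  · rw [e, ← mul_inv_rev, e, inv_one]
  · rw [e, ← mul_inv_rev, e, inv_eq_of_mul_eq_one_right S.sub.mul_self]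

omit [Finite G] in
/-- An element over the image of `1 + τ` is `[t, y]` or `z [t, y]`. -/
theorem exists_r {w : List ℕ} (hw : ∀ k ∈ w, k < 6) (hτ : wP w = o.τ)
    {d : List ℕ × List ℕ × List ℕ} (hd : FixOK F.K w d) {x : G} (hx : x ∈ S.Q) {a : ℕ}
    (ha : a ∈ d.2.1) (hxa : S.pr x = psi F.e a) : ∃ y ∈ S.Q, x = o.r y ∨ x = S.z * o.r y := by
  obtain ⟨-, -, p, hp, hpa⟩ := hd.2.2.2.1 a ha
  obtain ⟨y, hy, hyp⟩ := Shape.pr_surj (psi F.e p)
  refine ⟨y, hy, (Shape.pr_eq_iff hx (o.r_mem hy)).1 ?_⟩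
  rw [hxa, o.pr_r hy, hyp, o.act_ev F hw hτ, ← psi_xor, hpa]

theorem exists_bits (c : ℕ → ZMod 2) : ∀ d : ℕ, ∃ s < 2 ^ d, ∀ i < d, bitF s i = c i
  | 0 => ⟨0, Nat.one_pos, fun i hi => absurd hi (Nat.not_lt_zero i)⟩
  | d + 1 => by
    obtain ⟨s, hs, hsi⟩ := exists_bits c d
    refine ⟨s + (c d).val * 2 ^ d, ?_, fun i hi => ?_⟩
    · have : (c d).val < 2 := ZMod.val_lt (c d)
      rw [pow_succ]
      rcases (show (c d).val = 0 ∨ (c d).val = 1 by omega) with e | e <;> rw [e] <;> omega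
    · rcases Nat.lt_succ_iff_lt_or_eq.1 hi with h | rfl
      · rw [← hsi i h]
        unfold bitF
        congr 1
        obtain ⟨k, rfl⟩ : ∃ k, d = i + 1 + k := ⟨d - i - 1, by omega⟩
        rw [show (c (i + 1 + k)).val * 2 ^ (i + 1 + k) = (2 * ((c (i + 1 + k)).val * 2 ^ k)) * 2 ^ i by
          rw [pow_add, pow_add]; ring, Nat.add_mul_div_right _ _ (Nat.two_pow_pos i),
          Nat.add_mul_mod_self_left]
      · unfold bitF
        rw [Nat.add_mul_div_right _ _ (Nat.two_pow_pos i), Nat.div_eq_of_lt hs, zero_add,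
          Nat.mod_eq_of_lt (ZMod.val_lt (c i)), ZMod.natCast_zmod_val]

omit [Finite G] in
/-- The form `[t, ·]` on the fixed space. -/
theorem exists_form {w : List ℕ} (hw : ∀ k ∈ w, k < 6) (hτ : wP w = o.τ)
    {d : List ℕ × List ℕ × List ℕ} (hd : FixOK F.K w d) :
    ∃ u ∈ d.2.2, (∀ a ∈ d.2.1, bF u a = qF F.K.c a) ∧
      ∀ x ∈ S.Q, ∀ n < 256, S.pr x = psi F.e n → (x ∈ o.C ↔ n ∈ kerU d.1 u) := by
  classical
  obtain ⟨hfix, -, hlt, hW, -, -, hus, -⟩ := hd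
  choose y hy hyn using fun n => Shape.pr_surj (S := S) (psi F.e n)
  obtain ⟨s, hs, hsi⟩ := exists_bits (fun i => o.cv (y (d.1.getD i 0))) d.1.length
  obtain ⟨u, hu, -, hub⟩ := hus s hs
  have hfx : ∀ x ∈ S.Q, ∀ n ∈ spanList d.1, S.pr x = psi F.e n →
      o.t * x * o.t⁻¹ = x ∨ o.t * x * o.t⁻¹ = S.z * x := fun x hx n hn hxn =>
    (o.fixed_iff F hw hτ hx (hlt n hn) hxn).1 ((hfix n (hlt n hn)).2 hn)
  have hz : o.cv S.z = 0 := o.cv_zero_iff.2 o.t_comm.symm
  have hzf : o.t * S.z * o.t⁻¹ = S.z ∨ o.t * S.z * o.t⁻¹ = S.z * S.z :=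
    Or.inl (mul_inv_eq_iff_eq_mul.2 o.t_comm)
  have hshift : ∀ x ∈ S.Q, ∀ x' ∈ S.Q, ∀ n ∈ spanList d.1, S.pr x = psi F.e n →
      S.pr x' = psi F.e n → o.cv x = o.cv x' := by
    intro x hx x' hx' n hn e e'
    rcases (Shape.pr_eq_iff hx hx').1 (e.trans e'.symm) with rfl | rfl
    · rfl
    · rw [o.cv_mul S.sub.z_mem hzf (hfx x' hx' n hn e'), hz, zero_add]
  have hsubspan : ∀ n ∈ spanList d.1, n < 256 ∧ F.K.ev w n = n := fun n hn =>
    ⟨hlt n hn, (hfix n (hlt n hn)).2 hn⟩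
  have key : ∀ n ∈ spanList d.1, n < 256 ∧ F.K.ev w n = n ∧ o.cv (y n) = bF u n := by
    refine spanList_induction (fun n => n < 256 ∧ F.K.ev w n = n ∧ o.cv (y n) = bF u n)
      ⟨by norm_num, ?_, ?_⟩ ?_ d.1 ?_
    · exact F.heq (F.ev_lt w (by norm_num)) (by norm_num) (by rw [← o.act_ev F hw hτ, psi_zero, map_zero])
    · have h0 : bF u 0 = 0 := by
        have := bF_xor_right u 0 0
        rw [Nat.xor_self] at this
        exact left_eq_add.1 this
      rw [h0]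
      rcases (Shape.pr_eq_zero (hy 0)).1 ((hyn 0).trans (psi_zero _)) with e | e <;> rw [e]
      · exact o.cv_zero_iff.2 (by simp)
      · exact hz
    · rintro a b ⟨ha, hae, hac⟩ ⟨hb, hbe, hbc⟩
      have hab : a ^^^ b < 256 := Nat.xor_lt_two_pow (n := 8) ha hb
      have he : F.K.ev w (a ^^^ b) = a ^^^ b := by
        show mev _ _ _ = _
        rw [mev_xor]
        exact congrArg₂ (· ^^^ ·) hae hbe
      have hpr : S.pr (y a * y b) = psi F.e (a ^^^ b) := by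
        rw [Shape.pr_mul (hy a) (hy b), hyn, hyn, psi_xor]
      refine ⟨hab, he, ?_⟩
      have hab' : a ^^^ b ∈ spanList d.1 := (hfix _ hab).1 he
      rw [hshift _ (hy _) _ (mul_mem (hy a) (hy b)) _ hab' (hyn _) hpr, bF_xor_right, ← hac, ← hbc]
      exact o.cv_mul (hy a) (hfx _ (hy a) a ((hfix a ha).1 hae) (hyn a))
        (hfx _ (hy b) b ((hfix b hb).1 hbe) (hyn b))
    · intro b hb
      obtain ⟨i, hi, rfl⟩ := List.getElem_of_mem hb
      refine ⟨(hsubspan _ (mem_spanList hb)).1, (hsubspan _ (mem_spanList hb)).2, ?_⟩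
      rw [← List.getD_eq_getElem _ 0 hi, hub i hi, hsi i hi]
  refine ⟨u, hu, fun a ha => ?_, fun x hx n hn hxn => ?_⟩
  · obtain ⟨ha256, haspan, p, hp, hpa⟩ := hW a ha
    have hr : S.pr (o.r (y p)) = psi F.e a := by
      rw [o.pr_r (hy p), hyn, o.act_ev F hw hτ, ← psi_xor, hpa]
    rw [← (key a haspan).2.2, hshift _ (hy a) _ (o.r_mem (hy p)) a haspan (hyn a) hr,
      o.cv_r (hy p), hr, F.q_psi a ha256]
  · simp only [kerU, List.mem_filter, beq_iff_eq]
    constructor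
    · intro h
      have hxt := (o.mem_C_iff.1 h).2
      have hns : n ∈ spanList d.1 := (hfix n hn).1 ((o.fixed_iff F hw hτ hx hn hxn).2
        (Or.inl (mul_inv_eq_iff_eq_mul.2 hxt.symm)))
      refine ⟨hns, ?_⟩
      rw [← (key n hns).2.2, ← hshift x hx _ (hy n) n hns hxn (hyn n)]
      exact o.cv_zero_iff.2 hxt
    · rintro ⟨hns, h0⟩
      rw [← (key n hns).2.2, ← hshift x hx _ (hy n) n hns hxn (hyn n)] at h0
      exact o.mem_C_iff.2 ⟨hx, o.cv_zero_iff.1 h0⟩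

end Out

/-- The order of a subgroup of `Q` above the centre from the list of its vectors. -/
theorem card_of_list {G : Type u} [Group G] [Finite G] {S : Shape G} (F : Frame S) {H : Subgroup G}
    (hHQ : H ≤ S.Q) (hz : S.z ∈ H) {L : List ℕ} (hL : L.Nodup) (hlt : ∀ n ∈ L, n < 256)
    (hmem : ∀ x ∈ S.Q, ∀ n < 256, S.pr x = psi F.e n → (x ∈ H ↔ n ∈ L)) :
    Nat.card H = 2 * L.length := by
  classical
  choose y hy hyn using fun n => Shape.pr_surj (S := S) (psi F.e n)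
  have hin : ∀ n ∈ L, y n ∈ H := fun n hn => (hmem _ (hy n) n (hlt n hn) (hyn n)).2 hn
  let f : Bool × {n // n ∈ L.toFinset} → H := fun q =>
    ⟨(if q.1 then S.z else 1) * y q.2.1, mul_mem (by split <;> first | exact hz | exact one_mem _)
      (hin _ (List.mem_toFinset.1 q.2.2))⟩
  have hf : Function.Bijective f := by
    constructor
    · rintro ⟨a, n, hn⟩ ⟨b, m, hm⟩ e
      have e1 : (if a then S.z else 1) * y n = (if b then S.z else 1) * y m := congrArg Subtype.val e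
      have e2 := congrArg S.pr e1
      rw [Shape.pr_mul (by split <;> simp [S.sub.z_mem, one_mem]) (hy n),
        Shape.pr_mul (by split <;> simp [S.sub.z_mem, one_mem]) (hy m), hyn, hyn] at e2
      have hnm : n = m := F.heq (hlt n (List.mem_toFinset.1 hn)) (hlt m (List.mem_toFinset.1 hm))
        (by revert e2; split <;> split <;> simp)
      subst hnm
      have e3 := mul_right_cancel e1
      cases a <;> cases b <;> simp at e3 ⊢
      · exact S.sub.ne_one e3.symm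
      · exact S.sub.ne_one e3
    · rintro ⟨x, hx⟩
      obtain ⟨n, hn, hxn⟩ := F.surj (S.pr x)
      have hnL := (hmem x (hHQ hx) n hn hxn.symm).1 hx
      rcases (Shape.pr_eq_iff (hHQ hx) (hy n)).1 (hxn.symm.trans (hyn n).symm) with e | e
      · exact ⟨(false, ⟨n, List.mem_toFinset.2 hnL⟩), Subtype.ext (by simp [f, e])⟩
      · exact ⟨(true, ⟨n, List.mem_toFinset.2 hnL⟩), Subtype.ext (by simp [f, e])⟩
  rw [← Nat.card_eq_of_bijective f hf, Nat.card_prod, Nat.card_eq_finsetCard,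
    List.toFinset_card_of_nodup hL]
  simp

end CfsgLib.USixRec
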