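import Cfsg.Agent.USixRec.Out

/-!
# The class of the image of a conjugate of `z`

A conjugate `t` outside `Q` maps to a transvection and commutes with the preimage of the fixed space,
unless the module is the natural one and the image lies in the other class.
-/

set_option autoImplicit false
set_option maxRecDepth 100000
set_option linter.style.haveILetI false

open CfsgLib.LargeExtraspecial CfsgLib.SpFourThree70

namespace CfsgLib.USixRec

open CfsgLib.ExtraNine (app spanList)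

universe u

theorem wt_lt : ∀ k ∈ wt, k < 6 := by decide

theorem ws_lt : ∀ k ∈ ws, k < 6 := by decide

namespace Out

variable {G : Type u} [Group G] {S : Shape G} (o : Out S)

/-- The image is a transvection and `t` commutes with everything over its fixed space. -/
def Trans : Prop :=
  IsConj (wP wt) o.τ ∧ ∀ x ∈ S.Q, S.act o.τ (S.pr x) = S.pr x → x * o.t = o.t * x

/-- The conjugate by an element of `C(z)`. -/
def conjBy (n : ↥(Subgroup.centralizer ({S.z} : Set G))) : Out S where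
  g := (n : G) * o.g
  comm := by
    have h : (n : G) * o.g * S.z * ((n : G) * o.g)⁻¹ = (n : G) * o.t * (n : G)⁻¹ := by
      rw [t]; group
    rw [h]
    have hn := S.comm_C n
    have hn' : (n : G)⁻¹ * S.z = S.z * (n : G)⁻¹ := by
      rw [eq_mul_inv_iff_mul_eq, mul_assoc, ← hn, ← mul_assoc, inv_mul_cancel, one_mul]
    rw [mul_assoc, hn', ← mul_assoc, mul_assoc (n : G), o.t_comm, ← mul_assoc, hn]
    group
  notMem := by
    intro h
    refine o.notMem ?_
    have := S.conj_mem' n⁻¹ h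
    convert this using 1
    simp only [Subgroup.coe_inv, inv_inv]
    group

theorem conjBy_t (n : ↥(Subgroup.centralizer ({S.z} : Set G))) :
    (o.conjBy n).t = (n : G) * o.t * (n : G)⁻¹ := by
  simp [t, conjBy, mul_assoc]

theorem conjBy_τ (n : ↥(Subgroup.centralizer ({S.z} : Set G))) :
    (o.conjBy n).τ = S.ρ n * o.τ * (S.ρ n)⁻¹ := by
  rw [τ, τ, ← map_inv, ← map_mul, ← map_mul]
  congr 1
  exact Subtype.ext (o.conjBy_t n)

theorem exists_normal {w : List ℕ} (h : IsConj (wP w) o.τ) :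
    ∃ n : ↥(Subgroup.centralizer ({S.z} : Set G)), (o.conjBy n).τ = wP w := by
  obtain ⟨σ, hσ⟩ := isConj_iff.1 h
  obtain ⟨n, hn⟩ := S.ρ_surj σ⁻¹
  refine ⟨n, ?_⟩
  rw [o.conjBy_τ, hn, inv_inv, ← hσ]
  group

theorem trans_of_conjBy {n : ↥(Subgroup.centralizer ({S.z} : Set G))} (h : (o.conjBy n).Trans) :
    o.Trans := by
  obtain ⟨h1, h2⟩ := h
  rw [o.conjBy_τ] at h1 h2
  refine ⟨h1.trans (isConj_iff.2 ⟨(S.ρ n)⁻¹, by group⟩), fun x hx hfix => ?_⟩
  have h3 := h2 ((n : G) * x * (n : G)⁻¹) (S.conj_mem' n hx) (by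
    rw [← Shape.act_pr n hx, ← Shape.act_mul, inv_mul_cancel_right, Shape.act_mul, hfix])
  rw [o.conjBy_t, show (n : G) * x * (n : G)⁻¹ * ((n : G) * o.t * (n : G)⁻¹) =
      (n : G) * (x * o.t) * (n : G)⁻¹ by group,
    show (n : G) * o.t * (n : G)⁻¹ * ((n : G) * x * (n : G)⁻¹) = (n : G) * (o.t * x) * (n : G)⁻¹ by
      group] at h3
  exact mul_left_cancel (mul_right_cancel h3)

theorem K_sq [Finite G] {k : G} (hk : k ∈ o.K) : k * k = 1 :=
  (S.sub.sq_eq hk.1).resolve_right fun h => o.z_not_mem (h ▸ mul_mem hk.2 hk.2)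

theorem z_mul_t_mul_r (y : G) (hy : y ∈ S.Q) : o.t * (S.z * o.r y) = y * (S.z * o.t) * y⁻¹ := by
  rw [← mul_assoc, o.t_comm, mul_assoc, o.t_mul_r, ← mul_assoc y S.z, S.sub.z_comm hy]
  group

theorem isConj_z_mul_t {x : G} (hx : x ∈ S.Q) (h : o.t * x * o.t⁻¹ = S.z * x) :
    IsConj S.z (S.z * o.t) := by
  refine o.isConj_t.trans (isConj_iff.2 ⟨x, ?_⟩)
  have h1 : x * o.t = o.t * (S.z * x) := by
    rw [← h, ← mul_assoc, ← mul_assoc, o.t_sq, one_mul, o.t_inv]
  rw [h1, ← mul_assoc o.t, o.t_comm, mul_inv_cancel_right]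

variable [Finite G] (F : Frame S) {w : List ℕ} {d : List ℕ × List ℕ × List ℕ}

/-- When `zt` is a conjugate, nothing of `K` lies over the image of `1 + τ`. -/
theorem eq_one_of_pr_W (hw : ∀ k ∈ w, k < 6) (hτ : wP w = o.τ) (hd : FixOK F.K w d)
    (hconj : IsConj S.z (S.z * o.t)) {k : G} (hk : k ∈ o.K) {a : ℕ} (ha : a ∈ d.2.1)
    (hka : S.pr k = psi F.e a) : k = 1 := by
  obtain ⟨y, hy, e | e⟩ := o.exists_r F hw hτ hd hk.1 ha hka
  · subst e; exact o.r_mem_T_iff hk.2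
  · subst e
    refine o.eq_one_of_isConj hk.2 ?_
    rw [o.z_mul_t_mul_r y hy]
    exact hconj.trans (isConj_iff.2 ⟨y, rfl⟩)

theorem zero_mem_W (hd : FixOK F.K w d) : (0 : ℕ) ∈ d.2.1 := by
  have h := hd.2.2.2.2.1 0 (by norm_num)
  rwa [show F.K.ev w 0 = 0 from ?_] at h
  have := mev_xor F.K.mats w 0 0
  rw [Nat.xor_self, Nat.xor_self] at this
  exact this

omit [Finite G] in
/-- `z` and the vectors of the centre of `C`. -/
theorem mem_Zc_iff {u : ℕ} (hlt : ∀ n ∈ kerU d.1 u, n < 256)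
    (hC : ∀ x ∈ S.Q, ∀ n < 256, S.pr x = psi F.e n → (x ∈ o.C ↔ n ∈ kerU d.1 u)) :
    ∀ x ∈ S.Q, ∀ n < 256, S.pr x = psi F.e n → (x ∈ o.Zc ↔ n ∈ radU d.1 u) := by
  intro x hx n hn hxn
  simp only [Zc, Subgroup.mem_inf, radU, List.mem_filter, List.all_eq_true, beq_iff_eq]
  refine and_congr (hC x hx n hn hxn) ⟨fun h m hm => ?_, fun h => ?_⟩
  · obtain ⟨y, hy, hym⟩ := Shape.pr_surj (S := S) (psi F.e m)
    have hyC := (hC y hy m (hlt m hm) hym).2 hm
    rw [← F.B_psi hn (hlt m hm), ← hxn, ← hym, Shape.B_eq_zero_iff hx hy]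
    exact (Subgroup.mem_centralizer_iff.1 h y hyC).symm
  · refine Subgroup.mem_centralizer_iff.2 fun y hy => ?_
    obtain ⟨m, hm, hym⟩ := F.surj (S.pr y)
    have hyQ : y ∈ S.Q := (o.mem_C_iff.1 hy).1
    have := h m ((hC y hyQ m hm hym.symm).1 hy)
    rw [← F.B_psi hn hm, ← hxn, hym, Shape.B_eq_zero_iff hx hyQ] at this
    exact this.symm

/-- The orders of `C` and its centre. -/
theorem card_C_Zc (hd : FixOK F.K w d) {u : ℕ}
    (hC : ∀ x ∈ S.Q, ∀ n < 256, S.pr x = psi F.e n → (x ∈ o.C ↔ n ∈ kerU d.1 u)) :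
    Nat.card o.C = 2 * (kerU d.1 u).length ∧ Nat.card o.Zc = 2 * (radU d.1 u).length := by
  have hnd : (kerU d.1 u).Nodup := hd.2.1.filter _
  have hlt : ∀ n ∈ kerU d.1 u, n < 256 := fun n hn => hd.2.2.1 n (List.mem_filter.1 hn).1
  refine ⟨card_of_list F inf_le_left o.z_mem_C hnd hlt hC,
    card_of_list F (inf_le_left.trans inf_le_left) ?_ (hnd.filter _)
      (fun n hn => hlt n (List.mem_filter.1 hn).1) (o.mem_Zc_iff F hlt hC)⟩
  exact ⟨o.z_mem_C, Subgroup.mem_centralizer_iff.2 fun x hx => S.sub.z_comm (o.mem_C_iff.1 hx).1⟩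

theorem card_im_Zc {c : ℕ} (h : Nat.card o.Zc = c) : Nat.card (o.im o.Zc) * Nat.card o.K = c :=
  (o.card_im inf_le_left o.K_le_Zc).trans h

omit [Finite G] in
theorem exists_kerU (hd : FixOK F.K w d) (hw : ∀ k ∈ w, k < 6) (hτ : wP w = o.τ) {u : ℕ}
    (hlen : (kerU d.1 u).length < (spanList d.1).length)
    (hC : ∀ x ∈ S.Q, ∀ n < 256, S.pr x = psi F.e n → (x ∈ o.C ↔ n ∈ kerU d.1 u)) :
    IsConj S.z (S.z * o.t) := by
  obtain ⟨n, hn, hn'⟩ : ∃ n ∈ spanList d.1, n ∉ kerU d.1 u := by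
    by_contra! h
    have := (hd.2.1.subperm h).length_le
    omega
  have hn256 := hd.2.2.1 n hn
  obtain ⟨x, hx, hxn⟩ := Shape.pr_surj (S := S) (psi F.e n)
  refine o.isConj_z_mul_t hx (((o.fixed_iff F hw hτ hx hn256 hxn).1 ((hd.1 n hn256).2 hn)).resolve_left
    fun e => hn' ((hC x hx n hn256 hxn).1 (o.mem_C_iff.2 ⟨hx, ?_⟩)))
  exact (mul_inv_eq_iff_eq_mul.1 e).symm

/-- The transvection class, normalised. -/
theorem trans_of_wt (hp : (F.K, d) ∈ [(kA, datAT), (kP, datBT), (kM, datBT)]) (hd : FixOK F.K wt d)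
    (hτ : wP wt = o.τ) : o.Trans := by
  obtain ⟨-, hlen, hker0, -, -, hnz⟩ := formT_chk _ hp
  simp only at hlen hker0 hnz
  obtain ⟨u, hu, huW, hC⟩ := o.exists_form F wt_lt hτ hd
  by_cases hu0 : u = 0
  · subst hu0
    refine ⟨hτ ▸ IsConj.refl _, fun x hx hfix => ?_⟩
    obtain ⟨n, hn, hxn⟩ := F.surj (S.pr x)
    have hns : n ∈ spanList d.1 := (hd.1 n hn).1 <| F.heq (F.ev_lt _ hn) hn <| by
      rw [← o.act_ev F wt_lt hτ, hxn, hfix]
    exact (o.mem_C_iff.1 ((hC x hx n hn hxn.symm).2 (by rw [hker0]; exact hns))).2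
  exfalso
  obtain ⟨hk, hr, hr2⟩ := hnz u hu huW hu0
  obtain ⟨h1, h2⟩ := o.card_C_Zc F hd hC
  rw [hk] at h1
  rw [hr] at h2
  have hconj := o.exists_kerU F hd wt_lt hτ (by omega) hC
  have hle : Nat.card o.K ≤ 2 := by
    have hmem : ∀ k ∈ o.K, ∃ a ∈ radU d.1 u, a < 256 ∧ S.pr k = psi F.e a := by
      intro k hk
      obtain ⟨a, ha, hka⟩ := F.surj (S.pr k)
      exact ⟨a, ((o.mem_Zc_iff F (fun n hn => hd.2.2.1 n (List.mem_filter.1 hn).1) hC) k hk.1 a ha
        hka.symm).1 (o.K_le_Zc hk), ha, hka.symm⟩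
    have huniq : ∀ k ∈ o.K, ∀ k' ∈ o.K, k ≠ 1 → k' ≠ 1 → k = k' := by
      intro k hk k' hk' h h'
      obtain ⟨a, ha, ha256, hka⟩ := hmem k hk
      obtain ⟨a', ha', ha256', hka'⟩ := hmem k' hk'
      rcases hr2 a ha a' ha' with e | e | e
      · exact absurd (o.eq_one_of_pr_W F wt_lt hτ hd hconj hk e hka) h
      · exact absurd (o.eq_one_of_pr_W F wt_lt hτ hd hconj hk' e hka') h'
      · have h1' := o.eq_one_of_pr_W F wt_lt hτ hd hconj (mul_mem hk hk') e
          (by rw [Shape.pr_mul hk.1 hk'.1, hka, hka', psi_xor])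
        exact mul_right_cancel (b := k') (h1'.trans (o.K_sq hk').symm)
    by_cases hbot : ∃ k ∈ o.K, k ≠ 1
    · obtain ⟨k, hk, hk1⟩ := hbot
      have hsub : (o.K : Set G) ⊆ {1, k} := fun x hx => by
        by_cases h : x = 1
        · exact Or.inl h
        · exact Or.inr (huniq x hx k hk h hk1)
      have h := Set.ncard_le_ncard hsub (Set.toFinite _)
      rw [← Nat.card_coe_set_eq] at h
      exact h.trans ((Set.ncard_insert_le _ _).trans (by simp))
    · push Not at hbot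
      rw [show o.K = ⊥ from (Subgroup.eq_bot_iff_forall _).2 hbot]
      simp
  have e1 := (o.card_im le_rfl o.K_le_C).trans h1
  have e2 := o.card_im_Zc h2
  obtain ⟨-, h4, -⟩ := o.im_bounds
  have h32 : 32 ≤ Nat.card (o.im o.C) := by nlinarith
  have := h4 h32
  nlinarith

/-- The other class on the modules with three blocks does not occur. -/
theorem false_of_ws (hp : (F.K, d) ∈ [(kP, datBS), (kM, datBS)]) (hd : FixOK F.K ws d)
    (hτ : wP ws = o.τ) : False := by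
  obtain ⟨u, hu, huW, hC⟩ := o.exists_form F ws_lt hτ hd
  obtain ⟨hu0, hk, hr, hrW⟩ := formBS_chk _ hp u hu huW
  simp only at hk hr hrW
  obtain ⟨h1, h2⟩ := o.card_C_Zc F hd hC
  rw [hk] at h1
  rw [hr] at h2
  have hlen : (spanList d.1).length = 64 := by
    simp only [List.mem_cons, List.not_mem_nil, or_false, Prod.mk.injEq] at hp
    rcases hp with ⟨-, rfl⟩ | ⟨-, rfl⟩ <;> decide +kernel
  have hconj := o.exists_kerU F hd ws_lt hτ (by omega) hC
  have hK : o.K = ⊥ := (Subgroup.eq_bot_iff_forall _).2 fun k hk => by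
    obtain ⟨a, ha, hka⟩ := F.surj (S.pr k)
    exact o.eq_one_of_pr_W F ws_lt hτ hd hconj hk (hrW a
      ((o.mem_Zc_iff F (fun n hn => hd.2.2.1 n (List.mem_filter.1 hn).1) hC k hk.1 a ha hka.symm).1
        (o.K_le_Zc hk))) hka.symm
  have e1 := (o.card_im le_rfl o.K_le_C).trans h1
  have e2 := o.card_im_Zc h2
  rw [hK, Subgroup.card_bot, mul_one] at e1 e2
  have := o.im_bounds.2.2 (by omega)
  omega

/-- The transvection data for a frame. -/
theorem exists_datT : ∃ d, (F.K, d) ∈ [(kA, datAT), (kP, datBT), (kM, datBT)] ∧ FixOK F.K wt d := by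
  rcases F.kind with h | h | h <;> rw [h]
  exacts [⟨datAT, by simp, fixAT⟩, ⟨datBT, by simp, fixPT⟩, ⟨datBT, by simp, fixMT⟩]

/-- The two possibilities. -/
theorem trans_or_special (o : Out S) :
    o.Trans ∨ (F.K = kA ∧ ∃ n, (o.conjBy n).τ = wP ws) := by
  rcases inv_cases o.τ_sq o.τ_ne with h | h
  · obtain ⟨n, hn⟩ := o.exists_normal h
    obtain ⟨d, hp, hd⟩ := exists_datT F
    exact Or.inl (o.trans_of_conjBy ((o.conjBy n).trans_of_wt F hp hd hn.symm))
  · obtain ⟨n, hn⟩ := o.exists_normal h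
    rcases F.kind with hK | hK | hK
    · exact Or.inr ⟨hK, n, hn⟩
    · exact ((o.conjBy n).false_of_ws F (d := datBS) (by simp [hK]) (hK ▸ fixPS) hn.symm).elim
    · exact ((o.conjBy n).false_of_ws F (d := datBS) (by simp [hK]) (hK ▸ fixMS) hn.symm).elim

end Out

end CfsgLib.USixRec
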