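import Cfsg.Agent.USixRec.OutClass

/-!
# The conjugates of `z` in `C(z)` outside `J`

Each of them maps to a transvection and the module is the natural one; the conjugates in a coset `tJ`
are the four conjugates of `t` under `J`, `zt` is not one of them, and every element centralizing the
image of `t` has a preimage centralizing `t`.
-/

set_option autoImplicit false
set_option maxRecDepth 100000
set_option linter.style.haveILetI false

open CfsgLib.LargeExtraspecial CfsgLib.SpFourThree70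

namespace CfsgLib.USixRec

open CfsgLib.ExtraNine (app spanList)

universe u

theorem kerU_zero_chk : ∀ d ∈ [datAT, datBT, datAS], kerU d.1 0 = spanList d.1 := by decide +kernel

theorem special_chk : (radU datAS.1 0).length = 16 ∧ datAS.2.1.all (· < 256) = true := by
  decide +kernel

theorem cent_word_lt : ∀ i < 3, ∀ k ∈ centWords.getD i [], k < 6 := by decide

namespace Out

variable {G : Type u} [Group G] {S : Shape G} (o : Out S)

theorem r_mul_of_commute {y y' : G} (h : y * o.r y' = o.r y' * y) :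
    o.r (y * y') = o.r y * o.r y' := by
  have h' : y * o.r y' * y⁻¹ = o.r y' := by rw [h, mul_inv_cancel_right]
  conv_rhs => rw [← h']
  simp only [r, o.t_inv]
  rw [show o.t * y * o.t * y⁻¹ * (y * (o.t * y' * o.t * y'⁻¹) * y⁻¹) =
    o.t * y * (o.t * o.t) * y' * o.t * y'⁻¹ * y⁻¹ by group, o.t_sq]
  group

theorem conjBy_r (n : ↥(Subgroup.centralizer ({S.z} : Set G))) (y : G) :
    (o.conjBy n).r ((n : G) * y * (n : G)⁻¹) = (n : G) * o.r y * (n : G)⁻¹ := by
  rw [r, r, conjBy_t]; group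

theorem conjBy_mem_K (n : ↥(Subgroup.centralizer ({S.z} : Set G))) (x : G) :
    (n : G) * x * (n : G)⁻¹ ∈ (o.conjBy n).K ↔ x ∈ o.K := by
  simp only [K, Subgroup.mem_inf, mem_T]
  refine and_congr ⟨fun h => ?_, S.conj_mem' n⟩ ?_
  · have := S.conj_mem' n⁻¹ h
    convert this using 1
    simp only [Subgroup.coe_inv]
    group
  · rw [show (o.conjBy n).g⁻¹ * ((n : G) * x * (n : G)⁻¹) * (o.conjBy n).g = o.g⁻¹ * x * o.g by
      simp only [conjBy]; group]

/-- Another conjugate in the coset of `t`. -/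
def shift {x h : G} (hx : x ∈ S.Q) (hh : h * S.z * h⁻¹ = o.t * x) : Out S where
  g := h
  comm := by rw [hh, mul_assoc, S.sub.z_comm hx, ← mul_assoc, o.t_comm, mul_assoc]
  notMem := by
    rw [hh]
    exact fun h' => o.notMem ((Subgroup.mul_mem_cancel_right S.Q hx).1 h')

theorem shift_τ {x h : G} (hx : x ∈ S.Q) (hh : h * S.z * h⁻¹ = o.t * x) : (o.shift hx hh).τ = o.τ := by
  have e : (o.shift hx hh).tC = o.tC * ⟨x, S.Q_le hx⟩ := Subtype.ext hh
  rw [τ, e, map_mul, (S.ρ_ker ⟨x, _⟩).2 hx, mul_one]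
  rfl

theorem fixed_of_isConj {x : G} (hx : x ∈ S.Q) (hc : IsConj S.z (o.t * x)) :
    S.act o.τ (S.pr x) = S.pr x := by
  obtain ⟨h, hh⟩ := isConj_iff.1 hc
  have hsq : o.t * x * (o.t * x) = 1 := by
    rw [← hh, show h * S.z * h⁻¹ * (h * S.z * h⁻¹) = h * (S.z * S.z) * h⁻¹ by group, S.sub.mul_self]
    group
  rw [← o.conj_pr hx, ← Shape.pr_inv hx]
  congr 1
  rw [o.t_inv]
  exact eq_inv_of_mul_eq_one_left (by rw [← hsq]; group)

variable [Finite G] (F : Frame S)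

/-! ### The other class on the natural module -/

/-- The other class does not occur on the natural module either. -/
theorem false_of_special (hK : F.K = kA) (hτ : wP ws = o.τ) : False := by
  have hd : FixOK F.K ws datAS := hK ▸ fixAS
  obtain ⟨hu0, hlen, hS⟩ := formAS_chk
  obtain ⟨u, hu, huW, hC⟩ := o.exists_form F ws_lt hτ hd
  obtain rfl : u = 0 := hu0 u hu (fun a ha => by rw [huW a ha, hK])
  obtain ⟨h1, h2⟩ := o.card_C_Zc F hd hC
  rw [kerU_zero_chk _ (by simp), hlen] at h1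
  rw [special_chk.1] at h2
  rw [kerU_zero_chk _ (by simp)] at hC
  have e1 := (o.card_im le_rfl o.K_le_C).trans h1
  have e2 := o.card_im_Zc h2
  have hprW : ∀ k ∈ o.K, ∃ a ∈ datAS.2.1, S.pr k = psi F.e a := fun k hk => by
    obtain ⟨a, ha, hka⟩ := F.surj (S.pr k)
    exact ⟨a, (hS a ((hC k hk.1 a ha hka.symm).1 (o.K_le_C hk))).1, hka.symm⟩
  have hKne : o.K ≠ ⊥ := fun h => by
    rw [h, Subgroup.card_bot, mul_one] at e1 e2
    have := o.im_bounds.2.1 (by omega)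
    omega
  have hnc : ¬ IsConj S.z (S.z * o.t) := fun h => hKne <| (Subgroup.eq_bot_iff_forall _).2 fun k hk => by
    obtain ⟨a, ha, hka⟩ := hprW k hk
    exact o.eq_one_of_pr_W F ws_lt hτ hd h hk ha hka
  obtain ⟨⟨k, hk⟩, hk1'⟩ := Subgroup.ne_bot_iff_exists_ne_one.1 hKne
  have hk1 : k ≠ 1 := fun e => hk1' (Subtype.ext e)
  obtain ⟨a, ha, hka⟩ := hprW k hk
  have ha0 : a ≠ 0 := fun h => by
    rw [h, psi_zero, Shape.pr_eq_zero hk.1] at hka
    exact hka.elim hk1 fun e => o.z_not_mem (e ▸ hk.2)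
  obtain ⟨hrows, hrow⟩ := betaA_chk
  obtain ⟨row, hr, rfl⟩ := (hrows a ha).resolve_left ha0
  obtain ⟨hp, hpa, hcom, hwl, hne, hB⟩ := hrow row hr
  -- a preimage of the word centralizing `t`
  obtain ⟨m, hm, hmt⟩ : ∃ m : ↥(Subgroup.centralizer ({S.z} : Set G)),
      S.ρ m = wP row.2.2 ∧ (m : G) * o.t = o.t * m := by
    obtain ⟨m₀, hm₀⟩ := S.ρ_surj (wP row.2.2)
    have hσ : wP row.2.2 * o.τ = o.τ * wP row.2.2 := by
      rw [← hτ, ← wP_append, ← wP_append, wP_eq hcom]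
    set x : G := o.t⁻¹ * ((m₀ : G) * o.t * (m₀ : G)⁻¹) with hxdef
    have hx : x ∈ S.Q := (S.ρ_ker (o.tC⁻¹ * (m₀ * o.tC * m₀⁻¹))).1 <| by
      rw [map_mul, map_mul, map_mul, map_inv, map_inv, hm₀]
      show o.τ⁻¹ * (wP row.2.2 * o.τ * (wP row.2.2)⁻¹) = 1
      rw [hσ]; group
    have htx : o.t * x = (m₀ : G) * o.t * (m₀ : G)⁻¹ := by rw [hxdef, ← mul_assoc, mul_inv_cancel, one_mul]
    have hc : IsConj S.z (o.t * x) := htx ▸ o.isConj_t.trans (isConj_iff.2 ⟨_, rfl⟩)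
    obtain ⟨b, hb, hxb⟩ := F.surj (S.pr x)
    have hfix : F.K.ev ws b = b := F.heq (F.ev_lt _ hb) hb <| by
      rw [← o.act_ev F ws_lt hτ, hxb, o.fixed_of_isConj hx hc]
    have hbW := (hS b ((hd.1 b hb).1 hfix)).1
    obtain ⟨y, hy, e | e⟩ := o.exists_r F ws_lt hτ hd hx hbW hxb.symm
    · refine ⟨⟨y, S.Q_le hy⟩⁻¹ * m₀, by rw [map_mul, map_inv, (S.ρ_ker ⟨y, _⟩).2 hy, inv_one,
        one_mul, hm₀], ?_⟩
      rw [e, o.t_mul_r] at htx
      show y⁻¹ * (m₀ : G) * o.t = o.t * (y⁻¹ * m₀)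
      calc y⁻¹ * (m₀ : G) * o.t = y⁻¹ * ((m₀ : G) * o.t * (m₀ : G)⁻¹) * m₀ := by group
        _ = y⁻¹ * (y * o.t * y⁻¹) * m₀ := by rw [htx]
        _ = _ := by group
    · exfalso
      rw [e, o.z_mul_t_mul_r y hy] at hc
      exact hnc (hc.trans (isConj_iff.2 ⟨y⁻¹, by group⟩))
  -- the two elements
  obtain ⟨y, hy, hyp⟩ := Shape.pr_surj (S := S) (psi F.e row.2.1)
  have hev := hK ▸ o.act_ev F ws_lt hτ
  have hry : S.pr (o.r y) = psi F.e row.1 := by
    rw [o.pr_r hy, hyp, hev, ← psi_xor, hpa]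
  have hk' : k = S.z * o.r y := by
    refine ((Shape.pr_eq_iff hk.1 (o.r_mem hy)).1 (hka.trans hry.symm)).resolve_left fun e => hk1 ?_
    rw [e]; exact o.r_mem_T_iff (e ▸ hk.2)
  set y' : G := (m : G) * y * (m : G)⁻¹ with hy'def
  have hy' : y' ∈ S.Q := S.conj_mem' m hy
  have hry' : o.r y' = (m : G) * o.r y * (m : G)⁻¹ := by
    have h : (m : G) * o.t * (m : G)⁻¹ = o.t := by rw [hmt, mul_inv_cancel_right]
    rw [hy'def, r, r]
    conv_lhs => rw [← h]
    group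
  have hkm : (m : G) * k * (m : G)⁻¹ = S.z * o.r y' := by
    rw [hk', hry', ← mul_assoc (m : G), S.comm_C m]
    group
  have hkK : (m : G) * k * (m : G)⁻¹ ∈ o.K := ⟨S.conj_mem' m hk.1, o.conj_eq_t hmt hk.2⟩
  have hrlt : row.1 < 256 := of_decide_eq_true (List.all_eq_true.1 special_chk.2 _ ha)
  have hw : S.pr ((m : G) * k * (m : G)⁻¹) = psi F.e (kA.ev row.2.2 row.1) := by
    rw [← Shape.act_pr m hk.1, hm, hka, F.act_psi hwl, hK]
  have hry'pr : S.pr (o.r y') = psi F.e (kA.ev row.2.2 row.1) := by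
    rw [← hw, hkm, Shape.pr_mul S.sub.z_mem (o.r_mem hy'), Shape.pr_z, zero_add]
  have hcomm : y * o.r y' = o.r y' * y := by
    rw [← Shape.B_eq_zero_iff hy (o.r_mem hy'), hyp, hry'pr,
      F.B_psi hp (show kA.ev row.2.2 row.1 < 256 from mev_lt (mats_chk _ (by simp [kA])) _ hrlt), hB]
  have hprod : k * ((m : G) * k * (m : G)⁻¹) = o.r (y * y') := by
    rw [o.r_mul_of_commute hcomm, hk', show (m : G) * (S.z * o.r y) * (m : G)⁻¹ = S.z * o.r y' by
      rw [← hk']; exact hkm, show S.z * o.r y * (S.z * o.r y') = S.z * (o.r y * S.z) * o.r y' by group,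
      S.sub.z_comm (o.r_mem hy), ← mul_assoc S.z, S.sub.mul_self, one_mul]
  have h1' := o.r_mem_T_iff (y := y * y') (hprod ▸ mul_mem hk.2 hkK.2)
  rw [← hprod] at h1'
  have heq : (m : G) * k * (m : G)⁻¹ = k :=
    mul_left_cancel (a := k) (h1'.trans (o.K_sq hk).symm)
  rw [heq, hka] at hw
  exact hne (F.heq hrlt (mev_lt (mats_chk _ (by simp [kA])) _ hrlt) hw).symm

/-- Every conjugate outside `Q` maps to a transvection and commutes with the preimage of its fixed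
space. -/
theorem trans : o.Trans := by
  obtain ⟨F⟩ := exists_frame S
  rcases o.trans_or_special F with h | ⟨hK, n, hn⟩
  · exact h
  · exact ((o.conjBy n).false_of_special F hK hn.symm).elim

/-! ### Consequences -/

/-- The normalised statement. -/
theorem normal_facts (hτ : wP wt = o.τ) :
    ¬ IsConj S.z (S.z * o.t) ∧
    (∀ y ∈ S.Q, o.r y ≠ 1 → S.z * o.r y ∈ o.K) ∧
    (∀ k ∈ o.K, ∃ a ∈ (exists_datT F).choose.2.1, S.pr k = psi F.e a) ∧
    (∀ x ∈ S.Q, IsConj S.z (o.t * x) → ∃ y ∈ S.Q, x = o.r y) := by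
  classical
  set d := (exists_datT F).choose
  obtain ⟨hp, hd⟩ : _ ∧ FixOK F.K wt d := (exists_datT F).choose_spec
  obtain ⟨hWlen, hlen, hker0, hrad0, hradW, -⟩ := formT_chk _ hp
  simp only at hWlen hlen hker0 hrad0 hradW
  have hC : ∀ x ∈ S.Q, ∀ n < 256, S.pr x = psi F.e n → (x ∈ o.C ↔ n ∈ kerU d.1 0) := by
    intro x hx n hn hxn
    rw [hker0, ← hd.1 n hn]
    constructor
    · intro h
      exact (o.fixed_iff F wt_lt hτ hx hn hxn).2
        (Or.inl (mul_inv_eq_iff_eq_mul.2 (o.mem_C_iff.1 h).2.symm))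
    · intro h
      exact o.mem_C_iff.2 ⟨hx, o.trans.2 x hx (by rw [hxn, o.act_ev F wt_lt hτ, h])⟩
  obtain ⟨h1, h2⟩ := o.card_C_Zc F hd hC
  rw [hker0, hlen] at h1
  rw [hrad0] at h2
  have e1 := (o.card_im le_rfl o.K_le_C).trans h1
  have e2 := o.card_im_Zc h2
  have hprW : ∀ k ∈ o.K, ∃ a ∈ d.2.1, S.pr k = psi F.e a := fun k hk => by
    obtain ⟨a, ha, hka⟩ := F.surj (S.pr k)
    exact ⟨a, hradW a ((o.mem_Zc_iff F (fun n hn => hd.2.2.1 n (List.mem_filter.1 hn).1) hC k hk.1 a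
      ha hka.symm).1 (o.K_le_Zc hk)), hka.symm⟩
  obtain ⟨b64, b4, b2⟩ := o.im_bounds
  have hnc : ¬ IsConj S.z (S.z * o.t) := fun h => by
    have hbot : o.K = ⊥ := (Subgroup.eq_bot_iff_forall _).2 fun k hk => by
      obtain ⟨a, ha, hka⟩ := hprW k hk
      exact o.eq_one_of_pr_W F wt_lt hτ hd h hk ha hka
    rw [hbot, Subgroup.card_bot, mul_one] at e1
    omega
  -- at most one element of `K` over each vector
  have huniq : ∀ k ∈ o.K, ∀ k' ∈ o.K, S.pr k = S.pr k' → k = k' := by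
    intro k hk k' hk' h
    refine ((Shape.pr_eq_iff hk.1 hk'.1).1 h).resolve_right fun e => o.z_not_mem ?_
    have := (mul_mem hk (inv_mem hk')).2
    rwa [e, mul_inv_cancel_right] at this
  choose fa hfa hfap using fun k : o.K => hprW k k.2
  have hfinj : Function.Injective fun k : o.K => (⟨fa k, List.mem_toFinset.2 (hfa k)⟩ : d.2.1.toFinset) :=
    fun k k' h => Subtype.ext (huniq k k.2 k' k'.2 (by
      have h' : fa k = fa k' := congrArg Subtype.val h
      rw [hfap k, hfap k', h']))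
  have hle : Nat.card o.K ≤ 4 := by
    refine (Nat.card_le_card_of_injective _ hfinj).trans ?_
    rw [Nat.card_eq_finsetCard]
    exact (List.toFinset_card_le _).trans hWlen.le
  have hge : 4 ≤ Nat.card o.K := by
    by_contra h
    have hne : Nat.card o.K ≠ 3 := fun h3 => by rw [h3] at e1; omega
    have h2' : Nat.card o.K ≤ 2 := by omega
    have h3 : 33 ≤ Nat.card (o.im o.C) := by nlinarith
    have := b2 h3
    nlinarith
  have hfsurj : Function.Surjective fun k : o.K => (⟨fa k, List.mem_toFinset.2 (hfa k)⟩ : d.2.1.toFinset) :=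
    (hfinj.bijective_of_nat_card_le (by
      rw [Nat.card_eq_finsetCard]
      exact ((List.toFinset_card_le _).trans hWlen.le).trans hge)).2
  refine ⟨hnc, fun y hy hr1 => ?_, hprW, fun x hx hc => ?_⟩
  · obtain ⟨n, hn, hyn⟩ := F.surj (S.pr (o.r y))
    have hnW : n ∈ d.2.1 := by
      obtain ⟨p, hp256, hyp⟩ := F.surj (S.pr y)
      have : n = F.K.ev wt p ^^^ p := by
        refine F.heq hn (Nat.xor_lt_two_pow (n := 8) (F.ev_lt _ hp256) hp256) ?_
        rw [hyn, o.pr_r hy, ← hyp, o.act_ev F wt_lt hτ, psi_xor]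
      rw [this]
      exact hd.2.2.2.2.1 p hp256
    obtain ⟨k, hk⟩ := hfsurj ⟨n, List.mem_toFinset.2 hnW⟩
    have hk' : fa k = n := congrArg Subtype.val hk
    have hka : S.pr (k : G) = psi F.e n := by rw [hfap k, hk']
    rcases (Shape.pr_eq_iff k.2.1 (o.r_mem hy)).1 (hka.trans hyn) with e | e
    · exact absurd (o.r_mem_T_iff (e ▸ k.2.2)) hr1
    · exact e ▸ k.2
  · obtain ⟨n, hn, hxn⟩ := F.surj (S.pr x)
    obtain ⟨h, hh⟩ := isConj_iff.1 hc
    have ho' := (o.shift hx hh).trans.2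
    rw [o.shift_τ hx hh] at ho'
    have hperp : n ∈ d.2.1 := by
      refine hd.2.2.2.2.2.1 n hn fun b hb => ?_
      have hb256 := hd.2.2.1 b (mem_spanList hb)
      obtain ⟨v, hv, hvb⟩ := Shape.pr_surj (S := S) (psi F.e b)
      have hvfix : S.act o.τ (S.pr v) = S.pr v := by
        rw [hvb, o.act_ev F wt_lt hτ, (hd.1 b hb256).2 (mem_spanList hb)]
      have e := o.trans.2 v hv hvfix
      have e' : v * (o.t * x) = o.t * x * v := by
        have := ho' v hv hvfix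
        rwa [show (o.shift hx hh).t = o.t * x from hh] at this
      rw [← F.B_psi hn hb256, hxn, ← hvb, Shape.B_eq_zero_iff hx hv]
      refine mul_left_cancel (a := o.t) ?_
      rw [← mul_assoc, ← e', ← mul_assoc, e, mul_assoc]
    obtain ⟨y, hy, e | e⟩ := o.exists_r F wt_lt hτ hd hx hperp hxn.symm
    · exact ⟨y, hy, e⟩
    · exfalso
      rw [e, o.z_mul_t_mul_r y hy] at hc
      exact hnc (hc.trans (isConj_iff.2 ⟨y⁻¹, by group⟩))

/-- `zt` is not a conjugate of `z`. -/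
theorem not_isConj_z_t : ¬ IsConj S.z (S.z * o.t) := by
  obtain ⟨F⟩ := exists_frame S
  obtain ⟨n, hn⟩ := o.exists_normal o.trans.1
  intro h
  refine ((o.conjBy n).normal_facts F hn.symm).1 (h.trans (isConj_iff.2 ⟨(n : G), ?_⟩))
  rw [o.conjBy_t, ← mul_assoc, S.comm_C n]
  group

/-- The elements of `K` over the image of `1 + τ`. -/
theorem z_mul_r_mem {y : G} (hy : y ∈ S.Q) (h : o.r y ≠ 1) : S.z * o.r y ∈ o.K := by
  obtain ⟨F⟩ := exists_frame S
  obtain ⟨n, hn⟩ := o.exists_normal o.trans.1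
  have hy' := S.conj_mem' n hy
  rw [← o.conjBy_mem_K n]
  have := ((o.conjBy n).normal_facts F hn.symm).2.1 _ hy' (by
    rw [o.conjBy_r n]; simpa using h)
  rw [o.conjBy_r n] at this
  convert this using 1
  rw [← mul_assoc, S.comm_C n]
  group

/-- The conjugates in a coset are those under `Q`. -/
theorem exists_conj_of_coset {x : G} (hx : x ∈ S.Q) (hc : IsConj S.z (o.t * x)) :
    ∃ y ∈ S.Q, o.t * x = y * o.t * y⁻¹ := by
  obtain ⟨F⟩ := exists_frame S
  obtain ⟨n, hn⟩ := o.exists_normal o.trans.1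
  have hc' : IsConj S.z ((o.conjBy n).t * ((n : G) * x * (n : G)⁻¹)) :=
    hc.trans (isConj_iff.2 ⟨(n : G), by rw [o.conjBy_t]; group⟩)
  obtain ⟨y', hy', e⟩ := ((o.conjBy n).normal_facts F hn.symm).2.2.2 _ (S.conj_mem' n hx) hc'
  refine ⟨(n : G)⁻¹ * y' * n, ?_, ?_⟩
  · have := S.conj_mem' n⁻¹ hy'
    simpa using this
  · rw [← o.t_mul_r]
    congr 1
    have h := o.conjBy_r n ((n : G)⁻¹ * y' * n)
    rw [show (n : G) * ((n : G)⁻¹ * y' * n) * (n : G)⁻¹ = y' by group, ← e] at h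
    exact mul_left_cancel (mul_right_cancel h)

/-- The centralizer of the image lifts. -/
theorem exists_lift {σ : P} (hσ : σ * o.τ = o.τ * σ) :
    ∃ m : ↥(Subgroup.centralizer ({S.z} : Set G)), S.ρ m = σ ∧ (m : G) * o.t = o.t * m := by
  obtain ⟨m₀, hm₀⟩ := S.ρ_surj σ
  set x : G := o.t⁻¹ * ((m₀ : G) * o.t * (m₀ : G)⁻¹) with hxdef
  have hx : x ∈ S.Q := (S.ρ_ker (o.tC⁻¹ * (m₀ * o.tC * m₀⁻¹))).1 <| by
    rw [map_mul, map_mul, map_mul, map_inv, map_inv, hm₀]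
    show o.τ⁻¹ * (σ * o.τ * σ⁻¹) = 1
    rw [hσ]; group
  have htx : o.t * x = (m₀ : G) * o.t * (m₀ : G)⁻¹ := by
    rw [hxdef, ← mul_assoc, mul_inv_cancel, one_mul]
  obtain ⟨y, hy, e⟩ := o.exists_conj_of_coset hx (htx ▸ o.isConj_t.trans (isConj_iff.2 ⟨_, rfl⟩))
  refine ⟨⟨y, S.Q_le hy⟩⁻¹ * m₀, by rw [map_mul, map_inv, (S.ρ_ker ⟨y, _⟩).2 hy, inv_one,
    one_mul, hm₀], ?_⟩
  rw [htx] at e
  show y⁻¹ * (m₀ : G) * o.t = o.t * (y⁻¹ * m₀)
  calc y⁻¹ * (m₀ : G) * o.t = y⁻¹ * ((m₀ : G) * o.t * (m₀ : G)⁻¹) * m₀ := by group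
    _ = y⁻¹ * (y * o.t * y⁻¹) * m₀ := by rw [e]
    _ = _ := by group

/-- The same situation seen from `t`. -/
def swap : Out S where
  g := o.g⁻¹
  comm := by
    have h := congrArg (fun x => o.g⁻¹ * x * o.g) o.comm
    calc o.g⁻¹ * S.z * o.g⁻¹⁻¹ * S.z = o.g⁻¹ * (S.z * (o.g * S.z * o.g⁻¹)) * o.g := by group
      _ = o.g⁻¹ * (o.g * S.z * o.g⁻¹ * S.z) * o.g := h.symm
      _ = _ := by group
  notMem := fun h => o.z_not_mem (o.mem_T.2 (by simpa using h))

/-- The module is the natural one. -/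
theorem kind_eq (o : Out S) : F.K = kA := by
  by_contra hK
  obtain ⟨n, hn⟩ := o.exists_normal o.trans.1
  generalize o.conjBy n = o at hn
  clear n
  obtain ⟨d', hd⟩ : ∃ d', d' = (exists_datT F).choose := ⟨_, rfl⟩
  obtain ⟨hp, hdOK⟩ : _ ∧ FixOK F.K wt d' := hd ▸ (exists_datT F).choose_spec
  have hKB : F.K ∈ [kP, kM] := by rcases F.kind with h | h | h <;> simp [h] at hK ⊢
  obtain ⟨hfix64, hW64⟩ := plane_chk F.K hKB
  have hd' : d'.2.1 = datBT.2.1 := by
    simp only [List.mem_cons, List.not_mem_nil, or_false, Prod.mk.injEq] at hp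
    rcases hp with ⟨h, -⟩ | ⟨-, rfl⟩ | ⟨-, rfl⟩
    exacts [absurd h hK, rfl, rfl]
  have hev : ∀ w : List ℕ, (∀ k ∈ w, k < 6) → F.K.ev w 64 = 64 := by
    intro w
    induction w with
    | nil => exact fun _ => rfl
    | cons k w ih =>
      intro hw
      show app (F.K.mats.getD k []) (F.K.ev w 64) = 64
      rw [ih fun j hj => hw j (List.mem_cons_of_mem _ hj), hfix64 k (hw k List.mem_cons_self)]
  have hall : ∀ σ : P, S.act σ (psi F.e 64) = psi F.e 64 := by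
    intro σ
    obtain ⟨w, hw, -, hev'⟩ := F.exists_ev σ
    rw [hev', hev w hw]
  obtain ⟨x, hx, hxp⟩ := Shape.pr_surj (S := S) (psi F.e 64)
  have hxC : x ∈ o.C := o.mem_C_iff.2 ⟨hx, o.trans.2 x hx (hxp ▸ hall _)⟩
  set y : P := o.fA ⟨x, hxC⟩ with hy
  set q := o.swap with hq
  have hqt : q.t = o.g⁻¹ * S.z * o.g := by simp [hq, swap, t]
  have hz : o.fA ⟨S.z, o.z_mem_C⟩ = q.τ := congrArg S.ρ (Subtype.ext hqt.symm)
  have hyτ : y * q.τ = q.τ * y := by
    rw [hy, ← hz, ← map_mul, ← map_mul]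
    exact congrArg o.fA (Subtype.ext (S.sub.z_comm hx))
  have hcomm : ∀ σ : P, σ * q.τ = q.τ * σ → σ * y * σ⁻¹ * y⁻¹ = 1 ∨ σ * y * σ⁻¹ * y⁻¹ = q.τ := by
    intro σ hσ
    obtain ⟨m, rfl, hmq⟩ := q.exists_lift hσ
    rw [hqt] at hmq
    have hnz : o.g * m * o.g⁻¹ * S.z = S.z * (o.g * m * o.g⁻¹) := by
      calc o.g * m * o.g⁻¹ * S.z = o.g * ((m : G) * (o.g⁻¹ * S.z * o.g)) * o.g⁻¹ := by group
        _ = o.g * (o.g⁻¹ * S.z * o.g * m) * o.g⁻¹ := by rw [hmq]
        _ = _ := by group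
    set n : ↥(Subgroup.centralizer ({S.z} : Set G)) := ⟨_, S.mem_C hnz⟩
    have hnx : (n : G) * x * (n : G)⁻¹ = x ∨ (n : G) * x * (n : G)⁻¹ = S.z * x := by
      refine (Shape.pr_eq_iff (S.conj_mem' n hx) hx).1 ?_
      rw [← Shape.act_pr n hx, hxp]
      exact hall _
    set a : ↥(Subgroup.centralizer ({S.z} : Set G)) := ⟨o.g⁻¹ * x * o.g, S.mem_C (by
      calc o.g⁻¹ * x * o.g * S.z = o.g⁻¹ * (x * o.t) * o.g := by rw [t]; group
        _ = o.g⁻¹ * (o.t * x) * o.g := by rw [(o.mem_C_iff.1 hxC).2]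
        _ = _ := by rw [t]; group)⟩
    have hya : y = S.ρ a := rfl
    rw [hya, ← map_inv, ← map_inv, ← map_mul, ← map_mul, ← map_mul]
    rcases hnx with e | e
    · left
      convert map_one S.ρ
      refine Subtype.ext ?_
      calc (m : G) * (o.g⁻¹ * x * o.g) * (m : G)⁻¹ * (o.g⁻¹ * x * o.g)⁻¹
          = o.g⁻¹ * ((o.g * m * o.g⁻¹) * x * (o.g * m * o.g⁻¹)⁻¹ * x⁻¹) * o.g := by group
        _ = 1 := by rw [show (o.g * m * o.g⁻¹) * x * (o.g * m * o.g⁻¹)⁻¹ = x from e]; group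
    · right
      refine congrArg S.ρ (Subtype.ext ?_)
      calc (m : G) * (o.g⁻¹ * x * o.g) * (m : G)⁻¹ * (o.g⁻¹ * x * o.g)⁻¹
          = o.g⁻¹ * ((o.g * m * o.g⁻¹) * x * (o.g * m * o.g⁻¹)⁻¹ * x⁻¹) * o.g := by group
        _ = q.t := by
          rw [show (o.g * m * o.g⁻¹) * x * (o.g * m * o.g⁻¹)⁻¹ = S.z * x from e, hqt]; group
  have hcases : y = 1 ∨ y = q.τ := by
    obtain ⟨k, hk⟩ := isConj_iff.1 q.trans.1
    have h0 : k⁻¹ * y * k * wP wt = wP wt * (k⁻¹ * y * k) := by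
      have := congrArg (fun a => k⁻¹ * a * k) hyτ
      simp only [← hk] at this
      calc k⁻¹ * y * k * wP wt = k⁻¹ * (y * (k * wP wt * k⁻¹)) * k := by group
        _ = k⁻¹ * (k * wP wt * k⁻¹ * y) * k := this
        _ = _ := by group
    suffices hgen : ∀ i < 3, _ ∨ _ by
      rcases eq_of_comm_mod h0 hgen with e | e
      · left
        rw [show y = k * (k⁻¹ * y * k) * k⁻¹ by group, e, mul_one, mul_inv_cancel]
      · right
        rw [show y = k * (k⁻¹ * y * k) * k⁻¹ by group, e, hk]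
    intro i hi
    set c := wP (centWords.getD i []) with hc
    have hcw : c * wP wt = wP wt * c := by
      rw [hc, ← wP_append, ← wP_append, wP_eq (cent_word_comm i hi)]
    have hσ : k * c * k⁻¹ * q.τ = q.τ * (k * c * k⁻¹) := by
      rw [← hk]
      calc k * c * k⁻¹ * (k * wP wt * k⁻¹) = k * (c * wP wt) * k⁻¹ := by group
        _ = k * (wP wt * c) * k⁻¹ := by rw [hcw]
        _ = _ := by group
    have hττ : (wP wt)⁻¹ = wP wt := by
      have h := q.τ_sq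
      rw [← hk] at h
      refine inv_eq_of_mul_eq_one_right (mul_left_cancel (a := k) (mul_right_cancel (b := k⁻¹) ?_))
      calc k * (wP wt * wP wt) * k⁻¹ = k * wP wt * k⁻¹ * (k * wP wt * k⁻¹) := by group
        _ = k * 1 * k⁻¹ := by rw [h]; group
    have heq : k⁻¹ * y * k * c * (k⁻¹ * y * k)⁻¹ * c⁻¹ =
        k⁻¹ * (k * c * k⁻¹ * y * (k * c * k⁻¹)⁻¹ * y⁻¹)⁻¹ * k := by group
    rw [heq]
    rcases hcomm _ hσ with e | e <;> rw [e]
    · left; group
    · right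
      rw [← hk]
      conv_rhs => rw [← hττ]
      group
  obtain ⟨k, hk, hkx⟩ : ∃ k ∈ o.K, S.pr k = S.pr x := by
    rcases hcases with e | e
    · exact ⟨x, o.fA_eq_one.1 (hy ▸ e), rfl⟩
    · refine ⟨x * S.z, ?_, by rw [Shape.pr_mul hx S.sub.z_mem, Shape.pr_z, add_zero]⟩
      have : o.fA (⟨x, hxC⟩ * ⟨S.z, o.z_mem_C⟩) = 1 := by
        rw [map_mul, ← hy, hz, e, q.τ_sq]
      exact o.fA_eq_one.1 this
  obtain ⟨a, ha, hka⟩ := (o.normal_facts F hn.symm).2.2.1 k hk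
  rw [← hd] at ha
  have ha256 := (hdOK.2.2.2.1 a ha).1
  rw [hd'] at ha
  rw [hkx, hxp] at hka
  exact hW64 (F.heq (by norm_num) ha256 hka ▸ ha)

end Out

end CfsgLib.USixRec
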