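import Cfsg.Agent.LargeExtraspecial.PairNormalizer
import Cfsg.Agent.ExtraspecialBasic.DoubleCentralizer
import Cfsg.Agent.USixRec.Group

/-!
# An involution centralizer `2^{1+8}.PSp₄(3)`: the vector space `J / Z(J)` with its forms

Adapted from `Cfsg.Agent.ExtraNine.Setup`, with the quotient `PSp₄(3)`.
-/

set_option autoImplicit false
set_option linter.style.haveILetI false

open CfsgLib.LargeExtraspecial CfsgLib.SpFourThree70

namespace CfsgLib.USixRec

universe u

/-- An involution centralizer with `Q = O₂` extraspecial of order `2⁹` and quotient `PSp₄(3)`. -/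
structure Shape (G : Type u) [Group G] where
  /-- the involution -/
  z : G
  /-- the extraspecial subgroup -/
  Q : Subgroup G
  sub : IsZSub Q z
  card_Q : Nat.card Q = 512
  /-- the quotient map -/
  ρ : ↥(Subgroup.centralizer ({z} : Set G)) →* P
  ρ_surj : Function.Surjective ρ
  ρ_ker : ∀ m, ρ m = 1 ↔ (m : G) ∈ Q
  faithful : ∀ m ∈ Subgroup.centralizer ({z} : Set G),
    (∀ e ∈ Q, e⁻¹ * (m * e * m⁻¹) = 1 ∨ e⁻¹ * (m * e * m⁻¹) = z) → m ∈ Q

namespace Shape

variable {G : Type u} [Group G] (S : Shape G)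

theorem mem_C {x : G} (hx : x * S.z = S.z * x) : x ∈ Subgroup.centralizer ({S.z} : Set G) :=
  Subgroup.mem_centralizer_singleton_iff.mpr hx

theorem comm_C (m : ↥(Subgroup.centralizer ({S.z} : Set G))) : (m : G) * S.z = S.z * m :=
  Subgroup.mem_centralizer_singleton_iff.mp m.2

theorem Q_le {x : G} (hx : x ∈ S.Q) : x ∈ Subgroup.centralizer ({S.z} : Set G) :=
  S.mem_C (S.sub.z_comm hx)

theorem conj_mem' (m : ↥(Subgroup.centralizer ({S.z} : Set G))) {x : G} (hx : x ∈ S.Q) :
    (m : G) * x * (m : G)⁻¹ ∈ S.Q :=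
  S.sub.conj_mem (S.comm_C m) hx

theorem mem_center_iff (a : S.Q) : a ∈ Subgroup.center S.Q ↔ (a : G) = 1 ∨ (a : G) = S.z := by
  constructor
  · intro h
    exact S.sub.eq_or_eq ⟨a, h, rfl⟩
  · intro h
    obtain ⟨b, hb, hbe⟩ : (a : G) ∈ (Subgroup.center S.Q).map S.Q.subtype := by
      rcases h with h | h <;> rw [h]
      · exact one_mem _
      · exact S.sub.mem_center
    rwa [show a = b from Subtype.ext hbe.symm]

/-- `Q / Z(Q)` written additively. -/
abbrev Vec := Additive (↥S.Q ⧸ Subgroup.center ↥S.Q)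

instance vecAdd : AddCommGroup S.Vec :=
  { (inferInstance : AddGroup S.Vec) with
    add_comm := by
      intro a b
      obtain ⟨a, rfl⟩ := Additive.ofMul.surjective a
      obtain ⟨b, rfl⟩ := Additive.ofMul.surjective b
      rw [← ofMul_mul, ← ofMul_mul]
      congr 1
      induction a using QuotientGroup.induction_on with | _ a =>
      induction b using QuotientGroup.induction_on with | _ b =>
      rw [← QuotientGroup.mk_mul, ← QuotientGroup.mk_mul, QuotientGroup.eq, S.mem_center_iff]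
      have h := S.sub.comm_eq (S.Q.inv_mem b.2) (S.Q.inv_mem a.2)
      simpa [mul_assoc] using h }

open Classical in
/-- The vector of an element of `Q`; zero outside `Q`. -/
noncomputable def pr (x : G) : S.Vec :=
  if h : x ∈ S.Q then Additive.ofMul (QuotientGroup.mk ⟨x, h⟩) else 0

variable {S}

theorem pr_of_mem {x : G} (hx : x ∈ S.Q) :
    S.pr x = Additive.ofMul (QuotientGroup.mk ⟨x, hx⟩) := dif_pos hx

theorem pr_mul {x y : G} (hx : x ∈ S.Q) (hy : y ∈ S.Q) : S.pr (x * y) = S.pr x + S.pr y := by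
  rw [pr_of_mem hx, pr_of_mem hy, pr_of_mem (S.Q.mul_mem hx hy), ← ofMul_mul,
    ← QuotientGroup.mk_mul]
  rfl

theorem pr_eq_zero {x : G} (hx : x ∈ S.Q) : S.pr x = 0 ↔ x = 1 ∨ x = S.z := by
  rw [pr_of_mem hx, ← ofMul_one, Additive.ofMul.apply_eq_iff_eq, QuotientGroup.eq_one_iff,
    S.mem_center_iff]

@[simp] theorem pr_one : S.pr 1 = 0 := (pr_eq_zero S.Q.one_mem).mpr (Or.inl rfl)

@[simp] theorem pr_z : S.pr S.z = 0 := (pr_eq_zero S.sub.z_mem).mpr (Or.inr rfl)

theorem add_self' (v : S.Vec) : v + v = 0 := by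
  obtain ⟨v, rfl⟩ := Additive.ofMul.surjective v
  induction v using QuotientGroup.induction_on with | _ a =>
  rw [← ofMul_mul, ← QuotientGroup.mk_mul, ← ofMul_one, Additive.ofMul.apply_eq_iff_eq,
    QuotientGroup.eq_one_iff, S.mem_center_iff]
  exact S.sub.sq_eq a.2

theorem neg_eq' (v : S.Vec) : -v = v := neg_eq_of_add_eq_zero_left (add_self' v)

theorem pr_inv {x : G} (hx : x ∈ S.Q) : S.pr x⁻¹ = S.pr x := by
  have h := pr_mul (S.Q.inv_mem hx) hx
  rw [inv_mul_cancel, pr_one] at h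
  rw [eq_neg_of_add_eq_zero_left h.symm, neg_eq']

theorem pr_eq_iff {x y : G} (hx : x ∈ S.Q) (hy : y ∈ S.Q) :
    S.pr x = S.pr y ↔ x = y ∨ x = S.z * y := by
  have h : S.pr (x * y⁻¹) = S.pr x + S.pr y := by rw [pr_mul hx (S.Q.inv_mem hy), pr_inv hy]
  constructor
  · intro e
    rw [e, add_self', pr_eq_zero (S.Q.mul_mem hx (S.Q.inv_mem hy))] at h
    rcases h with h | h
    · exact Or.inl (mul_inv_eq_one.mp h)
    · exact Or.inr (mul_inv_eq_iff_eq_mul.mp h)
  · rintro (rfl | rfl)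
    · rfl
    · rw [pr_mul S.sub.z_mem hy, pr_z, zero_add]

theorem pr_surj (v : S.Vec) : ∃ x ∈ S.Q, S.pr x = v := by
  obtain ⟨v, rfl⟩ := Additive.ofMul.surjective v
  induction v using QuotientGroup.induction_on with | _ a =>
  exact ⟨a, a.2, pr_of_mem a.2⟩

theorem card_vec [Finite G] : Nat.card S.Vec = 256 := by
  have h := Subgroup.card_eq_card_quotient_mul_card_subgroup (Subgroup.center ↥S.Q)
  rw [S.card_Q, S.sub.extra.2] at h
  rw [Nat.card_congr Additive.toMul]
  omega

/-! ### The action of the quotient -/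

theorem pr_conj_eq {m m' : ↥(Subgroup.centralizer ({S.z} : Set G))} (h : S.ρ m = S.ρ m') {x : G}
    (hx : x ∈ S.Q) : S.pr ((m : G) * x * (m : G)⁻¹) = S.pr ((m' : G) * x * (m' : G)⁻¹) := by
  have hq : (m : G)⁻¹ * m' ∈ S.Q := by
    have := (S.ρ_ker (m⁻¹ * m')).mp (by rw [map_mul, map_inv, h, inv_mul_cancel])
    simpa using this
  rw [pr_eq_iff (S.conj_mem' m hx) (S.conj_mem' m' hx)]
  rcases S.sub.conj_eq hq hx with e | e
  · left
    conv_lhs => rw [← e]
    group
  · right
    have e' : x = S.z * ((m : G)⁻¹ * m' * x * ((m : G)⁻¹ * m')⁻¹) := by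
      rw [e, ← mul_assoc, S.sub.mul_self, one_mul]
    conv_lhs => rw [e']
    rw [show (m : G) * (S.z * ((m : G)⁻¹ * m' * x * ((m : G)⁻¹ * m')⁻¹)) * (m : G)⁻¹ =
      (m : G) * S.z * ((m : G)⁻¹ * ((m' : G) * x * (m' : G)⁻¹)) by group, S.comm_C m]
    group

open Classical in
/-- The action of an element of the quotient as a function. -/
noncomputable def actFun (σ : P) (v : S.Vec) : S.Vec :=
  S.pr (((Classical.choose (S.ρ_surj σ) : ↥(Subgroup.centralizer ({S.z} : Set G))) : G) *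
    Classical.choose (pr_surj v) *
    ((Classical.choose (S.ρ_surj σ) : ↥(Subgroup.centralizer ({S.z} : Set G))) : G)⁻¹)

theorem actFun_pr (m : ↥(Subgroup.centralizer ({S.z} : Set G))) {x : G} (hx : x ∈ S.Q) :
    actFun (S.ρ m) (S.pr x) = S.pr ((m : G) * x * (m : G)⁻¹) := by
  unfold actFun
  obtain ⟨hy, hye⟩ := Classical.choose_spec (pr_surj (S.pr x))
  rw [pr_conj_eq (Classical.choose_spec (S.ρ_surj (S.ρ m))) hy]
  rw [pr_eq_iff (S.conj_mem' m hy) (S.conj_mem' m hx)]
  rcases (pr_eq_iff hy hx).mp hye with e | e <;> rw [e]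
  · exact Or.inl rfl
  · right
    rw [show (m : G) * (S.z * x) * (m : G)⁻¹ = (m : G) * S.z * x * (m : G)⁻¹ by group, S.comm_C m]
    group

variable (S)

/-- The action of `L` on `Q / Z(Q)`. -/
noncomputable def act : P →* AddMonoid.End S.Vec where
  toFun σ :=
    { toFun := actFun σ
      map_zero' := by
        obtain ⟨m, rfl⟩ := S.ρ_surj σ
        rw [← pr_one (S := S), actFun_pr m S.Q.one_mem]
        simp
      map_add' := fun v w => by
        obtain ⟨m, rfl⟩ := S.ρ_surj σ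
        obtain ⟨x, hx, rfl⟩ := pr_surj v
        obtain ⟨y, hy, rfl⟩ := pr_surj w
        rw [← pr_mul hx hy, actFun_pr m (S.Q.mul_mem hx hy), actFun_pr m hx, actFun_pr m hy,
          ← pr_mul (S.conj_mem' m hx) (S.conj_mem' m hy)]
        congr 1
        group }
  map_one' := by
    refine AddMonoidHom.ext fun v => ?_
    obtain ⟨x, hx, rfl⟩ := pr_surj v
    show actFun 1 (S.pr x) = S.pr x
    rw [← map_one S.ρ, actFun_pr 1 hx]
    simp
  map_mul' σ τ := by
    refine AddMonoidHom.ext fun v => ?_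
    obtain ⟨m, rfl⟩ := S.ρ_surj σ
    obtain ⟨n, rfl⟩ := S.ρ_surj τ
    obtain ⟨x, hx, rfl⟩ := pr_surj v
    show actFun (S.ρ m * S.ρ n) (S.pr x) = actFun (S.ρ m) (actFun (S.ρ n) (S.pr x))
    rw [← map_mul, actFun_pr _ hx, actFun_pr _ hx, actFun_pr _ (S.conj_mem' n hx)]
    congr 1
    simp [mul_assoc]

variable {S}

theorem act_pr (m : ↥(Subgroup.centralizer ({S.z} : Set G))) {x : G} (hx : x ∈ S.Q) :
    S.act (S.ρ m) (S.pr x) = S.pr ((m : G) * x * (m : G)⁻¹) :=
  actFun_pr m hx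

theorem act_mul (σ τ : P) (v : S.Vec) : S.act (σ * τ) v = S.act σ (S.act τ v) := by
  rw [map_mul]; rfl

@[simp] theorem act_one (v : S.Vec) : S.act 1 v = v := by rw [map_one]; rfl

theorem act_inv_act (σ : P) (v : S.Vec) : S.act σ⁻¹ (S.act σ v) = v := by
  rw [← act_mul, inv_mul_cancel, act_one]

theorem act_injective (σ : P) : Function.Injective (S.act σ) := fun v w h => by
  rw [← act_inv_act σ v, h, act_inv_act]

theorem eq_one_of_act {σ : P} (h : ∀ v, S.act σ v = v) : σ = 1 := by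
  obtain ⟨m, rfl⟩ := S.ρ_surj σ
  refine (S.ρ_ker m).mpr (S.faithful m m.2 fun e he => ?_)
  have h1 := (pr_eq_iff (S.conj_mem' m he) he).mp ((act_pr m he).symm.trans (h _))
  rcases h1 with e1 | e1 <;> rw [e1]
  · exact Or.inl (inv_mul_cancel e)
  · right
    rw [← S.sub.z_comm he, ← mul_assoc, inv_mul_cancel, one_mul]

/-! ### The forms -/

open Classical in
/-- The character of `⟨z⟩`. -/
noncomputable def zc (a : G) : ZMod 2 := if a = 1 then 0 else 1

@[simp] theorem zc_one : zc (1 : G) = 0 := if_pos rfl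

theorem zc_z : zc S.z = 1 := if_neg S.sub.ne_one

theorem zc_mul {a b : G} (ha : a = 1 ∨ a = S.z) (hb : b = 1 ∨ b = S.z) :
    zc (a * b) = zc a + zc b := by
  rcases ha with rfl | rfl <;> rcases hb with rfl | rfl
  · simp
  · simp
  · simp
  · rw [S.sub.mul_self, zc_one, zc_z]; decide

theorem zc_eq_zero {a : G} (h : zc a = (0 : ZMod 2)) : a = 1 := by
  by_contra hne
  rw [zc, if_neg hne] at h
  exact one_ne_zero h

variable (S)

open Classical in
/-- The quadratic form: squaring. -/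
noncomputable def q (v : S.Vec) : ZMod 2 :=
  zc (Classical.choose (pr_surj v) * Classical.choose (pr_surj v))

/-- The polar form: commutation. -/
noncomputable def B (v w : S.Vec) : ZMod 2 := S.q (v + w) + S.q v + S.q w

variable {S}

theorem q_pr {x : G} (hx : x ∈ S.Q) : S.q (S.pr x) = zc (x * x) := by
  unfold q
  obtain ⟨hy, hye⟩ := Classical.choose_spec (pr_surj (S.pr x))
  rcases (pr_eq_iff hy hx).mp hye with e | e <;> rw [e]
  rw [show S.z * x * (S.z * x) = S.z * (x * S.z) * x by group, S.sub.z_comm hx, ← mul_assoc,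
    S.sub.mul_self, one_mul]

theorem comm_cases {x y : G} (hx : x ∈ S.Q) (hy : y ∈ S.Q) :
    x * y * x⁻¹ * y⁻¹ = 1 ∨ x * y * x⁻¹ * y⁻¹ = S.z := S.sub.comm_eq hx hy

theorem B_pr {x y : G} (hx : x ∈ S.Q) (hy : y ∈ S.Q) :
    S.B (S.pr x) (S.pr y) = zc (x * y * x⁻¹ * y⁻¹) := by
  unfold B
  rw [← pr_mul hx hy, q_pr hx, q_pr hy, q_pr (S.Q.mul_mem hx hy)]
  have hx2 := S.sub.sq_eq hx
  have hy2 := S.sub.sq_eq hy
  have h1 : x * y * (x * y) = (x * y * x⁻¹ * y⁻¹) * ((x * x) * (y * y)) := by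
    rcases comm_cases hx hy with e | e <;> rw [e]
    · rw [mul_inv_eq_one, mul_inv_eq_iff_eq_mul] at e
      rw [one_mul, show x * y * (x * y) = x * (y * x) * y by group, ← e]
      group
    · have e' : x * y = S.z * (y * x) := by rw [← e]; group
      have e'' : y * x = S.z * (x * y) := by rw [e', ← mul_assoc, S.sub.mul_self, one_mul]
      rw [show x * y * (x * y) = x * (y * x) * y by group, e'',
        show x * (S.z * (x * y)) * y = x * S.z * (x * y * y) by group, S.sub.z_comm hx]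
      group
  have hxy2 : (x * x) * (y * y) = 1 ∨ (x * x) * (y * y) = S.z := by
    rcases hx2 with e | e <;> rcases hy2 with f | f <;> simp [e, f, S.sub.mul_self]
  rw [h1, zc_mul (comm_cases hx hy) hxy2, zc_mul hx2 hy2]
  generalize zc (x * x) = a
  generalize zc (y * y) = b
  generalize zc (x * y * x⁻¹ * y⁻¹) = d
  revert a b d
  decide

theorem q_add (v w : S.Vec) : S.q (v + w) = S.q v + S.q w + S.B v w := by
  unfold B
  generalize S.q (v + w) = a
  generalize S.q v = b
  generalize S.q w = c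
  revert a b c
  decide

theorem B_symm (v w : S.Vec) : S.B v w = S.B w v := by
  unfold B; rw [add_comm v w]; ring

theorem B_self (v : S.Vec) : S.B v v = 0 := by
  obtain ⟨x, hx, rfl⟩ := pr_surj v
  rw [B_pr hx hx]
  simp

theorem B_add_left (u v w : S.Vec) : S.B (u + v) w = S.B u w + S.B v w := by
  obtain ⟨x, hx, rfl⟩ := pr_surj u
  obtain ⟨y, hy, rfl⟩ := pr_surj v
  obtain ⟨t, ht, rfl⟩ := pr_surj w
  rw [← pr_mul hx hy, B_pr (S.Q.mul_mem hx hy) ht, B_pr hx ht, B_pr hy ht,
    S.sub.comm_mul_left hy ht (S.sub.z_comm hx), zc_mul (comm_cases hy ht) (comm_cases hx ht),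
    add_comm]

theorem B_add_right (u v w : S.Vec) : S.B u (v + w) = S.B u v + S.B u w := by
  rw [B_symm, B_add_left, B_symm v, B_symm w]

@[simp] theorem B_zero_left (v : S.Vec) : S.B 0 v = 0 := by
  have h := B_add_left 0 0 v
  rw [add_zero] at h
  exact left_eq_add.mp h

@[simp] theorem B_zero_right (v : S.Vec) : S.B v 0 = 0 := by rw [B_symm, B_zero_left]

theorem B_eq_zero_iff {x y : G} (hx : x ∈ S.Q) (hy : y ∈ S.Q) :
    S.B (S.pr x) (S.pr y) = 0 ↔ x * y = y * x := by
  rw [B_pr hx hy]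
  constructor
  · intro h
    exact mul_inv_eq_iff_eq_mul.mp (mul_inv_eq_one.mp (zc_eq_zero h))
  · intro h
    rw [mul_inv_eq_one.mpr (mul_inv_eq_iff_eq_mul.mpr h), zc_one]

theorem exists_B_one {v : S.Vec} (hv : v ≠ 0) : ∃ w, S.B v w = 1 := by
  obtain ⟨x, hx, rfl⟩ := pr_surj v
  have hne := fun e => hv ((pr_eq_zero hx).mpr e)
  obtain ⟨y, hy, hyx⟩ := S.sub.exists_not_commute (fun e => hne (Or.inl e)) (fun e => hne (Or.inr e))
  refine ⟨S.pr y, ?_⟩
  have : S.B (S.pr x) (S.pr y) ≠ 0 := fun e => hyx ((B_eq_zero_iff hx hy).mp e).symm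
  generalize S.B (S.pr x) (S.pr y) = a at this
  revert this a
  decide

theorem q_act (σ : P) (v : S.Vec) : S.q (S.act σ v) = S.q v := by
  obtain ⟨m, rfl⟩ := S.ρ_surj σ
  obtain ⟨x, hx, rfl⟩ := pr_surj v
  rw [act_pr m hx, q_pr (S.conj_mem' m hx), q_pr hx]
  rw [show (m : G) * x * (m : G)⁻¹ * ((m : G) * x * (m : G)⁻¹) =
    (m : G) * (x * x) * (m : G)⁻¹ by group]
  rcases S.sub.sq_eq hx with e | e <;> rw [e]
  · simp
  · rw [mul_inv_eq_iff_eq_mul.mpr (S.comm_C m)]

theorem B_act (σ : P) (v w : S.Vec) : S.B (S.act σ v) (S.act σ w) = S.B v w := by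
  unfold B
  rw [← map_add, q_act, q_act, q_act]

/-- A totally isotropic subgroup has at most sixteen elements. -/
theorem card_isotropic_le [Finite G] (X : AddSubgroup S.Vec)
    (h : ∀ v ∈ X, ∀ w ∈ X, S.B v w = 0) : Nat.card X ≤ 16 := by
  have := Fact.mk Nat.prime_two
  let K : Subgroup ↥S.Q :=
    { carrier := {x | S.pr (x : G) ∈ X}
      one_mem' := by simp
      mul_mem' := fun {a b} ha hb => by
        show S.pr ((a : G) * b) ∈ X
        rw [pr_mul a.2 b.2]
        exact X.add_mem ha hb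
      inv_mem' := fun {a} ha => by
        show S.pr ((a : G)⁻¹) ∈ X
        rw [pr_inv a.2]
        exact ha }
  have hZ : Subgroup.center ↥S.Q ≤ K := fun a ha => by
    show S.pr (a : G) ∈ X
    rw [(pr_eq_zero a.2).mpr ((S.mem_center_iff a).mp ha)]
    exact X.zero_mem
  have hKK : K ≤ Subgroup.centralizer (K : Set ↥S.Q) := fun a ha =>
    Subgroup.mem_centralizer_iff.mpr fun b hb =>
      Subtype.ext ((B_eq_zero_iff b.2 a.2).mp (h _ hb _ ha))
  have h1 := CfsgLib.ExtraspecialBasic.card_centralizer_mul_card S.sub.extra hZ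
  have h2 : Nat.card K = 2 * Nat.card X := by
    let f : ↥K →* Multiplicative ↥X :=
      { toFun := fun a => Multiplicative.ofAdd ⟨S.pr ((a : S.Q) : G), a.2⟩
        map_one' := by
          rw [← ofAdd_zero]
          exact congrArg Multiplicative.ofAdd (Subtype.ext pr_one)
        map_mul' := fun a b => by
          rw [← ofAdd_add]
          exact congrArg Multiplicative.ofAdd (Subtype.ext (pr_mul (a : S.Q).2 (b : S.Q).2)) }
    have hf : Function.Surjective f := fun v => by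
      obtain ⟨x, hx, hxv⟩ := pr_surj ((Multiplicative.toAdd v : ↥X) : S.Vec)
      exact ⟨⟨⟨x, hx⟩, show S.pr x ∈ X from hxv ▸ (Multiplicative.toAdd v).2⟩,
        congrArg Multiplicative.ofAdd (Subtype.ext hxv)⟩
    have hk : f.ker = (Subgroup.center ↥S.Q).subgroupOf K := by
      ext a
      rw [MonoidHom.mem_ker, Subgroup.mem_subgroupOf, S.mem_center_iff,
        ← pr_eq_zero (a : S.Q).2]
      show Multiplicative.ofAdd (⟨_, a.2⟩ : ↥X) = 1 ↔ _
      rw [← ofAdd_zero, Multiplicative.ofAdd.apply_eq_iff_eq, Subtype.ext_iff]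
      rfl
    have h3 := Subgroup.card_eq_card_quotient_mul_card_subgroup f.ker
    rw [Nat.card_congr (QuotientGroup.quotientKerEquivOfSurjective f hf).toEquiv,
      Nat.card_congr Multiplicative.toAdd, hk,
      Nat.card_congr (Subgroup.subgroupOfEquivOfLe hZ).toEquiv, S.sub.extra.2] at h3
    rw [h3, mul_comm]
  have h4 := Subgroup.card_le_of_le hKK
  rw [h2] at h1 h4
  rw [S.card_Q] at h1
  nlinarith

end Shape

end CfsgLib.USixRec
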