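import Cfsg.Agent.USixRec.Data
import Cfsg.Agent.SpFourThree70.Recognition

/-!
# Words in six generators of `PSp₄(3)`

A vector of the natural module is a number below 81 in base 3, so the image of a word in the group
is decided by the images of the four basis vectors up to a common sign.
-/

set_option autoImplicit false
set_option maxRecDepth 100000

namespace CfsgLib.USixRec

open Matrix CfsgLib.SpFourThree70

local notation "Sp3" => Matrix.symplecticGroup (Fin 2) (ZMod 3)

/-- The vector of a code. -/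
def v3 (n : ℕ) : Fin 2 ⊕ Fin 2 → ZMod 3 := fun i => ((n / 3 ^ num i % 3 : ℕ) : ZMod 3)

/-- The image of a coded vector under a generator. -/
def app3 (k n : ℕ) : ℕ := Nat.land (Nat.shiftRight (tabs.getD k idTab) (7 * n)) 127

/-- The image of a coded vector under a word. -/
def wv : List ℕ → ℕ → ℕ
  | [], n => n
  | k :: w, n => app3 k (wv w n)

/-- The code of the opposite vector. -/
def neg3 (n : ℕ) : ℕ :=
  (3 - n % 3) % 3 + 3 * ((3 - n / 3 % 3) % 3) + 9 * ((3 - n / 9 % 3) % 3) + 27 * ((3 - n / 27 % 3) % 3)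

/-- Lexicographic comparison. -/
def leL : List ℕ → List ℕ → Bool
  | a :: as, b :: bs => Nat.blt a b || (Nat.beq a b && leL as bs)
  | _, _ => true

/-- The images of the basis, normalised up to sign. -/
def key (w : List ℕ) : List ℕ :=
  bif leL [wv w 1, wv w 3, wv w 9, wv w 27] [neg3 (wv w 1), neg3 (wv w 3), neg3 (wv w 9), neg3 (wv w 27)]
  then [wv w 1, wv w 3, wv w 9, wv w 27]
  else [neg3 (wv w 1), neg3 (wv w 3), neg3 (wv w 9), neg3 (wv w 27)]

/-- The inverse of a word: the first four generators have order three, the others order two. -/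
def winv : List ℕ → List ℕ
  | [] => []
  | k :: w => winv w ++ bif Nat.blt k 4 then [k, k] else [k]

/-- The matrix of a generator. -/
def gM (k : ℕ) : Matrix (Fin 2 ⊕ Fin 2) (Fin 2 ⊕ Fin 2) (ZMod 3) :=
  Matrix.of fun i j => v3 (app3 k (3 ^ num j)) i

theorem tabs_getD {k : ℕ} (hk : 6 ≤ k) : tabs.getD k idTab = tabs.getD 6 idTab := by
  rw [List.getD_eq_default _ _ (show tabs.length ≤ k from hk),
    List.getD_eq_default _ _ (show tabs.length ≤ 6 from le_rfl)]

theorem gen_chk : ∀ k < 7, ∀ n < 81,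
    gM k *ᵥ v3 n = v3 (app3 k n) ∧ app3 k n < 81 := by decide +kernel

theorem gen_sympl_chk : ∀ k < 7,
    gM k * Matrix.J (Fin 2) (ZMod 3) * (gM k)ᵀ = Matrix.J (Fin 2) (ZMod 3) := by decide +kernel

theorem reduce_six {p : ℕ → Prop} (h : ∀ k < 7, p k) (hp : ∀ k, 6 ≤ k → p 6 → p k) (k : ℕ) : p k := by
  by_cases hk : k < 7
  · exact h k hk
  · exact hp k (by omega) (h 6 (by norm_num))

theorem gen_spec : ∀ k, ∀ n < 81, gM k *ᵥ v3 n = v3 (app3 k n) ∧ app3 k n < 81 :=
  reduce_six gen_chk fun k hk h n hn => by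
    have h' := h n hn
    simp only [gM, app3, tabs_getD hk] at h' ⊢
    exact h'

theorem gM_mem : ∀ k, gM k ∈ Sp3 := fun k => SymplecticGroup.mem_iff.2 <|
  reduce_six (p := fun k => gM k * Matrix.J (Fin 2) (ZMod 3) * (gM k)ᵀ = Matrix.J (Fin 2) (ZMod 3))
    gen_sympl_chk (fun k hk h => by simpa only [gM, app3, tabs_getD hk] using h) k

/-- A generator of the symplectic group. -/
def gS (k : ℕ) : Sp3 := ⟨gM k, gM_mem k⟩

/-- The product of a word. -/
def wS (w : List ℕ) : Sp3 := (w.map gS).prod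

/-- Its image in `PSp₄(3)`. -/
def wP (w : List ℕ) : P := toP (wS w)

theorem wv_spec : ∀ (w : List ℕ) {n : ℕ}, n < 81 →
    (wS w).1 *ᵥ v3 n = v3 (wv w n) ∧ wv w n < 81
  | [], n, hn => ⟨one_mulVec _, hn⟩
  | k :: w, n, hn => by
    obtain ⟨h1, h2⟩ := wv_spec w hn
    obtain ⟨h3, h4⟩ := gen_spec k _ h2
    refine ⟨?_, h4⟩
    show (wS (k :: w)).1 *ᵥ v3 n = v3 (app3 k (wv w n))
    rw [wS, List.map_cons, List.prod_cons, Submonoid.coe_mul, ← mulVec_mulVec, ← wS, h1]
    exact h3

theorem neg3_spec : ∀ n < 81, v3 (neg3 n) = -v3 n := by decide +kernel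

theorem basis_chk : ∀ j : Fin 2 ⊕ Fin 2,
    3 ^ num j < 81 ∧ 3 ^ num j ∈ [1, 3, 9, 27] ∧ v3 (3 ^ num j) = Pi.single j 1 := by decide +kernel

theorem ext_of_basis {A B : Matrix (Fin 2 ⊕ Fin 2) (Fin 2 ⊕ Fin 2) (ZMod 3)}
    (h : ∀ n ∈ [1, 3, 9, 27], A *ᵥ v3 n = B *ᵥ v3 n) : A = B := by
  ext i j
  obtain ⟨-, hm, he⟩ := basis_chk j
  have := congrFun (h _ hm) i
  rw [he, mulVec_single_one, mulVec_single_one] at this
  exact this

/-- Equal keys give equal elements. -/
theorem wP_eq {w w' : List ℕ} (h : key w = key w') : wP w = wP w' := by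
  have hkey : ∀ u : List ℕ, ∃ ε : ZMod 3, (ε = 1 ∨ ε = -1) ∧ ∀ i, (hi : i < 4) →
      v3 ((key u).getD i 0) = ε • ((wS u).1 *ᵥ v3 ([1, 3, 9, 27].getD i 0)) := by
    intro u
    unfold key
    cases leL _ _
    · refine ⟨-1, Or.inr rfl, fun i hi => ?_⟩
      interval_cases i <;>
        simp only [cond_false, List.getD_cons_zero, List.getD_cons_succ, neg_one_smul,
          (wv_spec u (show 1 < 81 by norm_num)).1, (wv_spec u (show 3 < 81 by norm_num)).1,
          (wv_spec u (show 9 < 81 by norm_num)).1, (wv_spec u (show 27 < 81 by norm_num)).1] <;>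
        exact neg3_spec _ (wv_spec u (by norm_num)).2
    · refine ⟨1, Or.inl rfl, fun i hi => ?_⟩
      interval_cases i <;>
        simp only [cond_true, List.getD_cons_zero, List.getD_cons_succ, one_smul,
          (wv_spec u (show 1 < 81 by norm_num)).1, (wv_spec u (show 3 < 81 by norm_num)).1,
          (wv_spec u (show 9 < 81 by norm_num)).1, (wv_spec u (show 27 < 81 by norm_num)).1]
  obtain ⟨ε, hε, e1⟩ := hkey w
  obtain ⟨δ, hδ, e2⟩ := hkey w'
  have hcmp : ε • (wS w).1 = δ • (wS w').1 := ext_of_basis fun n hn => by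
    simp only [List.mem_cons, List.not_mem_nil, or_false] at hn
    rw [smul_mulVec, smul_mulVec]
    rcases hn with rfl | rfl | rfl | rfl
    · exact (e1 0 (by norm_num)).symm.trans ((congrArg (fun l : List ℕ => v3 (l.getD 0 0)) h).trans (e2 0 (by norm_num)))
    · exact (e1 1 (by norm_num)).symm.trans ((congrArg (fun l : List ℕ => v3 (l.getD 1 0)) h).trans (e2 1 (by norm_num)))
    · exact (e1 2 (by norm_num)).symm.trans ((congrArg (fun l : List ℕ => v3 (l.getD 2 0)) h).trans (e2 2 (by norm_num)))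
    · exact (e1 3 (by norm_num)).symm.trans ((congrArg (fun l : List ℕ => v3 (l.getD 3 0)) h).trans (e2 3 (by norm_num)))
  refine toP_eq_iff.2 ?_
  rcases hε with rfl | rfl <;> rcases hδ with rfl | rfl <;>
    simp only [one_smul, neg_one_smul] at hcmp
  · exact Or.inl hcmp.symm
  · exact Or.inr (by rw [hcmp, neg_neg])
  · exact Or.inr hcmp.symm
  · exact Or.inl (neg_injective hcmp).symm

@[simp] theorem wP_nil : wP [] = 1 := map_one toP

theorem wP_cons (k : ℕ) (w : List ℕ) : wP (k :: w) = wP [k] * wP w := by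
  simp [wP, wS, map_mul]

theorem wP_append (w w' : List ℕ) : wP (w ++ w') = wP w * wP w' := by
  simp [wP, wS, List.map_append, List.prod_append, map_mul]

/-- A relation decided on keys. -/
theorem wP_eq_one {w : List ℕ} (h : key w = key []) : wP w = 1 := (wP_eq h).trans wP_nil

theorem winv_chk : ∀ k < 7, key ((bif Nat.blt k 4 then [k, k] else [k]) ++ [k]) = key [] := by
  decide +kernel

theorem wP_winv : ∀ w : List ℕ, (∀ k ∈ w, k < 6) → wP (winv w) = (wP w)⁻¹
  | [], _ => by simp [winv]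
  | k :: w, h => by
    have hk := wP_eq_one (winv_chk k (by have := h k List.mem_cons_self; omega))
    rw [wP_append] at hk
    rw [winv, wP_append, wP_winv w fun j hj => h j (List.mem_cons_of_mem _ hj), wP_cons k w,
      _root_.mul_inv_rev, eq_inv_of_mul_eq_one_left hk]

theorem genWords_sign : ∀ i < 5,
    (∀ j : Fin 2 ⊕ Fin 2, (fun r => genMat i r j) = v3 (wv (genWords.getD i []) (3 ^ num j))) ∨
    ∀ j : Fin 2 ⊕ Fin 2, (fun r => genMat i r j) = -v3 (wv (genWords.getD i []) (3 ^ num j)) := by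
  decide +kernel

theorem genP_eq_wP {i : ℕ} (hi : i < 5) : genP i = wP (genWords.getD i []) := by
  refine toP_eq_iff.2 ?_
  have hg : (genSp i).1 = genMat i := by rw [genSp, dif_pos hi]
  have hcol : ∀ (j : Fin 2 ⊕ Fin 2) r,
      (wS (genWords.getD i [])).1 r j = v3 (wv (genWords.getD i []) (3 ^ num j)) r := fun j r => by
    obtain ⟨h1, -, h3⟩ := basis_chk j
    rw [← (wv_spec _ h1).1, h3, mulVec_single_one]
    rfl
  rw [hg]
  rcases genWords_sign i hi with h | h
  · exact Or.inl (Matrix.ext fun r j => (hcol j r).trans (congrFun (h j) r).symm)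
  · exact Or.inr (Matrix.ext fun r j => by
      rw [Matrix.neg_apply, hcol, show genMat i r j = -v3 _ r from congrFun (h j) r, neg_neg])

theorem genWords_lt : ∀ i < 5, ∀ k ∈ genWords.getD i [], k < 6 := by decide +kernel

/-- The six generators generate. -/
theorem closure_gens : Subgroup.closure {y : P | ∃ k, k < 6 ∧ y = wP [k]} = ⊤ := by
  have hw : ∀ w : List ℕ, (∀ k ∈ w, k < 6) → wP w ∈ Subgroup.closure {y : P | ∃ k, k < 6 ∧ y = wP [k]} := by
    intro w
    induction w with
    | nil => intro _; rw [wP_nil]; exact one_mem _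
    | cons k w ih =>
      intro h
      rw [wP_cons]
      exact mul_mem (Subgroup.subset_closure ⟨k, h k List.mem_cons_self, rfl⟩)
        (ih fun j hj => h j (List.mem_cons_of_mem _ hj))
  rw [eq_top_iff, ← closure_genP, Subgroup.closure_le]
  rintro _ ⟨i, hi, rfl⟩
  rw [genP_eq_wP hi]
  exact hw _ (genWords_lt i hi)

theorem exists_word (x : P) : ∃ w : List ℕ, (∀ k ∈ w, k < 6) ∧ wP w = x := by
  have hx : x ∈ Subgroup.closure {y : P | ∃ k, k < 6 ∧ y = wP [k]} := closure_gens ▸ Subgroup.mem_top x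
  induction hx using Subgroup.closure_induction with
  | mem y hy => obtain ⟨k, hk, rfl⟩ := hy; exact ⟨[k], by simpa using hk, rfl⟩
  | one => exact ⟨[], by simp, wP_nil⟩
  | mul y z _ _ ihy ihz =>
    obtain ⟨a, ha, rfl⟩ := ihy
    obtain ⟨b, hb, rfl⟩ := ihz
    exact ⟨a ++ b, fun k hk => (List.mem_append.1 hk).elim (ha k) (hb k), wP_append a b⟩
  | inv y _ ih =>
    obtain ⟨a, ha, rfl⟩ := ih
    refine ⟨winv a, ?_, wP_winv a ha⟩
    clear * - ha
    induction a with
    | nil => simp [winv]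
    | cons k a iha =>
      intro j hj
      rw [winv, List.mem_append] at hj
      rcases hj with hj | hj
      · exact iha (fun i hi => ha i (List.mem_cons_of_mem _ hi)) j hj
      · have hk := ha k List.mem_cons_self
        revert hj; cases Nat.blt k 4 <;> simp <;> omega

end CfsgLib.USixRec
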